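import Cfsg.Agent.H51.StabMaxU

/-!
Short root elements of the special unitary group: `z ↦ z + c h(z,y) x - c^q h(z,x) y` for orthogonal isotropic
vectors `x`, `y`, and how transvection groups arise from them.
-/

set_option autoImplicit false

namespace H51

namespace ShortU

open Matrix Cfsg H50 StabMax

variable {F : Type*} [Field F] {n q : ℕ}

local notation "V" => (Fin n → F)
local notation "hh" => Cfsg.hermForm n F q

/-- `A` is the short root element of `(x, y)` with parameter `c`. -/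
def IsSr (x y : V) (c : F) (A : SU n F q) : Prop :=
  ∀ z, suMat A *ᵥ z = z + (c * hh z y) • x - (c ^ q * hh z x) • y

/-- An orthogonal isotropic pair all of whose short root elements lie in `K`. -/
def IsShort (K : Subgroup (SU n F q)) (x y : V) : Prop :=
  hh x x = 0 ∧ hh y y = 0 ∧ hh x y = 0 ∧ ∀ (A : SU n F q) (c : F), IsSr x y c A → A ∈ K

variable [Fintype F] (hF : Fintype.card F = q ^ 2)
include hF

theorem exists_sr {x y : V} (hxx : hh x x = 0) (hyy : hh y y = 0) (hxy : hh x y = 0) (c : F) :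
    ∃ A : SU n F q, IsSr x y c A := by
  have hyx : hh y x = 0 := (h_eq_zero_comm hF).1 hxy
  refine ⟨eich hF x (-(c ^ q) • y) 0 hxx (by rw [h_smul_left, hyx, mul_zero])
    (by rw [h_smul_left, h_smul_right hF, hyy, zero_pow (q_ne_zero hF)]; ring), fun z => ?_⟩
  rw [suMat_eich, h_smul_right hF, neg_pow_q hF, pow_q_pow_q hF]
  module

theorem exists_skew_eq {t : F} (ht : t + t ^ q = 0) : ∃ e : F, e - e ^ q = t := by
  obtain ⟨d, hd⟩ := exists_trace_ne_zero hF
  refine ⟨t * (d / (d + d ^ q)), ?_⟩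
  have ht' : t ^ q = -t := by linear_combination ht
  rw [mul_pow, div_pow, trace_fixed hF, ht']
  field_simp
  ring

theorem exists_not_fixed : ∃ u : F, u ^ q ≠ u := by
  by_contra hcon
  push Not at hcon
  have h1 : Nat.card {x : F // x ^ q = x} = Fintype.card F := by
    rw [Nat.card_congr (Equiv.subtypeUnivEquiv hcon), Nat.card_eq_fintype_card]
  rw [card_fixed hF, hF] at h1
  have := two_le hF
  nlinarith

theorem short_group {K : Subgroup (SU n F q)} {x y : V} (h : IsShort K x y) {g : SU n F q}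
    (hg : g ∈ K) : IsShort K (suMat g *ᵥ x) (suMat g *ᵥ y) := by
  refine ⟨by rw [suMat_h, h.1], by rw [suMat_h, h.2.1], by rw [suMat_h, h.2.2.1], fun A c hA => ?_⟩
  have h1 : g⁻¹ * A * g ∈ K := h.2.2.2 _ c fun z => by
    rw [suMat_mulVec_mul, suMat_mulVec_mul, hA, mulVec_sub, mulVec_add, mulVec_smul, mulVec_smul,
      suMat_inv_mulVec, suMat_inv_mulVec, suMat_inv_mulVec, suMat_h, suMat_h]
  have h2 := mul_mem (mul_mem hg h1) (inv_mem hg)
  rwa [show g * (g⁻¹ * A * g) * g⁻¹ = A by group] at h2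

theorem short_swap {K : Subgroup (SU n F q)} {x y : V} (h : IsShort K x y) : IsShort K y x := by
  refine ⟨h.2.1, h.1, (h_eq_zero_comm hF).1 h.2.2.1, fun A c hA => h.2.2.2 A (-(c ^ q)) fun z => ?_⟩
  rw [hA z, neg_pow_q hF, pow_q_pow_q hF]
  module

theorem short_sub {K : Subgroup (SU n F q)} {x y z : V} (h : IsShort K x y)
    (h' : IsShort K x (y + z)) (hk : hh y z = 0) : IsShort K x z := by
  obtain ⟨hxx, hyy, hxy, hy⟩ := h
  obtain ⟨-, hzz', hxz', hz⟩ := h'
  have hyx := (h_eq_zero_comm hF).1 hxy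
  have hzy := (h_eq_zero_comm hF).1 hk
  have hxz : hh x z = 0 := by rwa [h_add_right hF, hxy, zero_add] at hxz'
  have hzx := (h_eq_zero_comm hF).1 hxz
  have hzz : hh z z = 0 := by
    rwa [h_add_left, h_add_right hF, h_add_right hF, hyy, hk, hzy, zero_add, zero_add, zero_add] at hzz'
  refine ⟨hxx, hzz, hxz, fun A c hA => ?_⟩
  obtain ⟨B, hB⟩ := exists_sr hF hxx hzz' (by rw [h_add_right hF, hxy, hxz, add_zero]) c
  obtain ⟨C, hC⟩ := exists_sr hF hxx hyy hxy (-c)
  have e : A = B * C := suMat_ext fun w => by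
    rw [hA w, suMat_mulVec_mul, hC w, hB]
    simp only [h_add_left, h_add_right hF, h_sub_left, h_smul_left, hxx, hyy, hxy, hyx, hxz, hk,
      neg_pow_q hF]
    module
  exact e ▸ mul_mem (hz B c hB) (hy C _ hC)

/-- A short root pair `(x, x)` is a transvection group. -/
theorem short_ctr_self {K : Subgroup (SU n F q)} {x : V} (h : IsShort K x x) : IsCtr K x := by
  refine ⟨h.1, fun A t ht hA => ?_⟩
  obtain ⟨e, he⟩ := exists_skew_eq hF ht
  refine h.2.2.2 A e fun z => ?_
  rw [hA, ut_mulVec, ← he]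
  module

/-- Two short root groups with a common vector and non-orthogonal partners give a transvection group. -/
theorem short_ctr {K : Subgroup (SU n F q)} {x y y' : V} (h : IsShort K x y) (h' : IsShort K x y')
    (hk : hh y y' ≠ 0) : IsCtr K x := by
  obtain ⟨hxx, hyy, hxy, hy⟩ := h
  obtain ⟨-, hy'y', hxy', hy'⟩ := h'
  refine ⟨hxx, fun A t ht hA => ?_⟩
  obtain ⟨e, he⟩ := exists_skew_eq hF ht
  set d := e / hh y y' with hd
  have hde : d * hh y y' = e := div_mul_cancel₀ _ hk
  have hde' : d ^ q * hh y' y = e ^ q := by rw [← hde, mul_pow, h_symm hF y y']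
  obtain ⟨B, hB⟩ := exists_sr hF hxx hyy hxy 1
  obtain ⟨C, hC⟩ := exists_sr hF hxx hy'y' hxy' d
  have e1 : C * B * A = B * C := suMat_ext fun w => by
    have hyx := (h_eq_zero_comm hF).1 hxy
    have hy'x := (h_eq_zero_comm hF).1 hxy'
    rw [suMat_mulVec_mul, suMat_mulVec_mul, suMat_mulVec_mul, hA, ut_mulVec, hC w, hB, hC, hB, ← he,
      ← hde', ← hde]
    simp only [h_add_left, h_sub_left, h_smul_left, hxx, hxy, hxy', hyx, hy'x, one_pow]
    module
  have : A = (C * B)⁻¹ * (B * C) := by rw [← e1]; group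
  rw [this]
  exact mul_mem (inv_mem (mul_mem (hy' C _ hC) (hy B _ hB))) (mul_mem (hy B _ hB) (hy' C _ hC))

/-- An isotropic combination of two non-orthogonal centres is a centre. -/
theorem ctr_comb {K : Subgroup (SU n F q)} {v x : V} (hv : IsCtr K v) (hx : IsCtr K x) {r : F}
    (hk : hh v x ≠ 0) (hr : r / hh v x + (r / hh v x) ^ q = 0) : IsCtr K (v + r • x) := by
  have := ctr_step hF hv hx hr
  rwa [div_mul_cancel₀ _ hk] at this

end ShortU

end H51
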