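import Cfsg.Prelude.Def_GeometricClasses
import Cfsg.Agent.H50.Generation

/-!
Maximality of the stabilisers of totally singular and of non-degenerate subspaces in the special
unitary group, through centres of transvection groups.
-/

set_option autoImplicit false

namespace H51

namespace StabMax

open Matrix Cfsg H50

variable {F : Type*} [Field F] {n q : ℕ}

local notation "V" => (Fin n → F)
local notation "hh" => Cfsg.hermForm n F q

/-- The inclusion of `SU` in `GL`. -/
def suHom (n : ℕ) (F : Type*) [Field F] (q : ℕ) : SU n F q →* GL (Fin n) F :=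
  Matrix.SpecialLinearGroup.toGL.comp (SU n F q).subtype

theorem suHom_val (g : SU n F q) : (suHom n F q g : Matrix (Fin n) (Fin n) F) = suMat g := rfl

theorem suHom_mem (g : SU n F q) : suHom n F q g ∈ GU n F q ⊓ Geo.specialLinear (Fin n) F :=
  ⟨SU_isIso g, MonoidHom.mem_ker.2 (Units.ext (by
    rw [Matrix.GeneralLinearGroup.val_det_apply, suHom_val, Units.val_one]
    exact g.1.2))⟩

theorem exists_suHom_eq {g : GL (Fin n) F} (hg : g ∈ GU n F q ⊓ Geo.specialLinear (Fin n) F) :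
    ∃ s : SU n F q, suHom n F q s = g := by
  have hd := congrArg Units.val (MonoidHom.mem_ker.1 hg.2)
  rw [Matrix.GeneralLinearGroup.val_det_apply] at hd
  exact ⟨⟨⟨(g : Matrix (Fin n) (Fin n) F), hd⟩, hg.1⟩, Units.ext rfl⟩

theorem stab_iff (g : SU n F q) (W : Submodule F V) (h : ∀ w ∈ W, suMat g *ᵥ w ∈ W) (v : V) :
    v ∈ W ↔ suMat g *ᵥ v ∈ W := by
  refine ⟨h v, fun hv => ?_⟩
  let L : V →ₗ[F] V := Matrix.mulVecLin (suMat g)
  have hL : Function.Injective L := fun x y hxy => by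
    change suMat g *ᵥ x = suMat g *ᵥ y at hxy
    rw [← suMat_inv_mulVec g x, hxy, suMat_inv_mulVec]
  have hle : W.map L ≤ W := Submodule.map_le_iff_le_comap.mpr fun w hw => h w hw
  have heq : W.map L = W := Submodule.eq_of_le_of_finrank_eq hle
    (Submodule.equivMapOfInjective L hL W).finrank_eq.symm
  rw [← heq] at hv
  obtain ⟨w, hw, hwv⟩ := hv
  have : w = v := hL hwv
  rwa [← this]

/-- Common reduction to the special unitary group. -/
theorem isMaximalIn_stab (W : Submodule F V)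
    (hne : ∃ g : SU n F q, ¬ ∀ w ∈ W, suMat g *ᵥ w ∈ W)
    (hmax : ∀ K : Subgroup (SU n F q), (∀ g : SU n F q, (∀ w ∈ W, suMat g *ᵥ w ∈ W) → g ∈ K) →
      (∃ g ∈ K, ¬ ∀ w ∈ W, suMat g *ᵥ w ∈ W) → K = ⊤) :
    Geo.IsMaximalIn (GU n F q ⊓ Geo.specialLinear (Fin n) F)
      (Geo.subspaceStabilizer W ⊓ (GU n F q ⊓ Geo.specialLinear (Fin n) F)) := by
  refine ⟨lt_of_le_of_ne inf_le_right ?_, fun M hHM hMK => ?_⟩
  · intro heq
    obtain ⟨g, hg⟩ := hne
    apply hg
    have : suHom n F q g ∈ Geo.subspaceStabilizer W ⊓ (GU n F q ⊓ Geo.specialLinear (Fin n) F) := by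
      rw [heq]; exact suHom_mem g
    exact fun w hw => (this.1 w).1 hw
  by_cases hle : M ≤ Geo.subspaceStabilizer W
  · exact Or.inl (le_antisymm (le_inf hle hMK) hHM)
  obtain ⟨g, hgM, hgW⟩ := SetLike.not_le_iff_exists.mp hle
  refine Or.inr (le_antisymm hMK fun s hs => ?_)
  have hK : M.comap (suHom n F q) = ⊤ := by
    refine hmax _ (fun a ha => hHM ⟨stab_iff a W ha, suHom_mem a⟩) ?_
    obtain ⟨g', rfl⟩ := exists_suHom_eq (hMK hgM)
    exact ⟨g', hgM, fun h => hgW (stab_iff g' W h)⟩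
  obtain ⟨s', rfl⟩ := exists_suHom_eq hs
  have : s' ∈ M.comap (suHom n F q) := by rw [hK]; trivial
  exact this

/-- `v` is the centre of a transvection group contained in `K`. -/
def IsCtr (K : Subgroup (SU n F q)) (v : V) : Prop :=
  hh v v = 0 ∧ ∀ (A : SU n F q) (c : F), c + c ^ q = 0 →
    suMat A = unitaryTransvection n q v c → A ∈ K

theorem ctr_zero (K : Subgroup (SU n F q)) : IsCtr K (0 : V) := by
  refine ⟨h_zero_left _, fun A c _ hA => ?_⟩
  have : A = 1 := suMat_ext fun x => by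
    rw [hA, suMat_one, ut_mulVec, smul_zero, add_zero, one_mulVec]
  exact this ▸ one_mem K

theorem ctr_group {K : Subgroup (SU n F q)} {v : V} (hv : IsCtr K v) {g : SU n F q} (hg : g ∈ K) :
    IsCtr K (suMat g *ᵥ v) := by
  refine ⟨by rw [suMat_h, hv.1], fun A c hc hA => ?_⟩
  have : g⁻¹ * A * g ∈ K := hv.2 _ c hc (by
    rw [suMat_mul, suMat_mul, hA, iso_mul_ut (SU_isIso g⁻¹), mul_assoc, ← suMat_mul,
      inv_mul_cancel, suMat_one, mul_one, suMat_inv_mulVec])
  have h2 := mul_mem (mul_mem hg this) (inv_mem hg)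
  have e : g * (g⁻¹ * A * g) * g⁻¹ = A := by group
  rwa [e] at h2

variable [Fintype F] (hF : Fintype.card F = q ^ 2)
include hF

theorem ctr_smul {K : Subgroup (SU n F q)} {v : V} (hv : IsCtr K v) (a : F) :
    IsCtr K (a • v) := by
  refine ⟨by rw [h_smul_left, h_smul_right hF, hv.1, mul_zero, mul_zero], fun A c hc hA =>
    hv.2 A (c * (a * a ^ q)) ?_ ?_⟩
  · rw [mul_pow, mul_pow, pow_q_pow_q hF]
    linear_combination (a * a ^ q) * hc
  · rw [hA]
    refine Matrix.ext_of_mulVec_single fun i => ?_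
    rw [ut_mulVec, ut_mulVec, h_smul_right hF, smul_smul]
    congr 2
    ring

theorem ctr_step {K : Subgroup (SU n F q)} {v x : V} (hv : IsCtr K v) (hx : IsCtr K x) {c : F}
    (hc : c + c ^ q = 0) : IsCtr K (v + (c * hh v x) • x) := by
  have := ctr_group hv (hx.2 (tv hF x c hx.1 hc) c hc rfl)
  rwa [tv_mulVec] at this

theorem eq_top_of_ctr (hn : 4 ≤ n) (K : Subgroup (SU n F q))
    (h : ∀ v : V, hh v v = 0 → IsCtr K v) : K = ⊤ := by
  rw [eq_top_iff, ← transSub_eq_top hF n (by omega) (by omega), transSub, Subgroup.closure_le]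
  rintro A ⟨v, c, hv, hA⟩
  rcases eq_or_ne v 0 with rfl | hv0
  · have : A = 1 := suMat_ext fun x => by
      rw [hA, suMat_one, ut_mulVec, smul_zero, add_zero, one_mulVec]
    exact this ▸ one_mem K
  · refine (h v hv).2 A c ?_ hA
    have := (ut_isIso_iff hF hv0 (c := c)).1 (hA ▸ SU_isIso A)
    rwa [hv, mul_zero, add_zero] at this

theorem mem_of_perp_perp {W : Submodule F V} {u : V}
    (h : ∀ y, (∀ w ∈ W, hh y w = 0) → hh y u = 0) : u ∈ W := by
  classical
  let b := Module.finBasis F W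
  have hker : (⨅ i, LinearMap.ker (hLeft n q (b i : V))) ≤ LinearMap.ker (hLeft n q u) := by
    intro y hy
    rw [Submodule.mem_iInf] at hy
    refine h y fun w hw => ?_
    have hw' : w = ∑ i, b.repr ⟨w, hw⟩ i • (b i : V) := by
      conv_lhs => rw [← Subtype.coe_mk w hw, ← b.sum_repr ⟨w, hw⟩]
      simp [-Module.Basis.sum_repr]
    rw [hw', h_sum_right hF]
    refine Finset.sum_eq_zero fun i _ => ?_
    rw [h_smul_right hF, show hh y (b i : V) = 0 from hy i, mul_zero]
  obtain ⟨c, hc⟩ := (Submodule.mem_span_range_iff_exists_fun F).1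
    (mem_span_of_iInf_ker_le_ker hker)
  have hu : u - ∑ i, (c i) ^ q • (b i : V) = 0 := eq_zero_of_h_right hF fun y => by
    have := congrArg (fun φ => φ y) hc
    simp only [LinearMap.coe_sum, Finset.sum_apply, LinearMap.smul_apply, smul_eq_mul] at this
    rw [h_sub_right hF, h_sum_right hF, sub_eq_zero]
    simp only [h_smul_right hF, pow_q_pow_q hF]
    exact this.symm
  rw [sub_eq_zero] at hu
  rw [hu]
  exact W.sum_mem fun i _ => W.smul_mem _ (b i).2

/-- A hyperbolic partner inside a subspace. -/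
theorem exists_partner_in {U : Submodule F V} {b w : V} (hb : b ∈ U) (hbb : hh b b = 0)
    (hw : w ∈ U) (hbw : hh b w ≠ 0) : ∃ f ∈ U, IsHyp q b f := by
  set t := ((hh b w)⁻¹) ^ q with ht
  have htw : hh b (t • w) = 1 := by
    rw [h_smul_right hF, ht, pow_q_pow_q hF, inv_mul_cancel₀ hbw]
  have hwt : hh (t • w) b = 1 := by rw [h_symm hF b (t • w), htw, one_pow]
  obtain ⟨a, ha⟩ := exists_trace_eq hF (c := -hh (t • w) (t • w))
    (by rw [neg_pow_q hF, h_self_fixed hF])
  refine ⟨t • w + a • b, U.add_mem (U.smul_mem _ hw) (U.smul_mem _ hb), hbb, ?_, ?_⟩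
  · rw [h_add_left, h_add_right hF, h_add_right hF, h_smul_left a, h_smul_right hF a,
      h_smul_left a, h_smul_right hF a, hbb, htw, hwt]
    linear_combination ha
  · rw [h_add_right hF, h_smul_right hF a, hbb, htw, mul_zero, add_zero]

/-- Totally singular subspaces: the stabiliser is maximal. -/
theorem singular_stab_maximal (hn : 4 ≤ n) (W : Submodule F V) (hW0 : W ≠ ⊥)
    (hW : ∀ u ∈ W, ∀ v ∈ W, hh u v = 0) :
    Geo.IsMaximalIn (GU n F q ⊓ Geo.specialLinear (Fin n) F)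
      (Geo.subspaceStabilizer W ⊓ (GU n F q ⊓ Geo.specialLinear (Fin n) F)) := by
  obtain ⟨w, hw, hw0⟩ := (Submodule.ne_bot_iff W).mp hW0
  obtain ⟨c₀, hc₀, hc₀'⟩ := exists_trace_zero_ne_zero hF
  refine isMaximalIn_stab W ?_ ?_
  · obtain ⟨f, hf⟩ := exists_hyp_partner hF hw0 (hW w hw w hw)
    refine ⟨tv hF f c₀ hf.2.1 (by assumption), fun h => ?_⟩
    have h1 := hW _ (h w hw) w hw
    rw [tv_mulVec, h_add_left, h_smul_left, hW w hw w hw, hf.2.2, (hf.symm hF).2.2] at h1
    simp at h1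
    first | exact hc₀ h1 | exact hc₀' h1
  intro K hP hgK
  obtain ⟨g, hg, hgW⟩ := hgK
  let P : Submodule F V := perp q (W : Set V)
  have hperp : ∀ x ∈ P, hh x x = 0 → IsCtr K x := by
    intro x hx hxx
    refine ⟨hxx, fun A c _ hA => hP A fun u hu => ?_⟩
    rw [hA, ut_mulVec, (h_eq_zero_comm hF).1 (mem_perp.1 hx u hu), mul_zero, zero_smul, add_zero]
    exact hu
  obtain ⟨v₀, hv₀, hv₀P⟩ : ∃ v, IsCtr K v ∧ v ∉ P := by
    by_contra hcon
    push Not at hcon
    apply hgW
    intro u hu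
    let S := {x : V // x ∈ P ∧ hh x x = 0}
    let φ : S → S := fun x => ⟨suMat g *ᵥ x.1,
      hcon _ (ctr_group (hperp x.1 x.2.1 x.2.2) hg), by rw [suMat_h, x.2.2]⟩
    have hφ : Function.Surjective φ := Finite.surjective_of_injective fun x y hxy => by
      have := congrArg (fun z : S => suMat g⁻¹ *ᵥ z.1) hxy
      simp only [φ, suMat_inv_mulVec] at this
      exact Subtype.ext this
    have huP : u ∈ P := mem_perp.2 fun y hy => hW u hu y hy
    obtain ⟨hguP, hguu⟩ := (φ ⟨u, huP, hW u hu u hu⟩).2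
    simp only [φ] at hguP hguu
    by_contra hgu
    obtain ⟨y, hy, hyu⟩ : ∃ y, (∀ w ∈ W, hh y w = 0) ∧ hh y (suMat g *ᵥ u) ≠ 0 := by
      by_contra hno
      push Not at hno
      exact hgu (mem_of_perp_perp hF hno)
    obtain ⟨f, hfP, hf⟩ := exists_partner_in hF hguP hguu (mem_perp.2 hy)
      (fun e => hyu ((h_eq_zero_comm hF).1 e))
    obtain ⟨x, hx⟩ := hφ ⟨f, hfP, hf.2.1⟩
    have hx' : suMat g *ᵥ x.1 = f := congrArg Subtype.val hx
    have h1 := hf.2.2
    rw [← hx', suMat_h, (h_eq_zero_comm hF).1 (mem_perp.1 x.2.1 u hu)] at h1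
    exact zero_ne_one h1
  refine eq_top_of_ctr hF hn K fun b hbb => ?_
  by_cases hbP : b ∈ P
  · exact hperp b hbP hbb
  obtain ⟨e, he, hev, heb⟩ : ∃ e ∈ W, hh v₀ e ≠ 0 ∧ hh b e ≠ 0 := by
    obtain ⟨e₁, he₁, h1⟩ : ∃ e ∈ W, hh v₀ e ≠ 0 := by
      by_contra hno; push Not at hno; exact hv₀P (mem_perp.2 hno)
    obtain ⟨e₂, he₂, h2⟩ : ∃ e ∈ W, hh b e ≠ 0 := by
      by_contra hno; push Not at hno; exact hbP (mem_perp.2 hno)
    by_cases h12 : hh b e₁ = 0
    · by_cases h21 : hh v₀ e₂ = 0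
      · exact ⟨e₁ + e₂, W.add_mem he₁ he₂, by rwa [h_add_right hF, h21, add_zero],
          by rwa [h_add_right hF, h12, zero_add]⟩
      · exact ⟨e₂, he₂, h21, h2⟩
    · exact ⟨e₁, he₁, h1, h12⟩
  set e' := ((hh v₀ e)⁻¹) ^ q • e with he'
  have he'W : e' ∈ W := W.smul_mem _ he
  have hve : hh v₀ e' = 1 := by
    rw [he', h_smul_right hF, pow_q_pow_q hF, inv_mul_cancel₀ hev]
  have hbe : hh b e' ≠ 0 := by
    rw [he', h_smul_right hF, pow_q_pow_q hF]
    exact mul_ne_zero (inv_ne_zero hev) heb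
  set y := (hh b e')⁻¹ • b with hy
  have hye : hh y e' = 1 := by rw [hy, h_smul_left, inv_mul_cancel₀ hbe]
  have hyy : hh y y = 0 := by
    simp only [hy, h_smul_left, h_smul_right hF, hbb, mul_zero]
  have hwe : hh (y - v₀) e' = 0 := by rw [h_sub_left, hye, hve, sub_self]
  have ha : hh v₀ y + (hh v₀ y) ^ q + hh (y - v₀) (y - v₀) = 0 := by
    rw [h_sub_left, h_sub_right hF, h_sub_right hF, hyy, hv₀.1, ← h_symm hF v₀ y]
    ring
  have hE : eich hF e' (y - v₀) (hh v₀ y) (hW _ he'W _ he'W) hwe ha ∈ K := hP _ fun u hu => by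
    rw [suMat_eich, hW u hu e' he'W, zero_smul, add_zero]
    exact W.add_mem hu (W.smul_mem _ he'W)
  have h1 := ctr_group hv₀ hE
  rw [suMat_eich, hve, one_smul, h_sub_right hF, hv₀.1, mul_one, sub_zero, sub_self, zero_smul,
    add_zero, add_sub_cancel] at h1
  have h2 := ctr_smul hF h1 (hh b e')
  rwa [hy, smul_smul, mul_inv_cancel₀ hbe, one_smul] at h2

/-- Isometries of a standard space are transitive on non-zero vectors of a given norm. -/
theorem exists_iso_map {k : ℕ} {x y : Fin k → F} (hx : x ≠ 0) (hy : y ≠ 0)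
    (h : hermForm k F q x x = hermForm k F q y y) :
    ∃ M : Matrix (Fin k) (Fin k) F, IsIso q M ∧ M *ᵥ x = y := by
  by_cases h0 : hermForm k F q x x = 0
  · obtain ⟨f, hf⟩ := exists_hyp_partner hF hx h0
    obtain ⟨f', hf'⟩ := exists_hyp_partner hF hy (h ▸ h0)
    obtain ⟨M, hM, hMb⟩ := exists_iso_of_sameGram hF (hf.gramND hF) (hf.sameGram hF hf')
    exact ⟨M, hM, hMb 0⟩
  · have hnd : GramND q (fun _ : Unit => x) := fun c hc => by
      have := hc ()
      simp [h_smul_left] at this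
      funext i
      exact this.resolve_right h0
    obtain ⟨M, hM, hMb⟩ := exists_iso_of_sameGram hF hnd (b' := fun _ : Unit => y) fun _ _ => h
    exact ⟨M, hM, hMb ()⟩

theorem exists_nonzero_norm {U : Submodule F V} (hU : IsNondeg q U)
    (hdim : 2 ≤ Module.finrank F U) {r : F} (hr : r ^ q = r) :
    ∃ z ∈ U, z ≠ 0 ∧ hh z z = r := by
  obtain ⟨u, hu, huU⟩ := exists_ON_in hF hU 2 hdim
  by_cases hr0 : r = 0
  · obtain ⟨μ, hμ⟩ := exists_norm_eq hF (c := -1) (by rw [neg_pow_q hF, one_pow])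
    refine ⟨u 0 + μ • u 1, U.add_mem (huU 0) (U.smul_mem _ (huU 1)), fun e => ?_, ?_⟩
    · have := congrArg (fun z => hh z (u 0)) e
      simp [h_add_left, h_smul_left, h_zero_left, hu _ _] at this
    · simp [h_add_left, h_add_right hF, h_smul_left, h_smul_right hF, hu _ _, hr0]
      rw [pow_succ] at hμ
      linear_combination hμ
  · obtain ⟨x, hx⟩ := exists_norm_eq hF hr
    refine ⟨x • u 0, U.smul_mem _ (huU 0), fun e => ?_, ?_⟩
    · have := congrArg (fun z => hh z (u 0)) e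
      simp [h_smul_left, h_zero_left, hu _ _] at this
      apply hr0
      rw [← hx, this, zero_pow (Nat.succ_ne_zero q)]
    · simp [h_smul_left, h_smul_right hF, hu _ _]
      rw [pow_succ] at hx
      linear_combination hx

/-- The stabiliser of `W` is transitive on pairs of vectors of given norms. -/
theorem stab_trans {W : Submodule F V} {k : ℕ} {d : Fin k → V} (hd : IsON q d)
    (hspan : Submodule.span F (Set.range d) = W) (hk : k + 2 < n) {a a' b b' : V}
    (ha : a ∈ W) (ha' : a' ∈ W) (ha0 : a ≠ 0) (ha'0 : a' ≠ 0) (haa : hh a a = hh a' a')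
    (hb : b ∈ perp q (Set.range d)) (hb' : b' ∈ perp q (Set.range d)) (hb0 : b ≠ 0) (hb'0 : b' ≠ 0)
    (hbb : hh b b = hh b' b') :
    ∃ g : SU n F q, (∀ w ∈ W, suMat g *ᵥ w ∈ W) ∧ suMat g *ᵥ a = a' ∧ suMat g *ᵥ b = b' := by
  classical
  let emb : (Fin k → F) →ₗ[F] V := Fintype.linearCombination F d
  have hemb : ∀ x, emb x = ∑ i, x i • d i := fun x => Fintype.linearCombination_apply F d x
  have hembh : ∀ x y, hh (emb x) (emb y) = hermForm k F q x y := fun x y => by
    rw [hemb y, h_sum_right hF]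
    simp only [h_smul_right hF, hemb, IsON.coeff hF hd]
    rw [hermForm]
    exact Finset.sum_congr rfl fun i _ => mul_comm _ _
  have hsurj : ∀ w ∈ W, ∃ x, emb x = w := fun w hw => by
    rw [← hspan, Submodule.mem_span_range_iff_exists_fun] at hw
    obtain ⟨x, hx⟩ := hw
    exact ⟨x, by rw [hemb]; exact hx⟩
  have hmem : ∀ x, emb x ∈ W := fun x => by
    rw [← hspan, hemb]
    exact Submodule.sum_mem _ fun i _ => Submodule.smul_mem _ _ (Submodule.subset_span ⟨i, rfl⟩)
  obtain ⟨x, rfl⟩ := hsurj a ha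
  obtain ⟨x', rfl⟩ := hsurj a' ha'
  rw [hembh, hembh] at haa
  obtain ⟨M, hM, hMx⟩ := exists_iso_map hF (x := x) (y := x') (fun e => ha0 (by rw [e, map_zero]))
    (fun e => ha'0 (by rw [e, map_zero])) haa
  let d' : Fin k → V := fun i => emb (M *ᵥ Pi.single i 1)
  have hd' : IsON q d' := fun i j => by
    show hh (emb _) (emb _) = _
    rw [hembh, hM, h_single_single hF]
  have hperp : ∀ c ∈ perp q (Set.range d), ∀ w ∈ W, hh w c = 0 := by
    intro c hc w hw
    obtain ⟨z, rfl⟩ := hsurj w hw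
    rw [hemb, h_sum_left]
    exact Finset.sum_eq_zero fun i _ => by
      rw [h_smul_left, (h_eq_zero_comm hF).1 (mem_perp_range.1 hc i), mul_zero]
  have hdW : ∀ i, d i ∈ W := fun i => hspan ▸ Submodule.subset_span ⟨i, rfl⟩
  have key : ∀ {ι : Type} [Fintype ι] (i₀ : ι) (B B' : ι → V), GramND q B → SameGram q B B' →
      (∀ i, B i ∈ perp q (Set.range d)) → (∀ i, B' i ∈ perp q (Set.range d)) →
      B i₀ = b → B' i₀ = b' → Fintype.card ι ≤ 2 →
      ∃ g : SU n F q, (∀ w ∈ W, suMat g *ᵥ w ∈ W) ∧ suMat g *ᵥ emb x = emb x' ∧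
        suMat g *ᵥ b = b' := by
    intro ι _ i₀ B B' hB hBB hBp hBp' hB0 hB0' hι
    obtain ⟨g, hg⟩ := exists_SU_of_sameGram hF
      (b := Sum.elim B d) (b' := Sum.elim B' d')
      (sumElim_gramND hF hB hd fun l i => hperp _ (hBp i) _ (hdW l))
      (sumElim_sameGram hF hBB hd hd' (fun l i => hperp _ (hBp i) _ (hdW l))
        (fun l i => hperp _ (hBp' i) _ (hmem _))) (by simp; omega)
    have hgd : ∀ z, suMat g *ᵥ emb z = emb (M *ᵥ z) := by
      intro z
      rw [hemb z, Matrix.mulVec_sum]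
      simp only [Matrix.mulVec_smul]
      have : ∀ i, suMat g *ᵥ d i = d' i := fun i => hg (Sum.inr i)
      simp only [this, d', ← map_smul, ← map_sum, ← Matrix.mulVec_smul, ← Matrix.mulVec_sum]
      congr 2
      exact (pi_eq_sum_univ' z).symm
    refine ⟨g, fun w hw => ?_, by rw [hgd, hMx], ?_⟩
    · obtain ⟨z, rfl⟩ := hsurj w hw
      rw [hgd]; exact hmem _
    · rw [← hB0, ← hB0']; exact hg (Sum.inl i₀)
  have hPnd : IsNondeg q (perp q (Set.range d)) := GramND.isNondeg_perp hF (IsON.gramND hF hd)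
  by_cases h0 : hh b b = 0
  · have hpartner : ∀ c ∈ perp q (Set.range d), c ≠ 0 → hh c c = 0 →
        ∃ f ∈ perp q (Set.range d), IsHyp q c f := fun c hc hc0 hcc => by
      obtain ⟨w, hw, hcw⟩ : ∃ w ∈ perp q (Set.range d), hh c w ≠ 0 := by
        by_contra hno; push Not at hno; exact hc0 (hPnd c hc hno)
      exact exists_partner_in hF hc hcc hw hcw
    obtain ⟨f, hfP, hf⟩ := hpartner b hb hb0 h0
    obtain ⟨f', hfP', hf'⟩ := hpartner b' hb' hb'0 (hbb ▸ h0)
    exact key (0 : Fin 2) ![b, f] ![b', f'] (hf.gramND hF) (hf.sameGram hF hf')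
      (fun i => by fin_cases i; exacts [hb, hfP]) (fun i => by fin_cases i; exacts [hb', hfP'])
      rfl rfl (by simp)
  · exact key () (fun _ => b) (fun _ => b') (fun c hc => by
      have := hc ()
      simp [h_smul_left] at this
      funext i
      exact this.resolve_right h0) (fun _ _ => hbb) (fun _ => hb) (fun _ => hb') rfl rfl (by simp)

/-- Non-degenerate subspaces of dimension less than `n / 2`: the stabiliser is maximal. -/
theorem nondeg_stab_maximal (hn : 5 ≤ n) (W : Submodule F V) (hW0 : W ≠ ⊥)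
    (hnd : IsNondeg q W) (hdim : 2 * Module.finrank F W < n) :
    Geo.IsMaximalIn (GU n F q ⊓ Geo.specialLinear (Fin n) F)
      (Geo.subspaceStabilizer W ⊓ (GU n F q ⊓ Geo.specialLinear (Fin n) F)) := by
  classical
  obtain ⟨k, hk⟩ : ∃ k, Module.finrank F W = k := ⟨_, rfl⟩
  obtain ⟨d, hd, hdW, hspan⟩ := exists_ON_basis hF hnd hk
  let U : Submodule F V := perp q (Set.range d)
  have hUnd : IsNondeg q U := GramND.isNondeg_perp hF (IsON.gramND hF hd)
  have hUfr : k + Module.finrank F U = n := by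
    have := finrank_perp_range hF (IsON.linearIndependent hF hd)
    simp at this
    show k + Module.finrank F (perp q (Set.range d)) = n
    omega
  have hWU : ∀ a ∈ W, ∀ b ∈ U, hh a b = 0 := by
    intro a ha b hb
    rw [← hspan, Submodule.mem_span_range_iff_exists_fun] at ha
    obtain ⟨x, rfl⟩ := ha
    rw [h_sum_left]
    exact Finset.sum_eq_zero fun i _ => by
      rw [h_smul_left, (h_eq_zero_comm hF).1 (mem_perp_range.1 hb i), mul_zero]
  have hUW : ∀ a ∈ W, ∀ b ∈ U, hh b a = 0 := fun a ha b hb =>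
    (h_eq_zero_comm hF).1 (hWU a ha b hb)
  have hdec : ∀ v : V, ∃ a ∈ W, ∃ b ∈ U, a + b = v := fun v =>
    ⟨∑ i, hh v (d i) • d i, W.sum_mem fun i _ => W.smul_mem _ (hdW i),
      v - ∑ i, hh v (d i) • d i, mem_perp_range.2 fun j => by
        rw [h_sub_left, IsON.coeff hF hd, sub_self], add_sub_cancel _ _⟩
  have hdisj : ∀ x ∈ W, x ∈ U → x = 0 := fun x hx hxU =>
    hnd x hx fun v hv => hUW v hv x hxU
  have hnorm : ∀ a ∈ W, ∀ b ∈ U, hh (a + b) (a + b) = hh a a + hh b b := fun a ha b hb => by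
    rw [h_add_left, h_add_right hF, h_add_right hF, hWU a ha b hb, hUW a ha b hb, add_zero,
      zero_add]
  have hinner : ∀ a ∈ W, ∀ b ∈ U, ∀ a' ∈ W, ∀ b' ∈ U, hh (a + b) (a' + b') = hh a a' + hh b b' :=
    fun a ha b hb a' ha' b' hb' => by
      rw [h_add_left, h_add_right hF, h_add_right hF, hWU a ha b' hb', hUW a' ha' b hb, add_zero,
        zero_add]
  obtain ⟨c₀, hc₀, hc₀'⟩ := exists_trace_zero_ne_zero hF
  refine isMaximalIn_stab W ?_ ?_
  · obtain ⟨a, ha, haa⟩ := exists_norm_one_mem hF hnd hW0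
    obtain ⟨b, hb, hb0, hbb⟩ := exists_nonzero_norm hF hUnd (by omega) (r := -1)
      (by rw [neg_pow_q hF, one_pow])
    have hv : hh (a + b) (a + b) = 0 := by rw [hnorm a ha b hb, haa, hbb, add_neg_cancel]
    refine ⟨tv hF (a + b) c₀ hv (by assumption), fun h => hb0 (hdisj b ?_ hb)⟩
    have h1 := h a ha
    rw [tv_mulVec, h_add_right hF, haa, hWU a ha b hb, add_zero, mul_one,
      W.add_mem_iff_right ha, W.smul_mem_iff (by assumption), W.add_mem_iff_right ha] at h1
    exact h1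
  intro K hP hgK
  obtain ⟨g, hg, hgW⟩ := hgK
  have hWC : ∀ x ∈ W, hh x x = 0 → IsCtr K x := fun x hx hxx =>
    ⟨hxx, fun A c _ hA => hP A fun u hu => by
      rw [hA, ut_mulVec]; exact W.add_mem hu (W.smul_mem _ hx)⟩
  have hUC : ∀ x ∈ U, hh x x = 0 → IsCtr K x := fun x hx hxx =>
    ⟨hxx, fun A c _ hA => hP A fun u hu => by
      rw [hA, ut_mulVec, hWU u hu x hx, mul_zero, zero_smul, add_zero]; exact hu⟩
  have hmove : ∀ {a b a' b' : V}, a ∈ W → a ≠ 0 → b ∈ U → b ≠ 0 → a' ∈ W → a' ≠ 0 → b' ∈ U →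
      b' ≠ 0 → hh a a = hh a' a' → hh b b = hh b' b' → IsCtr K (a + b) → IsCtr K (a' + b') := by
    intro a b a' b' ha ha0 hb hb0 ha' ha'0 hb' hb'0 haa hbb hC
    obtain ⟨s, hsW, hsa, hsb⟩ := stab_trans hF hd hspan (by omega) ha ha' ha0 ha'0 haa hb hb' hb0
      hb'0 hbb
    have := ctr_group hC (hP s hsW)
    rwa [mulVec_add, hsa, hsb] at this
  -- a mixed centre
  obtain ⟨a₀, ha₀, ha₀0, b₀, hb₀, hb₀0, hC₀⟩ :
      ∃ a ∈ W, a ≠ 0 ∧ ∃ b ∈ U, b ≠ 0 ∧ IsCtr K (a + b) := by
    by_contra hcon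
    simp only [not_exists, not_and] at hcon
    have hsplit : ∀ x ∈ U, hh x x = 0 → suMat g *ᵥ x ∈ W ∨ suMat g *ᵥ x ∈ U := by
      intro x hx hxx
      obtain ⟨a, ha, b, hb, hab⟩ := hdec (suMat g *ᵥ x)
      rcases eq_or_ne a 0 with rfl | ha0
      · exact Or.inr (by rwa [← hab, zero_add])
      · rcases eq_or_ne b 0 with rfl | hb0
        · exact Or.inl (by rwa [← hab, add_zero])
        · exact absurd (hab ▸ ctr_group (hUC x hx hxx) hg) (hcon a ha ha0 b hb hb0)
    let L : V →ₗ[F] V := Matrix.mulVecLin (suMat g)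
    have hLinj : Function.Injective L := fun x y hxy => by
      change suMat g *ᵥ x = suMat g *ᵥ y at hxy
      rw [← suMat_inv_mulVec g x, hxy, suMat_inv_mulVec]
    -- isotropic vectors of `U` span it
    let S : Set V := {x | x ∈ U ∧ hh x x = 0}
    have hS : ∀ x ∈ U, x ∈ Submodule.span F S := by
      intro x hx
      by_cases hxx : hh x x = 0
      · exact Submodule.subset_span ⟨hx, hxx⟩
      have hnd2 : GramND q (Sum.elim (fun _ : Unit => x) d) :=
        sumElim_gramND hF (fun c hc => by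
          have := hc ()
          simp [h_smul_left] at this
          funext i
          exact this.resolve_right hxx) hd fun l _ => hWU _ (hdW l) x hx
      have hfr := finrank_perp_range hF (GramND.linearIndependent hF hnd2)
      simp at hfr
      obtain ⟨z, hz, -, hzz⟩ := exists_nonzero_norm hF (GramND.isNondeg_perp hF hnd2)
        (by omega) (r := -hh x x) (by rw [neg_pow_q hF, h_self_fixed hF])
      have hz' := mem_perp_range.1 hz
      have hzU : z ∈ U := mem_perp_range.2 fun l => hz' (Sum.inr l)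
      have hzx : hh z x = 0 := hz' (Sum.inl ())
      have hxz : hh x z = 0 := (h_eq_zero_comm hF).1 hzx
      obtain ⟨μ, hμ⟩ := exists_norm_eq hF (c := (1 : F)) (one_pow _)
      obtain ⟨c, hc⟩ : ∃ c : F, c ^ (q + 1) = 1 ∧ c ≠ 1 := by
        obtain ⟨d, hd⟩ := exists_trace_zero_ne_zero hF
        have := natCard_norm_ker hF
        by_contra hno
        push Not at hno
        have hk1 : ∀ u : (powMonoidHom (q + 1) : Fˣ →* Fˣ).ker, ((u : Fˣ) : F) ^ (q + 1) = 1 :=
          fun u => by rw [← Units.val_pow_eq_pow_val, show (u : Fˣ) ^ (q + 1) = 1 from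
            MonoidHom.mem_ker.1 u.2, Units.val_one]
        have h2 : Nat.card (powMonoidHom (q + 1) : Fˣ →* Fˣ).ker ≤ 1 := by
          rw [Finite.card_le_one_iff_subsingleton]
          refine ⟨fun u v => Subtype.ext (Units.ext ?_)⟩
          rw [hno _ (hk1 u), hno _ (hk1 v)]
        have := two_le hF
        omega
      have h1 : x + z ∈ Submodule.span F S := Submodule.subset_span ⟨U.add_mem hx hzU, by
        rw [h_add_left, h_add_right hF, h_add_right hF, hzz, hzx, hxz]; ring⟩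
      have h2 : x + c • z ∈ Submodule.span F S := Submodule.subset_span
        ⟨U.add_mem hx (U.smul_mem _ hzU), by
          rw [h_add_left, h_add_right hF, h_add_right hF, h_smul_left, h_smul_left,
            h_smul_right hF, h_smul_right hF, hzz, hzx, hxz]
          have h1' := hc.1
          rw [pow_succ] at h1'
          linear_combination (-hh x x) * h1'⟩
      have : x = (1 - c)⁻¹ • ((x + c • z) - c • (x + z)) := by
        rw [show (x + c • z) - c • (x + z) = (1 - c) • x by module, smul_smul,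
          inv_mul_cancel₀ (sub_ne_zero.2 (Ne.symm hc.2)), one_smul]
      rw [this]
      exact Submodule.smul_mem _ _ (sub_mem h2 (Submodule.smul_mem _ _ h1))
    have hcases : (∀ x ∈ S, suMat g *ᵥ x ∈ W) ∨ (∀ x ∈ S, suMat g *ᵥ x ∈ U) := by
      refine or_iff_not_imp_left.mpr fun hnW y hy => ?_
      push Not at hnW
      obtain ⟨z, hz, hzW⟩ := hnW
      have hzU : suMat g *ᵥ z ∈ U := (hsplit z hz.1 hz.2).resolve_left hzW
      by_contra hyU
      have hyW : suMat g *ᵥ y ∈ W := (hsplit y hy.1 hy.2).resolve_right hyU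
      have hyz : hh y z = 0 := by rw [← suMat_h g, hWU _ hyW _ hzU]
      have hs := hsplit (y + z) (U.add_mem hy.1 hz.1) (by
        rw [h_add_left, h_add_right hF, h_add_right hF, hy.2, hz.2, hyz,
          (h_eq_zero_comm hF).1 hyz]; ring)
      rw [mulVec_add] at hs
      rcases hs with h | h
      · exact hzW ((W.add_mem_iff_right hyW).1 h)
      · exact hyU ((U.add_mem_iff_left hzU).1 h)
    rcases hcases with h | h
    · have hle : U.map L ≤ W := by
        rintro _ ⟨x, hx, rfl⟩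
        exact (Submodule.span_le (p := W.comap L)).2 (fun y hy => h y hy) (hS x hx)
      have := Submodule.finrank_mono hle
      rw [← (Submodule.equivMapOfInjective L hLinj U).finrank_eq] at this
      omega
    · have hgU : ∀ x ∈ U, suMat g *ᵥ x ∈ U := fun x hx =>
        (Submodule.span_le (p := U.comap L)).2 (fun y hy => h y hy) (hS x hx)
      apply hgW
      intro u hu
      obtain ⟨a, ha, b, hb, hab⟩ := hdec (suMat g *ᵥ u)
      have hb0 : b = 0 := hUnd b hb fun v hv => by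
        have hv' : suMat g⁻¹ *ᵥ v ∈ U := (stab_iff g U hgU _).2 (by rwa [suMat_mulVec_inv])
        have h0 := hWU u hu _ hv'
        rw [← suMat_h g, suMat_mulVec_inv, ← hab, h_add_left, hWU a ha v hv, zero_add] at h0
        exact h0
      rw [← hab, hb0, add_zero]
      exact ha
  -- a centre with anisotropic components
  obtain ⟨a₁, ha₁, b₁, hb₁, hl, hC₁⟩ :
      ∃ a ∈ W, ∃ b ∈ U, hh a a ≠ 0 ∧ IsCtr K (a + b) := by
    by_cases hl : hh a₀ a₀ = 0
    swap
    · exact ⟨a₀, ha₀, b₀, hb₀, hl, hC₀⟩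
    obtain ⟨w, hw, haw⟩ : ∃ w ∈ W, hh a₀ w ≠ 0 := by
      by_contra hno; push Not at hno; exact ha₀0 (hnd a₀ ha₀ hno)
    obtain ⟨f, hfW, hf⟩ := exists_partner_in hF ha₀ hl hw haw
    have hbb : hh b₀ b₀ = 0 := by
      have := hC₀.1
      rwa [hnorm a₀ ha₀ b₀ hb₀, hl, zero_add] at this
    obtain ⟨w', hw', hbw⟩ : ∃ w ∈ U, hh b₀ w ≠ 0 := by
      by_contra hno; push Not at hno; exact hb₀0 (hUnd b₀ hb₀ hno)
    obtain ⟨fU, hfU, hfu⟩ := exists_partner_in hF hb₀ hbb hw' hbw
    obtain ⟨s, hs⟩ := exists_trace_ne_zero hF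
    have hc0 : c₀ ≠ 0 := by assumption
    set μ := s / c₀ - 1 with hμ
    obtain ⟨b', hb', hb'0, hb'b', hb'b⟩ :
        ∃ b' ∈ U, b' ≠ 0 ∧ hh b' b' = 0 ∧ hh b' b₀ = μ := by
      by_cases hμ0 : μ = 0
      · exact ⟨b₀, hb₀, hb₀0, hbb, by rw [hbb, hμ0]⟩
      · exact ⟨μ • fU, U.smul_mem _ hfU, smul_ne_zero hμ0 ((hfu.symm hF).fst_ne_zero hF),
          by rw [h_smul_left, h_smul_right hF, hfu.2.1, mul_zero, mul_zero],
          by rw [h_smul_left, (hfu.symm hF).2.2, mul_one]⟩
    have hC' : IsCtr K (f + b') := hmove ha₀ ha₀0 hb₀ hb₀0 hfW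
      ((hf.symm hF).fst_ne_zero hF) hb' hb'0 (by rw [hl, hf.2.1]) (by rw [hbb, hb'b']) hC₀
    have h1 := ctr_step hF hC' hC₀ (c := c₀) (by assumption)
    have hip : c₀ * hh (f + b') (a₀ + b₀) = s := by
      rw [hinner f hfW b' hb' a₀ ha₀ b₀ hb₀, (hf.symm hF).2.2, hb'b, hμ]
      field_simp
      ring
    rw [hip, smul_add, add_add_add_comm] at h1
    refine ⟨_, W.add_mem hfW (W.smul_mem _ ha₀), _, U.add_mem hb' (U.smul_mem _ hb₀), ?_, h1⟩
    simp only [h_add_left, h_add_right hF, h_smul_left, h_smul_right hF, hf.2.1, hl, hf.2.2,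
      (hf.symm hF).2.2, mul_one, mul_zero, add_zero, zero_add]
    exact fun e => hs (by linear_combination e)
  have hb₁b : hh b₁ b₁ = -hh a₁ a₁ := by
    have := hC₁.1
    rw [hnorm a₁ ha₁ b₁ hb₁] at this
    linear_combination this
  have ha₁0 : a₁ ≠ 0 := fun e => hl (by rw [e, h_zero_left])
  have hb₁0 : b₁ ≠ 0 := fun e => hl (by
    rw [e, h_zero_left, eq_comm, neg_eq_zero] at hb₁b; exact hb₁b)
  refine eq_top_of_ctr hF (by omega) K fun v hv => ?_
  obtain ⟨a', ha', b', hb', rfl⟩ := hdec v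
  rw [hnorm a' ha' b' hb'] at hv
  rcases eq_or_ne a' 0 with rfl | ha'0
  · rw [zero_add]; exact hUC _ hb' (by rwa [h_zero_left, zero_add] at hv)
  rcases eq_or_ne b' 0 with rfl | hb'0
  · rw [add_zero]; exact hWC _ ha' (by rwa [h_zero_left, add_zero] at hv)
  by_cases hl' : hh a' a' = 0
  swap
  · obtain ⟨t, ht⟩ := exists_norm_eq hF (c := hh a' a' / hh a₁ a₁)
      (by rw [div_pow, h_self_fixed hF, h_self_fixed hF])
    have ht0 : t ≠ 0 := fun e => by
      rw [e, zero_pow (Nat.succ_ne_zero q), eq_comm, div_eq_zero_iff] at ht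
      exact ht.elim hl' hl
    have htn : hh (t • a₁) (t • a₁) = hh a' a' := by
      rw [h_smul_left, h_smul_right hF, ← mul_assoc, ← pow_succ', ht, div_mul_cancel₀ _ hl]
    refine hmove (W.smul_mem t ha₁) (smul_ne_zero ht0 ha₁0) (U.smul_mem t hb₁)
      (smul_ne_zero ht0 hb₁0) ha' ha'0 hb' hb'0 htn ?_ (by
        rw [← smul_add]; exact ctr_smul hF hC₁ t)
    rw [h_smul_left, h_smul_right hF, hb₁b]
    rw [h_smul_left, h_smul_right hF] at htn
    linear_combination -htn - hv
  -- both components isotropic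
  obtain ⟨w, hw, haw⟩ : ∃ w ∈ W, hh a' w ≠ 0 := by
    by_contra hno; push Not at hno; exact ha'0 (hnd a' ha' hno)
  obtain ⟨f, hfW, hf⟩ := exists_partner_in hF ha' hl' hw haw
  set l := hh a₁ a₁ with hldef
  have hlq : l ^ q = l := h_self_fixed hF _
  have hc0 : c₀ ≠ 0 := by assumption
  have hcq : c₀ + c₀ ^ q = 0 := by assumption
  obtain ⟨z, hz⟩ := exists_trace_eq hF hlq
  set x := z / c₀ ^ q with hx
  set a := x • a' + c₀ • f with hadef
  have haW : a ∈ W := W.add_mem (W.smul_mem _ ha') (W.smul_mem _ hfW)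
  have haa : hh a a = l := by
    simp only [hadef, h_add_left, h_add_right hF, h_smul_left, h_smul_right hF, hl', hf.2.1,
      hf.2.2, (hf.symm hF).2.2, hx, div_pow, pow_q_pow_q hF]
    field_simp
    linear_combination (c₀ * c₀ ^ q) * hz
  have hea : hh a' a = c₀ ^ q := by
    rw [hadef, h_add_right hF, h_smul_right hF, h_smul_right hF, hl', hf.2.2, mul_zero, zero_add,
      mul_one]
  have hae : hh a a' = c₀ := by rw [h_symm hF a' a, hea, pow_q_pow_q hF]
  have haa2 : hh (a' - a) (a' - a) = l := by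
    rw [h_sub_left, h_sub_right hF, h_sub_right hF, hl', hea, hae, haa]
    linear_combination -hcq
  have hnd2 : GramND q (Sum.elim (fun _ : Unit => b₁) d) :=
    sumElim_gramND hF (fun c hc => by
      have := hc ()
      simp [h_smul_left, hb₁b] at this
      funext i
      exact this.resolve_right hl) hd fun i _ => hWU _ (hdW i) b₁ hb₁
  have hfr := finrank_perp_range hF (GramND.linearIndependent hF hnd2)
  simp at hfr
  set μ := c₀⁻¹ - c₀ ^ q + l with hμ
  set t := μ / (-l) with htdef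
  obtain ⟨zU, hzU, hzU0, hzz⟩ := exists_nonzero_norm hF (GramND.isNondeg_perp hF hnd2)
    (by omega) (r := -l + t ^ (q + 1) * l)
    (by rw [add_pow_q hF, neg_pow_q hF, mul_pow, norm_fixed hF, hlq])
  have hz' := mem_perp_range.1 hzU
  have hzb : hh zU b₁ = 0 := hz' (Sum.inl ())
  have hbz : hh b₁ zU = 0 := (h_eq_zero_comm hF).1 hzb
  have hzUU : zU ∈ U := mem_perp_range.2 fun i => hz' (Sum.inr i)
  set b2 := t • b₁ + zU with hb2
  have hb2U : b2 ∈ U := U.add_mem (U.smul_mem _ hb₁) hzUU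
  have hb2b : hh b2 b₁ = μ := by
    rw [hb2, h_add_left, h_smul_left, hzb, hb₁b, add_zero, htdef,
      div_mul_cancel₀ _ (neg_ne_zero.2 hl)]
  have hb2n : hh b2 b2 = -l := by
    rw [hb2, h_add_left, h_add_right hF, h_add_right hF, h_smul_left, h_smul_left,
      h_smul_right hF, h_smul_right hF, hzb, hbz, hzz, hb₁b, pow_succ]
    ring
  have hC2 : IsCtr K (a + b₁) := hmove ha₁ ha₁0 hb₁ hb₁0 haW
    (fun e => hl (by rw [← haa, e, h_zero_left])) hb₁ hb₁0 (by rw [haa]) rfl hC₁
  have hC3 : IsCtr K ((a' - a) + b2) := hmove ha₁ ha₁0 hb₁ hb₁0 (W.sub_mem ha' haW)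
    (fun e => hl (by rw [← haa2, e, h_zero_left])) hb2U
    (fun e => hl (by
      rw [e, h_zero_left, eq_comm, neg_eq_zero] at hb2n; exact hb2n))
    (by rw [haa2]) (by rw [hb2n, hb₁b]) hC₁
  have hip : c₀ * hh ((a' - a) + b2) (a + b₁) = 1 := by
    rw [hinner _ (W.sub_mem ha' haW) _ hb2U _ haW _ hb₁, h_sub_left, hea, haa, hb2b, hμ]
    field_simp
    ring
  have h4 := ctr_step hF hC3 hC2 hcq
  rw [hip, one_smul, add_add_add_comm, sub_add_cancel] at h4
  have h4n : hh (b2 + b₁) (b2 + b₁) = 0 := by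
    have := h4.1
    rwa [hnorm a' ha' _ (U.add_mem hb2U hb₁), hl', zero_add] at this
  refine hmove ha' ha'0 (U.add_mem hb2U hb₁) (fun e => ?_) ha' ha'0 hb' hb'0 rfl ?_ h4
  · have h5 : hh (b2 + b₁) b₁ = 0 := by rw [e, h_zero_left]
    rw [hb2, h_add_left, h_add_left, h_smul_left, hzb, hb₁b, add_zero, ← add_one_mul,
      mul_eq_zero] at h5
    have ht : t + 1 = 0 := h5.resolve_right (neg_ne_zero.2 hl)
    apply hzU0
    have e' : t • b₁ + zU + b₁ = (t + 1) • b₁ + zU := by module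
    rwa [hb2, e', ht, zero_smul, zero_add] at e
  · rw [h4n]; rw [hl', zero_add] at hv; exact hv.symm

end StabMax

end H51
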