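import Cfsg.Agent.H51.ShortRootU
import Cfsg.Agent.H49.Transvec

/-!
The stabiliser of a pair of complementary totally singular subspaces is maximal in the special unitary group.
-/

set_option autoImplicit false

namespace H51

namespace PairU

open Matrix Cfsg H50 StabMax ShortU

variable {F : Type*} [Field F] [Fintype F] {n q k : ℕ}

local notation "V" => (Fin n → F)
local notation "hh" => Cfsg.hermForm n F q

section
variable (q k)

/-- A pair of complementary totally singular subspaces. -/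
structure UPair (U U' : Submodule F (Fin n → F)) : Prop where
  card : Fintype.card F = q ^ 2
  iso : ∀ x ∈ U, ∀ y ∈ U, hh x y = 0
  iso' : ∀ x ∈ U', ∀ y ∈ U', hh x y = 0
  compl : IsCompl U U'
  dimU : Module.finrank F U = k
  dimU' : Module.finrank F U' = k
  big : 5 ≤ k
  size : 2 * k = n

end

/-- The elements preserving both subspaces. -/
def Fixes (U U' : Submodule F (Fin n → F)) (g : SU n F q) : Prop :=
  (∀ x ∈ U, suMat g *ᵥ x ∈ U) ∧ ∀ x ∈ U', suMat g *ᵥ x ∈ U'

/-- Standard pairs. -/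
def StdPair (U U' : Submodule F (Fin n → F)) (x y : Fin n → F) : Prop :=
  ∃ a ∈ U, ∃ b ∈ U', x ∈ Submodule.span F ({a, b} : Set (Fin n → F)) ∧
    y ∈ Submodule.span F ({a, b} : Set (Fin n → F))

namespace UPair

variable {U U' : Submodule F (Fin n → F)} (d : UPair q k U U')
include d

theorem symm : UPair q k U' U := ⟨d.card, d.iso', d.iso, d.compl.symm, d.dimU', d.dimU, d.big, d.size⟩

theorem dec (x : V) : ∃ a ∈ U, ∃ b ∈ U', a + b = x := by
  have h : x ∈ U ⊔ U' := by rw [d.compl.sup_eq_top]; trivial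
  exact Submodule.mem_sup.1 h

theorem uniq {a a' b b' : V} (ha : a ∈ U) (ha' : a' ∈ U) (hb : b ∈ U') (hb' : b' ∈ U')
    (h : a + b = a' + b') : a = a' ∧ b = b' := by
  have h1 : a - a' = b' - b := by linear_combination (norm := abel) h
  have h0 : a - a' = 0 :=
    Submodule.disjoint_def.1 d.compl.disjoint _ (U.sub_mem ha ha') (h1 ▸ U'.sub_mem hb' hb)
  rw [h0] at h1
  exact ⟨sub_eq_zero.1 h0, (sub_eq_zero.1 h1.symm).symm⟩

/-- Functionals on U are given by U'. -/
theorem exists_b {S : Submodule F V} {a : V} (hS : S ≤ U) (ha : a ∈ U) (hn : a ∉ S) :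
    ∃ b ∈ U', (∀ s ∈ S, hh s b = 0) ∧ hh a b = 1 := by
  have hF := d.card
  have hz : ∃ z, (∀ w ∈ S, hh z w = 0) ∧ hh z a ≠ 0 := by
    by_contra hcon
    push Not at hcon
    exact hn (mem_of_perp_perp hF hcon)
  obtain ⟨z, hz, hza⟩ := hz
  obtain ⟨a', ha', b, hb, rfl⟩ := d.dec z
  rw [h_add_left, d.iso a' ha' a ha, zero_add] at hza
  have hab : hh a b ≠ 0 := fun e => hza ((h_eq_zero_comm hF).1 e)
  refine ⟨((hh a b)⁻¹) ^ q • b, U'.smul_mem _ hb, fun s hs => ?_, ?_⟩
  · have := hz s hs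
    rw [h_add_left, d.iso a' ha' s (hS hs), zero_add] at this
    rw [h_smul_right hF, (h_eq_zero_comm hF).1 this, mul_zero]
  · rw [h_smul_right hF, pow_q_pow_q hF, inv_mul_cancel₀ hab]

/-- Two prescribed values. -/
theorem exists_two {a a' : V} (ha : a ∈ U) (ha' : a' ∈ U) (ha0 : a ≠ 0)
    (hn : a' ∉ Submodule.span F ({a} : Set V)) (α β : F) :
    ∃ b ∈ U', hh a b = α ∧ hh a' b = β := by
  have hF := d.card
  have hn' : a ∉ Submodule.span F ({a'} : Set V) := by
    intro hmem
    obtain ⟨r, hr⟩ := Submodule.mem_span_singleton.1 hmem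
    have hr0 : r ≠ 0 := by rintro rfl; exact ha0 (by rw [← hr, zero_smul])
    exact hn (Submodule.mem_span_singleton.2 ⟨r⁻¹, by rw [← hr, smul_smul, inv_mul_cancel₀ hr0, one_smul]⟩)
  obtain ⟨b₁, hb₁, h1, h1'⟩ := d.exists_b ((Submodule.span_singleton_le_iff_mem _ _).2 ha') ha hn'
  obtain ⟨b₂, hb₂, h2, h2'⟩ := d.exists_b ((Submodule.span_singleton_le_iff_mem _ _).2 ha) ha' hn
  refine ⟨α ^ q • b₁ + β ^ q • b₂, U'.add_mem (U'.smul_mem _ hb₁) (U'.smul_mem _ hb₂), ?_, ?_⟩
  · rw [h_add_right hF, h_smul_right hF, h_smul_right hF, h1', h2 a (Submodule.mem_span_singleton_self _),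
      pow_q_pow_q hF]
    ring
  · rw [h_add_right hF, h_smul_right hF, h_smul_right hF, h2', h1 a' (Submodule.mem_span_singleton_self _),
      pow_q_pow_q hF, pow_q_pow_q hF]
    ring

/-- A vector of U orthogonal to two given vectors and outside a plane. -/
theorem exists_avoid (p r u v : V) :
    ∃ a ∈ U, hh a p = 0 ∧ hh a r = 0 ∧ a ∉ Submodule.span F ({u, v} : Set V) := by
  let φ : U →ₗ[F] F × F := ((hLeft n q p).comp U.subtype).prod ((hLeft n q r).comp U.subtype)
  by_contra hcon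
  simp only [not_exists, not_and, not_not] at hcon
  have h1 := φ.finrank_range_add_finrank_ker
  have h2 : Module.finrank F (LinearMap.range φ) ≤ 2 := by
    refine le_trans (Submodule.finrank_le _) ?_
    simp
  let ψ : LinearMap.ker φ →ₗ[F] Submodule.span F ({u, v} : Set V) :=
    (U.subtype.comp (LinearMap.ker φ).subtype).codRestrict _ (fun x => by
      have hx : φ x.1 = 0 := x.2
      exact hcon _ x.1.2 (congrArg Prod.fst hx) (congrArg Prod.snd hx))
  have h3 : Module.finrank F (LinearMap.ker φ) ≤ 2 := by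
    refine le_trans (LinearMap.finrank_le_finrank_of_injective (f := ψ) fun x y h =>
      Subtype.ext (Subtype.ext (congrArg (fun z : Submodule.span F ({u, v} : Set V) => (z : V)) h))) ?_
    classical
    refine le_trans (finrank_span_le_card _) ?_
    simp only [Set.toFinset_insert, Set.toFinset_singleton]
    exact Finset.card_le_two
  have := d.big
  rw [d.dimU] at h1
  omega

variable {K : Subgroup (SU n F q)} (hK : ∀ g, Fixes U U' g → g ∈ K)
include hK

omit d in
theorem fixes_mem_swap : ∀ g, Fixes U' U g → g ∈ K := fun g hg => hK g ⟨hg.2, hg.1⟩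

theorem short_of_std {a b : V} (ha : a ∈ U) (hb : b ∈ U') (h : hh a b = 0) : IsShort K a b := by
  refine ⟨d.iso a ha a ha, d.iso' b hb b hb, h, fun A c hA => hK _ ⟨fun x hx => ?_, fun x hx => ?_⟩⟩
  · rw [hA, d.iso x hx a ha, mul_zero, zero_smul, sub_zero]
    exact U.add_mem hx (U.smul_mem _ ha)
  · rw [hA, d.iso' x hx b hb, mul_zero, zero_smul, add_zero]
    exact U'.sub_mem hx (U'.smul_mem _ hb)

/-- Moving by one short root element. -/
theorem short_move {a b x y : V} (ha : a ∈ U) (hb : b ∈ U') (hab : hh a b = 0) (h : IsShort K x y) :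
    IsShort K (x + hh x b • a - hh x a • b) (y + hh y b • a - hh y a • b) := by
  obtain ⟨A, hA⟩ := exists_sr d.card (d.iso a ha a ha) (d.iso' b hb b hb) hab 1
  have hAK : A ∈ K := (d.short_of_std hK ha hb hab).2.2.2 A 1 hA
  have := short_group d.card h hAK
  simpa only [hA x, hA y, one_pow, one_mul] using this

/-- Moving a centre by one short root element. -/
theorem ctr_move {a b v : V} (ha : a ∈ U) (hb : b ∈ U') (hab : hh a b = 0) (h : IsCtr K v) :
    IsCtr K (v + hh v b • a - hh v a • b) := by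
  obtain ⟨A, hA⟩ := exists_sr d.card (d.iso a ha a ha) (d.iso' b hb b hb) hab 1
  have hAK : A ∈ K := (d.short_of_std hK ha hb hab).2.2.2 A 1 hA
  have := ctr_group h hAK
  simpa only [hA v, one_pow, one_mul] using this

/-- The generic situation: a transvection centre appears. -/
theorem main_case {x y x₁ x₂ y₁ y₂ : V} (h : IsShort K x y) (hx₁ : x₁ ∈ U) (hx₂ : x₂ ∈ U')
    (hx : x₁ + x₂ = x) (hy₁ : y₁ ∈ U) (hy₂ : y₂ ∈ U') (hy : y₁ + y₂ = y)
    (hn₁ : y₁ ∉ Submodule.span F ({x₁} : Set V)) (hn₂ : y₂ ∉ Submodule.span F ({x₂} : Set V)) :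
    IsCtr K x := by
  have hF := d.card
  obtain ⟨θ, hθ⟩ := exists_not_fixed hF
  obtain ⟨a₀, ha₀, ha₀x, ha₀y⟩ := d.symm.exists_b (S := Submodule.span F {x₂})
    ((Submodule.span_singleton_le_iff_mem _ _).2 hx₂) hy₂ hn₂
  obtain ⟨r, hr, hrx, hry, hrnot⟩ := d.exists_avoid x₂ y₂ x₁ y₁
  obtain ⟨a, ha, hax, hay, hanot⟩ : ∃ a ∈ U, hh x₂ a = 0 ∧ hh y₂ a = 1 ∧
      a ∉ Submodule.span F ({x₁, y₁} : Set V) := by
    by_cases h0 : a₀ ∈ Submodule.span F ({x₁, y₁} : Set V)
    · refine ⟨a₀ + r, U.add_mem ha₀ hr, ?_, by rw [h_add_right hF, ha₀y, (h_eq_zero_comm hF).1 hry, add_zero],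
        fun hmem => hrnot ((Submodule.add_mem_iff_right _ h0).1 hmem)⟩
      rw [h_add_right hF, ha₀x x₂ (Submodule.mem_span_singleton_self _), (h_eq_zero_comm hF).1 hrx, add_zero]
    · exact ⟨a₀, ha₀, ha₀x x₂ (Submodule.mem_span_singleton_self _), ha₀y, h0⟩
  have hy₁a : y₁ ∉ Submodule.span F ({x₁, a} : Set V) := by
    intro hmem
    obtain ⟨r, s, hrs⟩ := Submodule.mem_span_pair.1 hmem
    rcases eq_or_ne s 0 with rfl | hs
    · exact hn₁ (Submodule.mem_span_singleton.2 ⟨r, by rw [zero_smul, add_zero] at hrs; exact hrs⟩)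
    · refine hanot (Submodule.mem_span_pair.2 ⟨-r / s, 1 / s, ?_⟩)
      rw [← hrs]
      match_scalars <;> field_simp <;> ring
  obtain ⟨b, hb, hbx, hby⟩ := d.exists_b (S := Submodule.span F {x₁, a})
    (Submodule.span_le.2 (Set.insert_subset_iff.2 ⟨hx₁, Set.singleton_subset_iff.2 ha⟩)) hy₁ hy₁a
  have hab : hh a b = 0 := hbx a (Submodule.subset_span (Set.mem_insert_of_mem _ rfl))
  have hx₁b : hh x₁ b = 0 := hbx x₁ (Submodule.subset_span (Set.mem_insert _ _))
  have hxa : hh x a = 0 := by rw [← hx, h_add_left, d.iso x₁ hx₁ a ha, hax, add_zero]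
  have hxb : hh x b = 0 := by rw [← hx, h_add_left, d.iso' x₂ hx₂ b hb, hx₁b, add_zero]
  have hya : hh y a = 1 := by rw [← hy, h_add_left, d.iso y₁ hy₁ a ha, hay, zero_add]
  have hyb : hh y b = 1 := by rw [← hy, h_add_left, d.iso' y₂ hy₂ b hb, hby, add_zero]
  -- scale the root element so that the moved partner is not orthogonal
  have h' := d.short_move hK ha (U'.smul_mem (θ ^ q) hb) (by rw [h_smul_right hF, hab, mul_zero]) h
  rw [h_smul_right hF, h_smul_right hF, hxa, hxb, hya, hyb, pow_q_pow_q hF] at h'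
  simp only [mul_zero, zero_smul, add_zero, sub_zero, mul_one, one_smul] at h'
  refine short_ctr hF h h' ?_
  rw [h_sub_right hF, h_add_right hF, h.2.1, h_smul_right hF, h_smul_right hF, hya, hyb,
    pow_q_pow_q hF, zero_add, mul_one, mul_one]
  intro e
  exact hθ (sub_eq_zero.1 e)

/-- Both projections proportional on one side. -/
theorem prop_case {x y x₁ x₂ y₁ : V} (α : F) (h : IsShort K x y) (hx₁ : x₁ ∈ U) (hx₂ : x₂ ∈ U')
    (hx : x₁ + x₂ = x) (hy₁ : y₁ ∈ U) (hy : y₁ + α • x₂ = y) :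
    StdPair U U' x y ∨ ∃ v, v ≠ 0 ∧ IsCtr K v := by
  have hF := d.card
  set w := y₁ - α • x₁ with hw
  have hwU : w ∈ U := U.sub_mem hy₁ (U.smul_mem _ hx₁)
  have hyw : y = α • x + w := by rw [← hy, ← hx, hw, smul_add]; abel
  by_cases hstd : w ∈ Submodule.span F ({x₁} : Set V)
  · refine Or.inl ⟨x₁, hx₁, x₂, hx₂, ?_, ?_⟩
    · rw [← hx]
      exact add_mem (Submodule.subset_span (Set.mem_insert _ _))
        (Submodule.subset_span (Set.mem_insert_of_mem _ rfl))
    · have hy1' : y₁ ∈ Submodule.span F ({x₁} : Set V) := by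
        have : y₁ = w + α • x₁ := by rw [hw, sub_add_cancel]
        rw [this]
        exact add_mem hstd (Submodule.smul_mem _ _ (Submodule.mem_span_singleton_self _))
      rw [← hy]
      exact add_mem (Submodule.span_mono (by simp) hy1')
        (Submodule.smul_mem _ _ (Submodule.subset_span (Set.mem_insert_of_mem _ rfl)))
  by_cases hx10 : x₁ = 0
  · refine Or.inl ⟨w, hwU, x₂, hx₂, ?_, ?_⟩
    · rw [← hx, hx10, zero_add]
      exact Submodule.subset_span (Set.mem_insert_of_mem _ rfl)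
    · rw [hyw, ← hx, hx10, zero_add]
      exact add_mem (Submodule.smul_mem _ _ (Submodule.subset_span (Set.mem_insert_of_mem _ rfl)))
        (Submodule.subset_span (Set.mem_insert _ _))
  right
  by_cases hx20 : x₂ = 0
  · -- both vectors lie in U
    rw [hx20, smul_zero, add_zero] at hy
    rw [hx20, add_zero] at hx
    obtain ⟨b, hb, hbx, hby⟩ := d.exists_b (S := Submodule.span F {x₁})
      ((Submodule.span_singleton_le_iff_mem _ _).2 hx₁) hwU hstd
    have hx1b : hh x₁ b = 0 := hbx x₁ (Submodule.mem_span_singleton_self _)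
    have hy1b : hh y₁ b = 1 := by
      have : y₁ = w + α • x₁ := by rw [hw, sub_add_cancel]
      rw [this, h_add_left, h_smul_left, hby, hx1b]; simp
    have h' := d.short_move hK hx₁ hb hx1b h
    subst hx hy
    rw [hx1b, hy1b, d.iso x₁ hx₁ x₁ hx₁, d.iso y₁ hy₁ x₁ hx₁] at h'
    simp only [zero_smul, add_zero, sub_zero, one_smul] at h'
    exact ⟨x₁, hx10, short_ctr_self hF (short_sub hF h h' (d.iso y₁ hy₁ x₁ hx₁))⟩
  · obtain ⟨a, ha, hax', -, hanot⟩ := d.exists_avoid x₂ 0 x₁ w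
    have hax : hh x₂ a = 0 := (h_eq_zero_comm hF).1 hax'
    have hwn : w ∉ Submodule.span F ({x₁, a} : Set V) := by
      intro hmem
      obtain ⟨r, s, hrs⟩ := Submodule.mem_span_pair.1 hmem
      rcases eq_or_ne s 0 with rfl | hs
      · exact hstd (Submodule.mem_span_singleton.2 ⟨r, by rw [zero_smul, add_zero] at hrs; exact hrs⟩)
      · refine hanot (Submodule.mem_span_pair.2 ⟨-r / s, 1 / s, ?_⟩)
        rw [← hrs]
        match_scalars <;> field_simp <;> ring
    obtain ⟨b, hb, hbx, hbw⟩ := d.exists_b (S := Submodule.span F {x₁, a})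
      (Submodule.span_le.2 (Set.insert_subset_iff.2 ⟨hx₁, Set.singleton_subset_iff.2 ha⟩)) hwU hwn
    have hab : hh a b = 0 := hbx a (Submodule.subset_span (Set.mem_insert_of_mem _ rfl))
    have hx₁b : hh x₁ b = 0 := hbx x₁ (Submodule.subset_span (Set.mem_insert _ _))
    have hxa : hh x a = 0 := by rw [← hx, h_add_left, d.iso x₁ hx₁ a ha, hax, add_zero]
    have hxb : hh x b = 0 := by rw [← hx, h_add_left, d.iso' x₂ hx₂ b hb, hx₁b, add_zero]
    have hya : hh y a = 0 := by
      rw [hyw, h_add_left, h_smul_left, hxa, d.iso w hwU a ha]; simp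
    have hyb : hh y b = 1 := by
      rw [hyw, h_add_left, h_smul_left, hxb, hbw]; simp
    have h' := d.short_move hK ha hb hab h
    rw [hxa, hxb, hya, hyb] at h'
    simp only [zero_smul, add_zero, sub_zero, one_smul] at h'
    have hpair : IsShort K a x := short_swap hF (short_sub hF h h' hya)
    have ha0 : a ≠ 0 := fun e => hanot (e ▸ Submodule.zero_mem _)
    refine ⟨a, ha0, d.main_case hK hpair ha U'.zero_mem (add_zero a) hx₁ hx₂ hx ?_ ?_⟩
    · intro hmem
      obtain ⟨r, hr⟩ := Submodule.mem_span_singleton.1 hmem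
      have hr0 : r ≠ 0 := by rintro rfl; exact hx10 (by rw [← hr, zero_smul])
      exact hanot (Submodule.mem_span_pair.2 ⟨r⁻¹, 0, by rw [← hr, smul_smul, inv_mul_cancel₀ hr0]; simp⟩)
    · rwa [Submodule.span_zero_singleton, Submodule.mem_bot]

/-- Every short root pair in K is standard unless K contains a transvection group. -/
theorem std_or_ctr {x y : V} (h : IsShort K x y) :
    StdPair U U' x y ∨ ∃ v, v ≠ 0 ∧ IsCtr K v := by
  obtain ⟨x₁, hx₁, x₂, hx₂, hx⟩ := d.dec x
  obtain ⟨y₁, hy₁, y₂, hy₂, hy⟩ := d.dec y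
  by_cases h2 : y₂ ∈ Submodule.span F ({x₂} : Set V)
  · obtain ⟨α, rfl⟩ := Submodule.mem_span_singleton.1 h2
    exact d.prop_case hK α h hx₁ hx₂ hx hy₁ hy
  by_cases h1 : y₁ ∈ Submodule.span F ({x₁} : Set V)
  · obtain ⟨α, rfl⟩ := Submodule.mem_span_singleton.1 h1
    rcases d.symm.prop_case (fixes_mem_swap hK) α h hx₂ hx₁ (by rw [add_comm]; exact hx) hy₂
      (by rw [add_comm]; exact hy) with ⟨a, ha, b, hb, hxs, hys⟩ | hv
    · rw [Set.pair_comm] at hxs hys
      exact Or.inl ⟨b, hb, a, ha, hxs, hys⟩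
    · exact Or.inr hv
  rcases eq_or_ne x 0 with rfl | hx0
  · refine Or.inl ⟨y₁, hy₁, y₂, hy₂, Submodule.zero_mem _, ?_⟩
    rw [← hy]
    exact add_mem (Submodule.subset_span (Set.mem_insert _ _))
      (Submodule.subset_span (Set.mem_insert_of_mem _ rfl))
  exact Or.inr ⟨x, hx0, d.main_case hK h hx₁ hx₂ hx hy₁ hy₂ hy h1 h2⟩

/-- An element of K maps U into U ∪ U' unless K contains a transvection group. -/
theorem pure_or_ctr {g : SU n F q} (hg : g ∈ K) :
    (∀ a ∈ U, suMat g *ᵥ a ∈ U ∨ suMat g *ᵥ a ∈ U') ∨ ∃ v, v ≠ 0 ∧ IsCtr K v := by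
  have hF := d.card
  by_cases hctr : ∃ v, v ≠ 0 ∧ IsCtr K v
  · exact Or.inr hctr
  refine Or.inl fun a ha => ?_
  obtain ⟨p, hp, r, hr, hpr⟩ := d.dec (suMat g *ᵥ a)
  by_contra hcon
  simp only [not_or] at hcon
  have hp0 : p ≠ 0 := fun e => hcon.2 (by rw [← hpr, e, zero_add]; exact hr)
  have hr0 : r ≠ 0 := fun e => hcon.1 (by rw [← hpr, e, add_zero]; exact hp)
  -- all images of partners lie in a plane
  have key : ∀ b ∈ U', hh b a = 0 → suMat g *ᵥ b ∈ Submodule.span F ({p, r} : Set V) := by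
    intro b hb hba
    obtain ⟨a', ha', b', hb', hxs, hys⟩ :=
      (d.std_or_ctr hK (short_group hF (d.short_of_std hK ha hb ((h_eq_zero_comm hF).1 hba)) hg)).resolve_right hctr
    obtain ⟨s, t, hst⟩ := Submodule.mem_span_pair.1 hxs
    obtain ⟨h1, h2⟩ := d.uniq hp (U.smul_mem s ha') hr (U'.smul_mem t hb') (hpr.trans hst.symm)
    have hs : s ≠ 0 := by rintro rfl; exact hp0 (by rw [h1, zero_smul])
    have ht : t ≠ 0 := by rintro rfl; exact hr0 (by rw [h2, zero_smul])
    obtain ⟨s', t', hst'⟩ := Submodule.mem_span_pair.1 hys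
    refine Submodule.mem_span_pair.2 ⟨s' / s, t' / t, ?_⟩
    rw [h1, h2, smul_smul, smul_smul, div_mul_cancel₀ _ hs, div_mul_cancel₀ _ ht, hst']
  let φ : U' →ₗ[F] F := (hLeft n q a).comp U'.subtype
  let ψ : LinearMap.ker φ →ₗ[F] Submodule.span F ({p, r} : Set V) :=
    ((Matrix.mulVecLin (suMat g)).comp
      (U'.subtype.comp (LinearMap.ker φ).subtype)).codRestrict _ (fun x => key _ x.1.2 x.2)
  have hinj : Function.Injective ψ := fun x y h => by
    have h' : suMat g *ᵥ (x.1 : V) = suMat g *ᵥ (y.1 : V) :=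
      congrArg (fun z : Submodule.span F ({p, r} : Set V) => (z : V)) h
    have h'' := congrArg (fun z => suMat g⁻¹ *ᵥ z) h'
    simp only [suMat_inv_mulVec] at h''
    exact Subtype.ext (Subtype.ext h'')
  have h1 := LinearMap.finrank_le_finrank_of_injective hinj
  have h2 : Module.finrank F (Submodule.span F ({p, r} : Set V)) ≤ 2 := by
    classical
    refine le_trans (finrank_span_le_card _) ?_
    simp only [Set.toFinset_insert, Set.toFinset_singleton]
    exact Finset.card_le_two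
  have h3 := φ.finrank_range_add_finrank_ker
  have h4 : Module.finrank F (LinearMap.range φ) ≤ 1 := by
    refine le_trans (Submodule.finrank_le _) ?_
    simp
  have := d.big
  rw [d.dimU'] at h3
  omega

/-- The transvection centres in U are all of U as soon as one is non-zero. -/
theorem ctr_of_mem_U {v : V} (hv : IsCtr K v) (hv0 : v ≠ 0) (hvU : v ∈ U) :
    ∀ a ∈ U, IsCtr K a := by
  have hF := d.card
  intro a ha
  by_cases hdep : v ∈ Submodule.span F ({a - v} : Set V)
  · obtain ⟨r, hr⟩ := Submodule.mem_span_singleton.1 hdep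
    have hr0 : r ≠ 0 := by rintro rfl; exact hv0 (by rw [← hr, zero_smul])
    have : a = ((1 + r) / r) • v := by
      have h1 : r • a = (1 + r) • v := by
        rw [add_smul, one_smul]; nth_rw 1 [← hr]; rw [smul_sub, sub_add_cancel]
      rw [div_eq_inv_mul, mul_smul, ← h1, smul_smul, inv_mul_cancel₀ hr0, one_smul]
    rw [this]
    exact ctr_smul hF hv _
  obtain ⟨b, hb, hbs, hbv⟩ := d.exists_b (S := Submodule.span F {a - v})
    ((Submodule.span_singleton_le_iff_mem _ _).2 (U.sub_mem ha hvU)) hvU hdep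
  have hab : hh (a - v) b = 0 := hbs _ (Submodule.mem_span_singleton_self _)
  have := d.ctr_move hK (U.sub_mem ha hvU) hb hab hv
  rw [d.iso v hvU _ (U.sub_mem ha hvU), hbv] at this
  simpa using this

/-- Moving the second component of a mixed centre. -/
theorem move_snd {p r r' : V} (hp : p ∈ U) (hr : r ∈ U') (hr' : r' ∈ U') (hr0 : r ≠ 0) (hr'0 : r' ≠ 0)
    (heq : hh p r' = hh p r) (hv : IsCtr K (p + r)) : IsCtr K (p + r') := by
  have hF := d.card
  have key : ∀ r r' : V, r ∈ U' → r' ∈ U' → hh p r' = hh p r →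
      r ∉ Submodule.span F ({r' - r} : Set V) → IsCtr K (p + r) → IsCtr K (p + r') := by
    intro r r' hr hr' heq hind hv
    obtain ⟨a, ha, has, har⟩ := d.symm.exists_b (S := Submodule.span F {r' - r})
      ((Submodule.span_singleton_le_iff_mem _ _).2 (U'.sub_mem hr' hr)) hr hind
    have hab : hh (-a) (r' - r) = 0 := by
      rw [h_neg_left, (h_eq_zero_comm hF).1 (has _ (Submodule.mem_span_singleton_self _)), neg_zero]
    have := d.ctr_move hK (U.neg_mem ha) (U'.sub_mem hr' hr) hab hv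
    have e1 : hh (p + r) (r' - r) = 0 := by
      rw [h_add_left, d.iso' r hr _ (U'.sub_mem hr' hr), h_sub_right hF, heq]; ring
    have e2 : hh (p + r) (-a) = -1 := by
      rw [h_add_left, d.iso p hp _ (U.neg_mem ha), zero_add, h_neg_right hF, har]
    rw [e1, e2, zero_smul, add_zero, neg_one_smul, sub_neg_eq_add] at this
    convert this using 1
    abel
  by_cases hind : r ∈ Submodule.span F ({r' - r} : Set V)
  swap; · exact key r r' hr hr' heq hind hv
  by_cases hpr : hh p r = 0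
  · obtain ⟨s, hs, hsp, -, hsnot⟩ := d.symm.exists_avoid p p r r'
    have hps : hh p s = hh p r := by rw [hpr]; exact (h_eq_zero_comm hF).1 hsp
    have hsr : r ∉ Submodule.span F ({s - r} : Set V) := by
      intro hmem
      obtain ⟨c, hc⟩ := Submodule.mem_span_singleton.1 hmem
      have hc0 : c ≠ 0 := by rintro rfl; exact hr0 (by rw [← hc, zero_smul])
      refine hsnot (Submodule.mem_span_pair.2 ⟨(1 + c) / c, 0, ?_⟩)
      conv_lhs => rw [← hc]
      have : c • s = (1 + c) • r := by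
        rw [add_smul, one_smul]; nth_rw 1 [← hc]; rw [smul_sub, sub_add_cancel]
      rw [hc, zero_smul, add_zero, div_eq_inv_mul, mul_smul, ← this, smul_smul, inv_mul_cancel₀ hc0, one_smul]
    have hs' : s ∉ Submodule.span F ({r' - s} : Set V) := by
      intro hmem
      obtain ⟨c, hc⟩ := Submodule.mem_span_singleton.1 hmem
      have h1 : (1 + c) • s = c • r' := by
        rw [add_smul, one_smul]; nth_rw 1 [← hc]; rw [smul_sub, sub_add_cancel]
      rcases eq_or_ne (1 + c) 0 with h0 | h0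
      · rw [h0, zero_smul] at h1
        exact hr'0 ((smul_eq_zero.1 h1.symm).resolve_left fun e => by rw [e, add_zero] at h0; exact one_ne_zero h0)
      · refine hsnot (Submodule.mem_span_pair.2 ⟨0, c / (1 + c), ?_⟩)
        rw [zero_smul, zero_add, div_eq_inv_mul, mul_smul, ← h1, smul_smul, inv_mul_cancel₀ h0, one_smul]
    exact key s r' hs hr' (by rw [heq, hps]) hs' (key r s hr hs hps hsr hv)
  · obtain ⟨c, hc⟩ := Submodule.mem_span_singleton.1 hind
    have hc' := congrArg (fun z => hh p z) hc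
    simp only [h_smul_right hF, h_sub_right hF, heq, sub_self, mul_zero] at hc'
    exact absurd hc'.symm hpr

/-- A mixed centre gives every mixed vector of the same type. -/
theorem mixed_all {p r : V} (hp : p ∈ U) (hr : r ∈ U') (hp0 : p ≠ 0) (hr0 : r ≠ 0)
    (hv : IsCtr K (p + r)) :
    ∀ p' ∈ U, ∀ r' ∈ U', p' ≠ 0 → r' ≠ 0 → hh p' r' = hh p r → IsCtr K (p' + r') := by
  have hF := d.card
  have step : ∀ p p' r r' : V, p ∈ U → p' ∈ U → r ∈ U' → r' ∈ U' → p ≠ 0 → p' ≠ 0 → r ≠ 0 → r' ≠ 0 →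
      p' ∉ Submodule.span F ({p} : Set V) → hh p' r' = hh p r → IsCtr K (p + r) → IsCtr K (p' + r') := by
    intro p p' r r' hp hp' hr hr' hp0 hp'0 hr0 hr'0 hind heq hv
    obtain ⟨s, hs, hs0, hs1, hs2⟩ : ∃ s ∈ U', s ≠ 0 ∧ hh p s = hh p r ∧ hh p' s = hh p r := by
      rcases eq_or_ne (hh p r) 0 with h0 | h0
      · obtain ⟨s, hs, hsp, hsp', hsnot⟩ := d.symm.exists_avoid p p' 0 0
        exact ⟨s, hs, fun e => hsnot (by rw [e]; exact Submodule.zero_mem _),
          by rw [h0]; exact (h_eq_zero_comm hF).1 hsp, by rw [h0]; exact (h_eq_zero_comm hF).1 hsp'⟩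
      · obtain ⟨s, hs, h1, h2⟩ := d.exists_two hp hp' hp0 hind (hh p r) (hh p r)
        exact ⟨s, hs, fun e => h0 (by rw [← h1, e, h_zero_right hF]), h1, h2⟩
    have h1 := d.move_snd hK hp hr hs hr0 hs0 hs1 hv
    rw [add_comm] at h1
    have h2 := d.symm.move_snd (fixes_mem_swap hK) hs hp hp' hp0 hp'0
      (by rw [h_symm hF p' s, h_symm hF p s, hs1, hs2]) h1
    rw [add_comm] at h2
    exact d.move_snd hK hp' hs hr' hs0 hr'0 (by rw [heq, hs2]) h2
  intro p' hp' r' hr' hp'0 hr'0 heq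
  obtain ⟨p'', hp'', -, -, hnot⟩ := d.exists_avoid 0 0 p p'
  have hp''0 : p'' ≠ 0 := fun e => hnot (e ▸ Submodule.zero_mem _)
  have hind1 : p'' ∉ Submodule.span F ({p} : Set V) := fun h => hnot (Submodule.span_mono (by simp) h)
  have hind2 : p' ∉ Submodule.span F ({p''} : Set V) := by
    intro h
    obtain ⟨c, hc⟩ := Submodule.mem_span_singleton.1 h
    have hc0 : c ≠ 0 := by rintro rfl; exact hp'0 (by rw [← hc, zero_smul])
    exact hnot (Submodule.mem_span_pair.2 ⟨0, c⁻¹, by rw [← hc, smul_smul, inv_mul_cancel₀ hc0]; simp⟩)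
  obtain ⟨r'', hr'', hr''0, hr''eq⟩ : ∃ s ∈ U', s ≠ 0 ∧ hh p'' s = hh p r := by
    rcases eq_or_ne (hh p r) 0 with h0 | h0
    · obtain ⟨s, hs, hsp, -, hsnot⟩ := d.symm.exists_avoid p'' p'' 0 0
      exact ⟨s, hs, fun e => hsnot (by rw [e]; exact Submodule.zero_mem _), by rw [h0]; exact (h_eq_zero_comm hF).1 hsp⟩
    · obtain ⟨s, hs, h1, -⟩ := d.exists_two hp'' hp' hp''0 hind2 (hh p r) 0
      exact ⟨s, hs, fun e => h0 (by rw [← h1, e, h_zero_right hF]), h1⟩
  exact step p'' p' r'' r' hp'' hp' hr'' hr' hp''0 hp'0 hr''0 hr'0 hind2 (by rw [heq, hr''eq])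
    (step p p'' r r'' hp hp'' hr hr'' hp0 hp''0 hr0 hr''0 hind1 hr''eq hv)

/-- A mixed centre gives a centre in U. -/
theorem exists_ctr_U {a b : V} (ha : a ∈ U) (hb : b ∈ U') (ha0 : a ≠ 0) (hb0 : b ≠ 0)
    (hv : IsCtr K (a + b)) : ∃ u ∈ U, u ≠ 0 ∧ IsCtr K u := by
  have hF := d.card
  obtain ⟨p, hp, r, hr, hp0, hr0, hpr, hz⟩ : ∃ p ∈ U, ∃ r ∈ U', p ≠ 0 ∧ r ≠ 0 ∧ hh p r = 0 ∧
      IsCtr K (p + r) := by
    by_cases hab : hh a b = 0
    · exact ⟨a, ha, b, hb, ha0, hb0, hab, hv⟩
    set t := hh a b with ht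
    have htr : t + t ^ q = 0 := by
      have := hv.1
      rw [h_add_left, h_add_right hF, h_add_right hF, d.iso a ha a ha, d.iso' b hb b hb, h_symm hF a b] at this
      linear_combination this
    have htq : t ^ q = -t := by linear_combination htr
    obtain ⟨u, hu⟩ : ∃ u : F, u - u ^ q + 2 * t ≠ 0 ∧ t + u ≠ 0 := by
      by_cases h2 : (2 : F) = 0
      · obtain ⟨u, hu⟩ := exists_not_fixed hF
        refine ⟨u, by rw [h2, zero_mul, add_zero, sub_ne_zero]; exact fun e => hu e.symm, fun e => hu ?_⟩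
        have : u = -t := by linear_combination e
        rw [this, neg_pow_q hF, htq]
        linear_combination t * h2
      · exact ⟨0, by simp [q_ne_zero hF, h2, hab], by rwa [add_zero]⟩
    obtain ⟨a₁, ha₁, ha₁b, ha₁not⟩ : ∃ a₁ ∈ U, hh a₁ b = -2 * t - u ∧
        a₁ ∉ Submodule.span F ({a} : Set V) := by
      obtain ⟨a₀, ha₀, -, ha₀b⟩ := d.symm.exists_b (S := (⊥ : Submodule F V)) bot_le hb (by simpa using hb0)
      obtain ⟨z, hz, hzb, -, hznot⟩ := d.exists_avoid b b a a
      have hzn : z ∉ Submodule.span F ({a} : Set V) := fun h => hznot (Submodule.span_mono (by simp) h)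
      set c := (-2 * t - u) with hc
      have hval : hh (c • a₀) b = c := by rw [h_smul_left, h_symm hF b a₀, ha₀b, one_pow, mul_one]
      by_cases hmem : c • a₀ ∈ Submodule.span F ({a} : Set V)
      · exact ⟨c • a₀ + z, U.add_mem (U.smul_mem _ ha₀) hz, by rw [h_add_left, hval, hzb, add_zero],
          fun h => hzn ((Submodule.add_mem_iff_right _ hmem).1 h)⟩
      · exact ⟨c • a₀, U.smul_mem _ ha₀, hval, hmem⟩
    obtain ⟨b₁, hb₁, hab₁, ha₁b₁⟩ := d.exists_two ha ha₁ ha0 ha₁not u t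
    have ha₁0 : a₁ ≠ 0 := fun e => ha₁not (e ▸ Submodule.zero_mem _)
    have hb₁0 : b₁ ≠ 0 := fun e => hab (by rw [← ha₁b₁, e, h_zero_right hF])
    have hv' := d.mixed_all hK ha hb ha0 hb0 hv a₁ ha₁ b₁ hb₁ ha₁0 hb₁0 ha₁b₁
    have h12 : hh (a + b) (a₁ + b₁) = u - u ^ q + 2 * t := by
      rw [h_add_left, h_add_right hF, h_add_right hF, d.iso a ha a₁ ha₁, d.iso' b hb b₁ hb₁, hab₁,
        h_symm hF a₁ b, ha₁b, sub_pow_q hF, neg_mul, neg_pow_q hF, mul_pow, htq]
      rw [show ((2 : F)) ^ q = 2 by rw [← one_add_one_eq_two, add_pow_q hF, one_pow]]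
      ring
    refine ⟨a + a₁, U.add_mem ha ha₁, b + b₁, U'.add_mem hb hb₁, fun e => ?_, fun e => ?_, ?_, ?_⟩
    · refine ha₁not (Submodule.mem_span_singleton.2 ⟨-1, ?_⟩)
      rw [neg_one_smul]; exact neg_eq_of_add_eq_zero_right e
    · apply hu.2
      have := congrArg (fun z => hh a z) e
      simpa only [h_add_right hF, hab₁, h_zero_right hF] using this
    · rw [h_add_left, h_add_right hF, h_add_right hF, hab₁, ha₁b, ha₁b₁, ← ht]
      ring
    · have := ctr_comb hF hv hv' (r := 1) (by rw [h12]; exact hu.1) (by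
        rw [h12, div_pow, one_pow, add_pow_q hF, sub_pow_q hF, pow_q_pow_q hF, mul_pow, htq,
          show ((2 : F)) ^ q = 2 by rw [← one_add_one_eq_two, add_pow_q hF, one_pow],
          show u ^ q - u + 2 * -t = -(u - u ^ q + 2 * t) by ring, div_neg, add_neg_cancel])
      rw [one_smul] at this
      convert this using 1
      abel
  obtain ⟨c₀, hc₀, hc₀'⟩ : ∃ c : F, c ≠ 0 ∧ c + c ^ q = 0 := by
    obtain ⟨c, h1, h2⟩ := exists_trace_zero_ne_zero hF
    exact ⟨c, by assumption, by assumption⟩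
  have hall := d.mixed_all hK hp hr hp0 hr0 hz
  obtain ⟨p₂, hp₂, hp₂r, -, hp₂not⟩ := d.exists_avoid r r p p
  have hp₂0 : p₂ ≠ 0 := fun e => hp₂not (e ▸ Submodule.zero_mem _)
  have hp₂n : p₂ ∉ Submodule.span F ({p} : Set V) := fun h => hp₂not (Submodule.span_mono (by simp) h)
  obtain ⟨r₂, hr₂, hpr₂, hp₂r₂⟩ := d.exists_two hp hp₂ hp0 hp₂n 1 0
  have hr₂0 : r₂ ≠ 0 := fun e => by simp [e, h_zero_right hF] at hpr₂
  have hz₂ := hall p₂ hp₂ r₂ hr₂ hp₂0 hr₂0 (by rw [hp₂r₂, hpr])
  have h12 : hh (p + r) (p₂ + r₂) = 1 := by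
    rw [h_add_left, h_add_right hF, h_add_right hF, d.iso p hp p₂ hp₂, d.iso' r hr r₂ hr₂, hpr₂,
      (h_eq_zero_comm hF).1 hp₂r]
    ring
  set A := p + c₀ • p₂ with hA
  set B := r + c₀ • r₂ with hB
  have hw : IsCtr K (A + B) := by
    have := ctr_comb hF hz hz₂ (r := c₀) (by rw [h12]; exact one_ne_zero) (by rw [h12, div_one]; exact hc₀')
    convert this using 1
    rw [hA, hB, smul_add]; abel
  have hAB : hh A B = c₀ ^ q := by
    rw [hA, hB, h_add_left, h_add_right hF, h_add_right hF, h_smul_left, h_smul_left, h_smul_right hF,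
      h_smul_right hF, hpr, hpr₂, hp₂r₂, hp₂r]
    ring
  have hAB0 : hh A B ≠ 0 := by rw [hAB]; exact pow_ne_zero _ hc₀
  have hAU : A ∈ U := U.add_mem hp (U.smul_mem _ hp₂)
  have hBU : B ∈ U' := U'.add_mem hr (U'.smul_mem _ hr₂)
  obtain ⟨a'', ha'', ha''B, -, ha''not⟩ := d.exists_avoid B B A A
  have ha''0 : a'' ≠ 0 := fun e => ha''not (e ▸ Submodule.zero_mem _)
  have hB0 : B ≠ 0 := fun e => hAB0 (by rw [e, h_zero_right hF])
  have hz₃ := hall a'' ha'' (-B) (U'.neg_mem hBU) ha''0 (neg_ne_zero.2 hB0)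
    (by rw [hpr, h_neg_right hF, ha''B, neg_zero])
  have h13 : hh (A + B) (a'' + -B) = -hh A B := by
    rw [h_add_left, h_add_right hF, h_add_right hF, d.iso A hAU a'' ha'', d.iso' B hBU _ (U'.neg_mem hBU),
      h_neg_right hF, (h_eq_zero_comm hF).1 ha''B]
    ring
  have h3 := ctr_comb hF hw hz₃ (r := 1) (by rw [h13]; exact neg_ne_zero.2 hAB0) (by
    rw [h13, hAB, div_pow, one_pow, neg_pow_q hF, pow_q_pow_q hF,
      show c₀ ^ q = -c₀ by linear_combination hc₀', neg_neg, div_neg, add_neg_cancel])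
  rw [one_smul, show A + B + (a'' + -B) = A + a'' by abel] at h3
  refine ⟨A + a'', U.add_mem hAU ha'', fun e0 => ?_, h3⟩
  refine ha''not (Submodule.mem_span_pair.2 ⟨-1, 0, ?_⟩)
  rw [neg_one_smul, zero_smul, add_zero]
  exact neg_eq_of_add_eq_zero_right e0

/-- All centres from both halves generate everything. -/
theorem all_ctr (hU : ∀ a ∈ U, IsCtr K a) (hU' : ∀ b ∈ U', IsCtr K b) :
    ∀ v : V, hh v v = 0 → IsCtr K v := by
  have hF := d.card
  intro v hvv
  obtain ⟨a, ha, b, hb, rfl⟩ := d.dec v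
  rw [h_add_left, h_add_right hF, h_add_right hF, d.iso a ha a ha, d.iso' b hb b hb, h_symm hF a b,
    zero_add, add_zero] at hvv
  have base : ∀ a ∈ U, ∀ b ∈ U', hh a b ≠ 0 → hh a b + hh a b ^ q = 0 → IsCtr K (a + b) := by
    intro a ha b hb h0 htr
    have := ctr_comb hF (hU a ha) (hU' b hb) (r := 1) h0 (by
      rw [div_pow, one_pow, show hh a b ^ q = -hh a b by linear_combination htr, div_neg, add_neg_cancel])
    rwa [one_smul] at this
  by_cases hab : hh a b = 0
  swap; · exact base a ha b hb hab hvv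
  by_cases ha0 : a = 0
  · rw [ha0, zero_add]; exact hU' b hb
  obtain ⟨c₀, hc₀, hc₀'⟩ : ∃ c : F, c ≠ 0 ∧ c + c ^ q = 0 := by
    obtain ⟨c, h1, h2⟩ := exists_trace_zero_ne_zero hF
    exact ⟨c, by assumption, by assumption⟩
  obtain ⟨b₁, hb₁, -, hab₁⟩ := d.exists_b (S := (⊥ : Submodule F V)) bot_le ha (by simpa using ha0)
  set b₂ := c₀ ^ q • b₁ with hb₂
  have hb₂U : b₂ ∈ U' := U'.smul_mem _ hb₁
  have hab₂ : hh a b₂ = c₀ := by rw [hb₂, h_smul_right hF, hab₁, pow_q_pow_q hF, mul_one]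
  have h1 := base a ha b₂ hb₂U (by rw [hab₂]; exact hc₀) (by rw [hab₂]; exact hc₀')
  have h12 : hh (a + b₂) (b - b₂) = -c₀ := by
    rw [h_add_left, h_sub_right hF, d.iso' b₂ hb₂U _ (U'.sub_mem hb hb₂U), hab, hab₂]; ring
  have h2 := ctr_comb hF h1 (hU' _ (U'.sub_mem hb hb₂U)) (r := 1) (by rw [h12]; exact neg_ne_zero.2 hc₀) (by
    rw [h12, div_pow, one_pow, neg_pow_q hF, show c₀ ^ q = -c₀ by linear_combination hc₀', div_neg,
      neg_neg, neg_add_cancel])
  rwa [one_smul, show a + b₂ + (b - b₂) = a + b by abel] at h2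

omit hK in
/-- An element of the special unitary group interchanging U and U'. -/
theorem exists_interchange :
    ∃ w : SU n F q, (∀ x ∈ U, suMat w *ᵥ x ∈ U') ∧ ∀ x ∈ U', suMat w *ᵥ x ∈ U := by
  classical
  have hF := d.card
  let β := Module.finBasisOfFinrankEq F U d.dimU
  set e : Fin k → V := fun i => (β i : V) with he
  have heU : ∀ i, e i ∈ U := fun i => (β i).2
  have hei : LinearIndependent F e := β.linearIndependent.map' U.subtype U.ker_subtype
  have hf0 : ∀ i, ∃ b ∈ U', ∀ j, hh (e j) b = if j = i then 1 else 0 := by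
    intro i
    obtain ⟨b, hb, hbs, hbi⟩ := d.exists_b (S := Submodule.span F (e '' {j | j ≠ i}))
      (Submodule.span_le.2 (by rintro _ ⟨j, -, rfl⟩; exact heU j)) (heU i)
      (hei.notMem_span_image (by simp))
    refine ⟨b, hb, fun j => ?_⟩
    by_cases hj : j = i
    · rw [if_pos hj, hj, hbi]
    · rw [if_neg hj]; exact hbs _ (Submodule.subset_span ⟨j, hj, rfl⟩)
  choose f hfU hef using hf0
  have hfe : ∀ i j, hh (f i) (e j) = if i = j then 1 else 0 := by
    intro i j
    rw [h_symm hF (e j) (f i), hef]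
    by_cases h : i = j
    · rw [if_pos h.symm, if_pos h, one_pow]
    · rw [if_neg (Ne.symm h), if_neg h, zero_pow (q_ne_zero hF)]
  have hM : ∀ s : Finset (Fin k), ∃ M : Matrix (Fin n) (Fin n) F, IsIso q M ∧
      (∀ i ∈ s, M *ᵥ e i = f i ∧ M *ᵥ f i = e i) ∧ ∀ i ∉ s, M *ᵥ e i = e i ∧ M *ᵥ f i = f i := by
    intro s
    induction s using Finset.induction with
    | empty => exact ⟨1, isIso_one, by simp, fun i _ => by simp⟩
    | @insert j s hj ih =>
      obtain ⟨M, hM, hin, hout⟩ := ih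
      set u := e j - f j with hu
      have huu : hh u u = -2 := by
        rw [hu, h_sub_left, h_sub_right hF, h_sub_right hF, d.iso _ (heU j) _ (heU j),
          d.iso' _ (hfU j) _ (hfU j), hef, hfe, if_pos rfl]
        ring
      have hu0 : u ≠ 0 := fun e0 => by
        have := congrArg (fun z => hh (e j) z) e0
        simp [hu, h_sub_right hF, h_zero_right hF, d.iso _ (heU j) _ (heU j), hef] at this
      have hR : IsIso q (unitaryTransvection n q u 1) := (ut_isIso_iff hF hu0).2 (by rw [huu, one_pow]; ring)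
      have hRe : ∀ i, hh (e i) u = if i = j then -1 else 0 := fun i => by
        rw [hu, h_sub_right hF, d.iso _ (heU i) _ (heU j), hef]
        by_cases h : i = j <;> simp [h]
      have hRf : ∀ i, hh (f i) u = if i = j then 1 else 0 := fun i => by
        rw [hu, h_sub_right hF, d.iso' _ (hfU i) _ (hfU j), hfe]
        by_cases h : i = j <;> simp [h]
      refine ⟨unitaryTransvection n q u 1 * M, hR.mul hM, fun i hi => ?_, fun i hi => ?_⟩
      · rw [← mulVec_mulVec, ← mulVec_mulVec]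
        rcases Finset.mem_insert.1 hi with rfl | hi'
        · rw [(hout i hj).1, (hout i hj).2, ut_mulVec, ut_mulVec, hRe, hRf, if_pos rfl, if_pos rfl, hu]
          constructor <;> module
        · have hij : i ≠ j := fun h => hj (h ▸ hi')
          rw [(hin i hi').1, (hin i hi').2, ut_mulVec, ut_mulVec, hRe, hRf, if_neg hij, if_neg hij]
          simp
      · rw [Finset.mem_insert, not_or] at hi
        rw [← mulVec_mulVec, ← mulVec_mulVec, (hout i hi.2).1, (hout i hi.2).2, ut_mulVec, ut_mulVec, hRe, hRf,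
          if_neg hi.1, if_neg hi.1]
        simp
  obtain ⟨M, hMi, hMs, -⟩ := hM Finset.univ
  have hk0 : 0 < k := by have := d.big; omega
  set i₀ : Fin k := ⟨0, hk0⟩
  have hd0 : M.det ≠ 0 := hMi.det_ne_zero hF
  have hδ : M.det⁻¹ * M.det⁻¹ ^ q = 1 := by
    have := hMi.det_norm hF
    rw [inv_pow, ← mul_inv, ← pow_succ', this, inv_one]
  set δ := M.det⁻¹ with hδdef
  obtain ⟨l, hl0, hl⟩ : ∃ l : F, l ≠ 0 ∧ δ * l ^ q = l := by
    obtain ⟨x, hx⟩ : ∃ x : F, x + δ * x ^ q ≠ 0 := by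
      by_cases h1 : 1 + δ = 0
      · obtain ⟨u, hu⟩ := exists_not_fixed hF
        refine ⟨u, fun e0 => hu ?_⟩
        linear_combination (-1 : F) * e0 + u ^ q * h1
      · exact ⟨1, by rw [one_pow, mul_one]; exact h1⟩
    refine ⟨_, hx, ?_⟩
    rw [add_pow_q hF, mul_pow, pow_q_pow_q hF]
    linear_combination x * hδ
  set μ := (l ^ q)⁻¹ with hμ
  have hμl : μ ^ q = l⁻¹ := by rw [hμ, inv_pow, pow_q_pow_q hF]
  set E := e i₀
  set G := f i₀
  have hEG : hh E G = 1 := by simp [E, G, hef]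
  have hGE : hh G E = 1 := by simp [E, G, hfe]
  set D : Matrix (Fin n) (Fin n) F := H49.trM E ((l - 1) • fun j => G j ^ q) *
    H49.trM G ((μ - 1) • fun j => E j ^ q) with hD
  have hdot : ∀ (v x : V) (c : F), (c • fun j => v j ^ q) ⬝ᵥ x = c * hh x v := fun v x c => by
    simp [hermForm, dotProduct, Finset.mul_sum, mul_comm, mul_left_comm]
  have hDv : ∀ x, D *ᵥ x = x + ((l - 1) * hh x G) • E + ((μ - 1) * hh x E) • G := by
    intro x
    rw [hD, ← mulVec_mulVec, H49.trM_mulVec, H49.trM_mulVec, hdot, hdot, h_add_left, h_smul_left,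
      d.iso' G (hfU _) G (hfU _), mul_zero, add_zero]
    abel
  have hDi : IsIso q D := by
    intro x y
    rw [hDv, hDv]
    simp only [h_add_left, h_add_right hF, h_smul_left, h_smul_right hF, d.iso E (heU _) E (heU _),
      d.iso' G (hfU _) G (hfU _), hEG, hGE, mul_pow, sub_pow_q hF, one_pow, hμl,
      h_symm hF y G, h_symm hF y E]
    simp only [hμ]
    field_simp
    ring
  have hDd : D.det = δ := by
    rw [hD, Matrix.det_mul, H49.det_trM, H49.det_trM, hdot, hdot, hEG, hGE, mul_one, mul_one, hμ]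
    field_simp
    linear_combination hl.symm
  refine ⟨mkSU (D * M) (hDi.mul hMi) (by rw [Matrix.det_mul, hDd, hδdef, inv_mul_cancel₀ hd0]),
    fun x hx => ?_, fun x hx => ?_⟩
  · show (D * M) *ᵥ x ∈ U'
    rw [← mulVec_mulVec]
    have hspan : x ∈ Submodule.span F (Set.range e) := by
      have := β.mem_span ⟨x, hx⟩
      have h' := Submodule.mem_map_of_mem (f := U.subtype) this
      rw [Submodule.map_span, ← Set.range_comp] at h'
      exact h'
    have hMx : M *ᵥ x ∈ U' := by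
      suffices h : Submodule.span F (Set.range e) ≤ U'.comap (Matrix.mulVecLin M) from h hspan
      rw [Submodule.span_le]
      rintro _ ⟨i, rfl⟩
      show M *ᵥ e i ∈ U'
      rw [(hMs i (Finset.mem_univ i)).1]
      exact hfU i
    rw [hDv, d.iso' _ hMx G (hfU _), mul_zero, zero_smul, add_zero]
    exact U'.add_mem hMx (U'.smul_mem _ (hfU _))
  · show (D * M) *ᵥ x ∈ U
    rw [← mulVec_mulVec]
    have hfi : LinearIndependent F f := by
      rw [Fintype.linearIndependent_iff]
      intro c hc j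
      have h' := congrArg (fun z => hh z (e j)) hc
      simpa [h_sum_left, h_smul_left, hfe, h_zero_left] using h'
    have hspan : x ∈ Submodule.span F (Set.range f) := by
      have heq : Submodule.span F (Set.range f) = U' :=
        Submodule.eq_of_le_of_finrank_eq (Submodule.span_le.2 (by rintro _ ⟨i, rfl⟩; exact hfU i))
          (by rw [finrank_span_eq_card hfi, Fintype.card_fin, d.dimU'])
      rw [heq]; exact hx
    have hMx : M *ᵥ x ∈ U := by
      suffices h : Submodule.span F (Set.range f) ≤ U.comap (Matrix.mulVecLin M) from h hspan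
      rw [Submodule.span_le]
      rintro _ ⟨i, rfl⟩
      show M *ᵥ f i ∈ U
      rw [(hMs i (Finset.mem_univ i)).2]
      exact heU i
    rw [hDv, d.iso _ hMx E (heU _), mul_zero, zero_smul, add_zero]
    exact U.add_mem hMx (U.smul_mem _ (heU _))

/-- The overgroups of the stabiliser. -/
theorem eq_top_of_moves {g : SU n F q}
    (hw : ∀ w : SU n F q, (∀ x ∈ U, suMat w *ᵥ x ∈ U') → (∀ x ∈ U', suMat w *ᵥ x ∈ U) → w ∈ K)
    (hg : g ∈ K)
    (hmove : ¬ (Fixes U U' g ∨ ((∀ x ∈ U, suMat g *ᵥ x ∈ U') ∧ ∀ x ∈ U', suMat g *ᵥ x ∈ U))) :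
    K = ⊤ := by
  have hF := d.card
  have hv : ∃ v, v ≠ 0 ∧ IsCtr K v := by
    rcases d.pure_or_ctr hK hg with h1 | h
    swap; · exact h
    rcases d.symm.pure_or_ctr (fixes_mem_swap hK) hg with h2 | h
    swap; · exact h
    exfalso
    apply hmove
    have hsplit : ∀ (W : Submodule F V), (∀ a ∈ W, suMat g *ᵥ a ∈ U ∨ suMat g *ᵥ a ∈ U') →
        (∀ a ∈ W, suMat g *ᵥ a ∈ U) ∨ ∀ a ∈ W, suMat g *ᵥ a ∈ U' := by
      intro W hW
      refine or_iff_not_imp_left.2 fun hnot a ha => ?_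
      simp only [not_forall] at hnot
      obtain ⟨a₀, ha₀, ha₀U⟩ := hnot
      have ha₀' := (hW a₀ ha₀).resolve_left ha₀U
      rcases hW a ha with h | h
      · rcases hW (a₀ + a) (W.add_mem ha₀ ha) with h' | h' <;> rw [mulVec_add] at h'
        · exact absurd ((U.add_mem_iff_left h).1 h') ha₀U
        · exact (U'.add_mem_iff_right ha₀').1 h'
      · exact h
    have hnot_both : ∀ W : Submodule F V, (∀ a ∈ U, suMat g *ᵥ a ∈ W) → (∀ a ∈ U', suMat g *ᵥ a ∈ W) →
        Module.finrank F W = k → False := by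
      intro W ha hb hW
      have htop : (⊤ : Submodule F V) ≤ W := by
        intro v _
        obtain ⟨a, ha', b, hb', hab⟩ := d.dec (suMat g⁻¹ *ᵥ v)
        have : suMat g *ᵥ (a + b) ∈ W := by rw [mulVec_add]; exact W.add_mem (ha a ha') (hb b hb')
        rwa [hab, suMat_mulVec_inv] at this
      have := Submodule.finrank_mono htop
      rw [finrank_top, hW, Module.finrank_pi, Fintype.card_fin] at this
      have := d.big
      have := d.size
      omega
    rcases hsplit U h1 with h | h <;> rcases hsplit U' (fun a ha => (h2 a ha).symm) with h' | h'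
    · exact (hnot_both U h h' d.dimU).elim
    · exact Or.inl ⟨h, h'⟩
    · exact Or.inr ⟨h, h'⟩
    · exact (hnot_both U' h h' d.dimU').elim
  obtain ⟨v, hv0, hv⟩ := hv
  obtain ⟨w, hw1, hw2⟩ := d.exists_interchange
  have hwK := hw w hw1 hw2
  have hne : ∀ z : V, z ≠ 0 → suMat w *ᵥ z ≠ 0 := fun z hz e => hz (by
    rw [← suMat_inv_mulVec w z, e, mulVec_zero])
  obtain ⟨a, ha, b, hb, rfl⟩ := d.dec v
  obtain ⟨u, hu, hu0, huC⟩ : ∃ u ∈ U, u ≠ 0 ∧ IsCtr K u := by
    rcases eq_or_ne b 0 with rfl | hb0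
    · exact ⟨a, ha, by simpa using hv0, by simpa using hv⟩
    rcases eq_or_ne a 0 with rfl | ha0
    · rw [zero_add] at hv hv0
      exact ⟨suMat w *ᵥ b, hw2 b hb, hne b hv0, ctr_group hv hwK⟩
    exact d.exists_ctr_U hK ha hb ha0 hb0 hv
  have hU := d.ctr_of_mem_U hK huC hu0 hu
  have hU' := d.symm.ctr_of_mem_U (fixes_mem_swap hK) (ctr_group huC hwK) (hne u hu0) (hw1 u hu)
  exact StabMax.eq_top_of_ctr hF (by have := d.big; have := d.size; omega) K (d.all_ctr hK hU hU')

end UPair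

end PairU

end H51
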