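import Cfsg.Agent.H51.Witt
import Cfsg.Agent.H50.Count

set_option autoImplicit false

namespace H51

open Matrix

/-- The order of `GU_n(q)` in the signed form. -/
theorem card_GU_int {K : Type*} [Field K] [Fintype K] {q n : ℕ} (hK : Fintype.card K = q ^ 2) :
    (Nat.card ↥(Cfsg.GU n K q) : ℤ) =
      (q : ℤ) ^ (n * (n - 1) / 2) * ∏ i : Fin n, ((q : ℤ) ^ ((i : ℕ) + 1) - (-1) ^ ((i : ℕ) + 1)) := by
  rw [H50.card_GU hK]
  push_cast
  rw [← Fin.prod_univ_eq_prod_range]
  congr 1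
  refine Finset.prod_congr rfl fun i _ => ?_
  rcases Nat.even_or_odd (i : ℕ) with h | h
  · rw [if_pos h, pow_succ (-1 : ℤ), h.neg_one_pow]; push_cast; ring
  · rw [if_neg (Nat.not_even_iff_odd.mpr h), pow_succ (-1 : ℤ), h.neg_one_pow,
      Nat.cast_sub (Nat.one_le_pow _ _ (lt_trans one_pos (one_lt_q hK)))]
    push_cast; ring

/-- Elements of `GU_n` fixed by a field automorphism of odd prime order up to a scalar. -/
theorem card_fixed_up_to_scalar {K : Type*} [Field K] [Fintype K] {q₀ q r n : ℕ} (hr : r.Prime) (hr2 : r ≠ 2)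
    (hn : 1 ≤ n) (hq : q = q₀ ^ r) (hK : Fintype.card K = q ^ 2) (σ : K ≃+* K) (hσ : orderOf σ = r) :
    (Nat.card {g : ↥(Cfsg.GU n K q) // ∃ c : K, c ≠ 0 ∧ ((g : GL (Fin n) K) : Matrix (Fin n) (Fin n) K).map σ
        = c • ((g : GL (Fin n) K) : Matrix (Fin n) (Fin n) K)} : ℤ) =
      ((q + 1) / (q₀ + 1) : ℕ) * ((q₀ : ℤ) ^ (n * (n - 1) / 2) *
        ∏ i : Fin n, ((q₀ : ℤ) ^ ((i : ℕ) + 1) - (-1) ^ ((i : ℕ) + 1))) := by
  classical
  haveI : Nonempty (Fin n) := ⟨⟨0, hn⟩⟩
  haveI : Finite (K ≃+* K) := Finite.of_injective _ DFunLike.coe_injective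
  let G := Subgroup.zpowers σ
  haveI : Fintype G := Fintype.ofFinite G
  let K0 := FixedPoints.subfield G K
  haveI : Fintype K0 := Fintype.ofFinite _
  have hfix : ∀ x : K, x ∈ K0 ↔ σ x = x := by
    intro x
    refine ⟨fun h => h ⟨σ, Subgroup.mem_zpowers σ⟩, fun h g => ?_⟩
    have : g.1 ∈ MulAction.stabilizer (K ≃+* K) x :=
      Subgroup.zpowers_le.mpr (MulAction.mem_stabilizer_iff.mpr h) g.2
    exact MulAction.mem_stabilizer_iff.mp this
  have hodd : Odd r := hr.odd_of_ne_two hr2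
  have hcard : Fintype.card K0 = q₀ ^ 2 := by
    have h1 := Module.card_eq_pow_finrank (K := K0) (V := K)
    have h2 : Module.finrank K0 K = r := by
      rw [FixedPoints.finrank_eq_card, ← Nat.card_eq_fintype_card, Nat.card_zpowers, hσ]
    rw [h2, hK, hq, ← pow_mul, mul_comm, pow_mul] at h1
    exact (Nat.pow_left_injective hr.ne_zero h1).symm
  have hq0 : ∀ x : K0, ((x : K) ^ q) = ((x ^ q₀ : K0) : K) := by
    intro x
    have : x ^ q = x ^ q₀ := by
      obtain ⟨s, hs⟩ := hodd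
      have h2 : ∀ j, x ^ ((q₀ ^ 2) ^ j) = x := by
        intro j
        induction j with
        | zero => simp
        | succ j ih => rw [pow_succ, pow_mul, ih, ← hcard]; exact FiniteField.pow_card x
      rw [hq, hs, pow_succ, pow_mul q₀ 2 s, pow_mul, h2]
    rw [← this]; rfl
  have hadj : ∀ A : Matrix (Fin n) (Fin n) K0, adj hK (A.map (K0.subtype)) = (adj hcard A).map (K0.subtype) := by
    intro A; ext i j
    simp only [adj_apply, Matrix.map_apply]
    exact hq0 _
  have hσq : ∀ x : K, σ (x ^ q) = σ x ^ q := fun x => map_pow σ x q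
  let μ : Subgroup Kˣ := (powMonoidHom (q + 1)).ker
  have hμ : ∀ a : μ, ((a : Kˣ) : K) ^ q * ((a : Kˣ) : K) = 1 := fun a => by
    rw [← pow_succ]; exact congrArg Units.val a.2
  have hmem : ∀ (a : μ) (g : ↥(Cfsg.GU n K0 q₀)),
      adj hK (((a : Kˣ) : K) • ((g : GL (Fin n) K0) : Matrix (Fin n) (Fin n) K0).map K0.subtype) *
        (((a : Kˣ) : K) • ((g : GL (Fin n) K0) : Matrix (Fin n) (Fin n) K0).map K0.subtype) = 1 := by
    intro a g
    rw [adj_smul, hadj, smul_mul_smul_comm, hμ, one_smul, ← Matrix.map_mul, (mem_GU_iff hcard _).mp g.2,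
      Matrix.map_one _ (map_zero _) (map_one _)]
  let ψ : μ × ↥(Cfsg.GU n K0 q₀) →* ↥(Cfsg.GU n K q) :=
    { toFun := fun x => ⟨mkGL hK _ (hmem x.1 x.2), mkGL_mem hK _ _⟩
      map_one' := Subtype.ext (Units.ext (by
        show ((1 : Kˣ) : K) • (1 : Matrix (Fin n) (Fin n) K0).map K0.subtype = 1
        rw [Units.val_one, one_smul, Matrix.map_one _ (map_zero _) (map_one _)]))
      map_mul' := fun x y => Subtype.ext (Units.ext (by
        show (((x.1 * y.1 : μ) : Kˣ) : K) • (((x.2 * y.2 : ↥(Cfsg.GU n K0 q₀)) : GL (Fin n) K0) : Matrix (Fin n) (Fin n) K0).map K0.subtype =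
          (((x.1 : Kˣ) : K) • ((x.2 : GL (Fin n) K0) : Matrix (Fin n) (Fin n) K0).map K0.subtype) *
          (((y.1 : Kˣ) : K) • ((y.2 : GL (Fin n) K0) : Matrix (Fin n) (Fin n) K0).map K0.subtype)
        rw [smul_mul_smul_comm, ← Matrix.map_mul]
        rfl)) }
  have hψ : ∀ x, ((ψ x : GL (Fin n) K) : Matrix (Fin n) (Fin n) K) =
      ((x.1 : Kˣ) : K) • ((x.2 : GL (Fin n) K0) : Matrix (Fin n) (Fin n) K0).map K0.subtype := fun x => rfl
  have hrange : ∀ g : ↥(Cfsg.GU n K q), (∃ c : K, c ≠ 0 ∧ ((g : GL (Fin n) K) : Matrix (Fin n) (Fin n) K).map σ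
      = c • ((g : GL (Fin n) K) : Matrix (Fin n) (Fin n) K)) ↔ g ∈ ψ.range := by
    intro g
    set X := ((g : GL (Fin n) K) : Matrix (Fin n) (Fin n) K) with hX
    constructor
    · rintro ⟨c, hc0, hc⟩
      have hXne : X ≠ 0 := (g : GL (Fin n) K).isUnit.ne_zero
      obtain ⟨i, j, hij⟩ : ∃ i j, X i j ≠ 0 := by
        by_contra h; push_neg at h; exact hXne (Matrix.ext h)
      have hcij : ∀ a b, σ (X a b) = c * X a b := fun a b => by
        simpa using congrFun (congrFun hc a) b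
      have hfixed : ∀ a b, (X i j)⁻¹ * X a b ∈ K0 := by
        intro a b
        rw [hfix, map_mul, map_inv₀, hcij, hcij]
        field_simp
      let Y : Matrix (Fin n) (Fin n) K0 := Matrix.of fun a b => ⟨_, hfixed a b⟩
      set e := X i j with he
      have hXY : X = e • Y.map K0.subtype := by
        ext a b
        show X a b = e * (e⁻¹ * X a b)
        rw [← mul_assoc, mul_inv_cancel₀ hij, one_mul]
      have hY := (mem_GU_iff hK _).mp g.2
      rw [← hX, hXY, adj_smul, hadj, smul_mul_smul_comm, ← Matrix.map_mul] at hY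
      obtain ⟨i0⟩ := ‹Nonempty (Fin n)›
      set W := adj hcard Y * Y
      have hW : ∀ a b, e ^ q * e * ((W a b : K0) : K) = (1 : Matrix (Fin n) (Fin n) K) a b := fun a b => by
        simpa using congrFun (congrFun hY a) b
      set ν : K0 := W i0 i0
      have hν : e ^ q * e * (ν : K) = 1 := by rw [hW, Matrix.one_apply_eq]
      have hν0 : ν ≠ 0 := fun h => by rw [h] at hν; simp at hν
      have hνq : ν ^ q₀ = ν := by
        have : adj hcard W = W := by rw [show W = adj hcard Y * Y from rfl, adj_mul, adj_adj]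
        exact congrFun (congrFun this i0) i0
      obtain ⟨μ', hμ'⟩ := exists_norm_eq hcard hνq
      have hμ0 : μ' ≠ 0 := fun h => hν0 (by rw [← hμ', h, mul_zero])
      have hWs : W = ν • 1 := by
        ext a b
        have he0 : e ^ q * e ≠ 0 := fun h => by rw [h, zero_mul] at hν; exact zero_ne_one hν
        apply mul_left_cancel₀ he0
        rw [hW]
        rcases eq_or_ne a b with rfl | hab
        · simpa using hν.symm
        · simp [hab]
      have hZ : adj hcard (μ'⁻¹ • Y) * (μ'⁻¹ • Y) = 1 := by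
        rw [adj_smul, smul_mul_smul_comm, show adj hcard Y * Y = ν • 1 from hWs, smul_smul, ← hμ', inv_pow]
        field_simp
        rw [one_smul]
      have ha : (e * (μ' : K)) ^ (q + 1) = 1 := by
        have hq' : ((μ' : K)) ^ q = ((μ' ^ q₀ : K0) : K) := hq0 μ'
        rw [mul_pow, pow_succ, pow_succ, hq', ← hν, ← hμ']
        push_cast; ring
      have he0 : e * (μ' : K) ≠ 0 := mul_ne_zero hij (by simpa using hμ0)
      refine ⟨(⟨Units.mk0 _ he0, Units.ext (by simpa using ha)⟩, ⟨mkGL hcard _ hZ, mkGL_mem hcard _ _⟩),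
        Subtype.ext (Units.ext ?_)⟩
      rw [hψ]
      show (e * (μ' : K)) • (μ'⁻¹ • Y).map K0.subtype = X
      rw [hXY]
      ext a b
      have : (μ' : K) ≠ 0 := by simpa using hμ0
      simp only [Matrix.smul_apply, Matrix.map_apply, smul_eq_mul, map_mul, map_inv₀, Subfield.coe_subtype]
      push_cast
      field_simp
    · rintro ⟨⟨a, g0⟩, rfl⟩
      refine ⟨σ (a : Kˣ) / ((a : Kˣ) : K), div_ne_zero (by simp) (Units.ne_zero _), ?_⟩
      rw [hX, hψ]
      ext i j
      simp only [Matrix.map_apply, Matrix.smul_apply, smul_eq_mul, map_mul]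
      rw [show σ (K0.subtype (((g0 : GL (Fin n) K0) : Matrix (Fin n) (Fin n) K0) i j)) = _ from
        (hfix _).mp (((g0 : GL (Fin n) K0) : Matrix (Fin n) (Fin n) K0) i j).2]
      field_simp
  have hker : Nat.card ψ.ker = q₀ + 1 := by
    rw [← H50.natCard_norm_ker hcard]
    obtain ⟨i0⟩ := ‹Nonempty (Fin n)›
    have hval : ∀ x : μ × ↥(Cfsg.GU n K0 q₀), x ∈ ψ.ker ↔ ∀ a b, ((x.1 : Kˣ) : K) *
        ((((x.2 : GL (Fin n) K0) : Matrix (Fin n) (Fin n) K0) a b : K0) : K) = (1 : Matrix (Fin n) (Fin n) K) a b := by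
      intro x
      rw [MonoidHom.mem_ker, ← Subtype.coe_inj, ← Units.val_inj, ← Matrix.ext_iff, hψ]
      simp
    have hscal : ∀ u : (powMonoidHom (q₀ + 1) : K0ˣ →* K0ˣ).ker,
        adj hcard (((u : K0ˣ) : K0) • (1 : Matrix (Fin n) (Fin n) K0)) * (((u : K0ˣ) : K0) • 1) = 1 := fun u => by
      rw [adj_smul, adj_one, smul_mul_smul_comm, one_mul, ← pow_succ]
      rw [show ((u : K0ˣ) : K0) ^ (q₀ + 1) = 1 from congrArg Units.val u.2, one_smul]
    let toμ : (powMonoidHom (q₀ + 1) : K0ˣ →* K0ˣ).ker → μ := fun u =>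
      ⟨Units.map (K0.subtype : K0 →+* K).toMonoidHom (u : K0ˣ)⁻¹, Units.ext (by
        show ((((u : K0ˣ)⁻¹ : K0ˣ) : K0) : K) ^ (q + 1) = 1
        rw [pow_succ, hq0]
        have := congrArg (fun z : K0ˣ => ((z : K0) : K)) (show (u : K0ˣ)⁻¹ ^ (q₀ + 1) = 1 from by
          rw [inv_pow, show (u : K0ˣ) ^ (q₀ + 1) = 1 from u.2, inv_one])
        simpa [pow_succ] using this)⟩
    let f : (powMonoidHom (q₀ + 1) : K0ˣ →* K0ˣ).ker → ψ.ker := fun u =>
      ⟨(toμ u, ⟨mkGL hcard _ (hscal u), mkGL_mem hcard _ _⟩), (hval _).mpr fun a b => by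
        show ((((u : K0ˣ)⁻¹ : K0ˣ) : K0) : K) *
          (((((u : K0ˣ) : K0) • (1 : Matrix (Fin n) (Fin n) K0)) a b : K0) : K) = _
        rcases eq_or_ne a b with rfl | hab
        · simp
        · simp [hab]⟩
    refine (Nat.card_eq_of_bijective f ⟨?_, ?_⟩).symm
    · intro u v h
      have h' : toμ u = toμ v := congrArg (fun z : ψ.ker => z.1.1) h
      have h'' : ((((u : K0ˣ)⁻¹ : K0ˣ) : K0) : K) = ((((v : K0ˣ)⁻¹ : K0ˣ) : K0) : K) :=
        congrArg (fun z : μ => ((z : Kˣ) : K)) h'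
      exact Subtype.ext (inv_injective (Units.ext (Subtype.ext h'')))
    · rintro ⟨⟨a, g⟩, hx⟩
      have hx' := (hval _).mp hx
      set G0 := ((g : GL (Fin n) K0) : Matrix (Fin n) (Fin n) K0) with hG0
      set u0 : K0 := G0 i0 i0
      have hau : ((a : Kˣ) : K) * (u0 : K) = 1 := by simpa using hx' i0 i0
      have hu0 : u0 ≠ 0 := fun h => by rw [h] at hau; simp at hau
      have hG : G0 = u0 • 1 := by
        ext c d
        apply mul_left_cancel₀ (Units.ne_zero (a : Kˣ))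
        show ((a : Kˣ) : K) * (G0 c d : K) = ((a : Kˣ) : K) * _
        rw [hx']
        rcases eq_or_ne c d with rfl | hcd
        · simpa using hau.symm
        · simp [hcd]
      have hun : (Units.mk0 u0 hu0) ^ (q₀ + 1) = 1 := by
        have h := congrFun (congrFun ((mem_GU_iff hcard _).mp g.2) i0) i0
        rw [← hG0, hG, adj_smul, adj_one, smul_mul_smul_comm, one_mul, ← pow_succ] at h
        exact Units.ext (by simpa using h)
      refine ⟨⟨Units.mk0 u0 hu0, hun⟩, Subtype.ext (Prod.ext (Subtype.ext (Units.ext ?_)) (Subtype.ext (Units.ext hG.symm)))⟩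
      show ((((Units.mk0 u0 hu0)⁻¹ : K0ˣ) : K0) : K) = ((a : Kˣ) : K)
      rw [Units.val_inv_eq_inv_val]
      simpa using (eq_inv_of_mul_eq_one_left hau).symm
  have htot : Nat.card ψ.range * (q₀ + 1) = (q + 1) * Nat.card ↥(Cfsg.GU n K0 q₀) := by
    rw [← hker, ← Subgroup.index_ker, Subgroup.index_mul_card, Nat.card_prod, H50.natCard_norm_ker hK]
  rw [Nat.card_congr (Equiv.subtypeEquivRight hrange), ← card_GU_int hcard]
  have hdiv : q₀ + 1 ∣ q + 1 := by
    rw [hq]; simpa using hodd.nat_add_dvd_pow_add_pow q₀ 1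
  obtain ⟨w, hw⟩ := hdiv
  rw [hw, mul_assoc, mul_comm _ (q₀ + 1)] at htot
  rw [hw, Nat.mul_div_cancel_left _ (Nat.succ_pos _)]
  exact_mod_cast Nat.eq_of_mul_eq_mul_left (Nat.succ_pos _) htot

end H51
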