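import Cfsg.Agent.H51.HalfTorus

/-!
The cyclic maximal torus of `SU_n(q)` of order `|((-q)^n - 1)/(-q - 1)|` ("Singer" type), both parities.
-/

set_option autoImplicit false
set_option linter.style.haveILetI false

namespace H51

open Matrix Polynomial

variable {F : Type*} [Field F] [Fintype F] {q : ℕ} (hF : Fintype.card F = q ^ 2)

theorem negSum_succ' (q j : ℕ) : negSum q (j + 1) = 1 + (-(q : ℤ)) * negSum q j := by
  rw [negSum, negSum, Finset.sum_range_succ', Finset.mul_sum]
  simp only [pow_succ', pow_zero]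
  ring

include hF in
theorem negSum_cast_ne_zero {n : ℕ} (hn : 1 ≤ n) : ((negSum q n).natAbs : F) ≠ 0 := by
  obtain ⟨k, hk, hq, hp⟩ := exists_q_pow hF
  haveI : CharP F (ringChar F) := ringChar.charP F
  rw [Ne, ringChar.spec, ← Int.natCast_dvd]
  intro h
  obtain ⟨j, rfl⟩ : ∃ j, n = j + 1 := ⟨n - 1, by omega⟩
  rw [negSum_succ'] at h
  have h2 : (ringChar F : ℤ) ∣ -(q : ℤ) * negSum q j := by
    refine dvd_mul_of_dvd_left (dvd_neg.2 ?_) _
    rw [hq]; exact_mod_cast dvd_pow_self (ringChar F) hk.ne'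
  exact hp.one_lt.ne' (Nat.eq_one_of_dvd_one (by exact_mod_cast (Int.dvd_add_left h2).1 h))

theorem negSum_ne_zero {q n : ℕ} (hq : 2 ≤ q) (hn : 1 ≤ n) : negSum q n ≠ 0 := by
  intro h
  have h1 := negSum_mul q n
  rw [h, zero_mul, eq_comm, sub_eq_zero] at h1
  have h2 := congrArg Int.natAbs h1
  rw [Int.natAbs_pow, Int.natAbs_neg, Int.natAbs_natCast, Int.natAbs_one] at h2
  have := Nat.one_lt_pow (show n ≠ 0 by omega) (show 1 < q by omega)
  omega

include hF in
/-- An element of `SU_n(q)` of order `|S_n|`. -/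
theorem exists_su_torus {n : ℕ} (hn : 1 ≤ n) :
    ∃ g : ↥(Cfsg.SU n F q), orderOf g = (negSum q n).natAbs := by
  classical
  obtain ⟨m, rfl⟩ : ∃ m, n = m + 1 := ⟨n - 1, by omega⟩
  set N := (negSum q (m + 1)).natAbs with hN
  have hN0 : 0 < N := Int.natAbs_pos.2 (negSum_ne_zero (one_lt_q hF) hn)
  obtain ⟨p0, hp0, hp0', hpp⟩ := exists_q_pow hF
  haveI := Fact.mk hpp
  set L := AlgebraicClosure F
  set φ : F →+* L := algebraMap F L with hφ
  haveI : CharP F (ringChar F) := ringChar.charP F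
  haveI : CharP L (ringChar F) := charP_of_injective_algebraMap φ.injective _
  let σ : L →+* L := iterateFrobenius L (ringChar F) p0
  have hσ : ∀ y, σ y = y ^ q := fun y => by rw [hp0']; rfl
  haveI : NeZero (N : L) := ⟨by
    rw [← map_natCast φ]; exact (map_ne_zero φ).2 (negSum_cast_ne_zero hF hn)⟩
  obtain ⟨a, ha⟩ : ∃ a : L, IsPrimitiveRoot a N := HasEnoughRootsOfUnity.exists_primitiveRoot L N
  have haN : a ^ N = 1 := ha.pow_eq_one
  set u : Lˣ := (ha.isUnit hN0.ne').unit with hu
  have huo : (orderOf u : ℤ) ∣ negSum q (m + 1) := by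
    rw [← orderOf_units, hu, IsUnit.unit_spec, ← ha.eq_orderOf, hN]
    exact Int.natAbs_dvd.2 dvd_rfl
  let f : Fin (m + 1) → Lˣ := fun i => u ^ ((-(q : ℤ)) ^ (i : ℕ))
  have huQ : u ^ ((-(q : ℤ)) ^ (m + 1)) = u := by
    have h1 : u ^ ((-(q : ℤ)) ^ (m + 1) - 1) = 1 := by
      rw [← orderOf_dvd_iff_zpow_eq_one, ← negSum_mul]
      exact dvd_mul_of_dvd_left huo _
    rwa [_root_.zpow_sub, zpow_one, mul_inv_eq_one] at h1
  have hrot : ∀ i, f (finRotate (m + 1) i) = (Units.map σ.toMonoidHom (f i))⁻¹ := by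
    intro i
    have h2 : (Units.map σ.toMonoidHom (f i))⁻¹ = u ^ ((-(q : ℤ)) ^ ((i : ℕ) + 1)) := by
      have h3 : Units.map σ.toMonoidHom (f i) = (f i) ^ q := Units.ext (by simp [hσ])
      rw [h3]
      simp only [f]
      rw [← zpow_natCast, ← _root_.zpow_mul, ← _root_.zpow_neg, pow_succ]
      congr 1
      ring
    rw [h2]
    by_cases hi : i = Fin.last m
    · subst hi
      simp only [f]
      rw [finRotate_last, Fin.val_zero, pow_zero, zpow_one, Fin.val_last, huQ]
    · simp only [f]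
      rw [finRotate_succ_apply, Fin.val_add_one_of_lt (Fin.lt_last_iff_ne_last.2 hi)]
  set P : L[X] := ∏ i, (X - C (f i : L)) with hP
  have hPdual : (∏ i, (X - C (σ ((f i : Lˣ)⁻¹ : Lˣ)))) = P := by
    rw [hP]
    refine Fintype.prod_equiv (finRotate (m + 1)) _ _ fun i => ?_
    rw [hrot i]
    simp
  have hPfix : P.map (σ.comp σ) = P := by
    rw [hP, Polynomial.map_prod]
    refine Fintype.prod_equiv ((finRotate (m + 1)).trans (finRotate (m + 1))) _ _ fun i => ?_
    rw [Equiv.trans_apply, hrot, hrot]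
    simp
  have hrange : ∀ c : L, c ^ Fintype.card F = c → c ∈ φ.range := by
    intro c hc
    have hne : (X ^ Fintype.card F - X : L[X]) ≠ 0 :=
      FiniteField.X_pow_card_sub_X_ne_zero L Fintype.one_lt_card
    have hsub : Finset.univ.image φ = (X ^ Fintype.card F - X : L[X]).roots.toFinset := by
      refine Finset.eq_of_subset_of_card_le ?_ ?_
      · intro y hy
        obtain ⟨b, -, rfl⟩ := Finset.mem_image.1 hy
        rw [Multiset.mem_toFinset, Polynomial.mem_roots hne]
        simp [← map_pow, FiniteField.pow_card]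
      · rw [Finset.card_image_of_injective _ φ.injective, Finset.card_univ]
        refine (Multiset.toFinset_card_le _).trans ((Polynomial.card_roots' _).trans ?_)
        rw [FiniteField.X_pow_card_sub_X_natDegree_eq _ Fintype.one_lt_card]
    have : c ∈ Finset.univ.image φ := by
      rw [hsub, Multiset.mem_toFinset, Polynomial.mem_roots hne]; simp [hc]
    obtain ⟨b, -, hb⟩ := Finset.mem_image.1 this
    exact ⟨b, hb⟩
  have hlift : P ∈ Polynomial.lifts φ := by
    rw [Polynomial.lifts_iff_coeff_lifts]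
    intro i
    obtain ⟨b, hb⟩ := hrange (P.coeff i) (by
      conv_rhs => rw [← hPfix, Polynomial.coeff_map]
      show _ = σ (σ (P.coeff i))
      rw [hσ, hσ, ← pow_mul, ← pow_two, ← hF])
    exact ⟨b, hb⟩
  have hPm : P.Monic := monic_prod_of_monic _ _ fun x _ => monic_X_sub_C _
  obtain ⟨P0, hP0, -, hP0m⟩ := Polynomial.lifts_and_degree_eq_and_monic hlift hPm
  have hdeg' : P0.natDegree = m + 1 := by
    rw [← Polynomial.natDegree_map_eq_of_injective φ.injective, hP0, hP,
      Polynomial.natDegree_prod_of_monic _ _ fun x _ => monic_X_sub_C _]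
    simp
  obtain ⟨A, hAc, hAdet, j, hj, hAj⟩ := H40.exists_matrix_with_charpoly P0 hP0m hdeg' (by
    intro h0
    have hc : P.coeff 0 = 0 := by rw [← hP0, Polynomial.coeff_map, h0, map_zero]
    rw [Polynomial.coeff_zero_eq_eval_zero, hP, Polynomial.eval_prod, Finset.prod_eq_zero_iff] at hc
    obtain ⟨i, -, hi⟩ := hc
    simp at hi)
  have hdetA : A.det = 1 := by
    apply φ.injective
    rw [map_one, RingHom.map_det, RingHom.mapMatrix_apply, Matrix.det_eq_prod_roots_charpoly,
      Matrix.charpoly_map, hAc, hP0, hP, Finset.prod_eq_multiset_prod]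
    have h1 := Polynomial.roots_multiset_prod_X_sub_C (Finset.univ.val.map fun i => (f i : L))
    rw [Multiset.map_map] at h1
    rw [show (Finset.univ.val.map fun i => (X - C (f i : L))) =
      Finset.univ.val.map ((fun x => X - C x) ∘ fun i => (f i : L)) from rfl, h1,
      ← Finset.prod_eq_multiset_prod, ← Units.coe_prod]
    suffices hone : (∏ i, f i) = 1 by rw [hone, Units.val_one]
    rw [orderOf_dvd_iff_zpow_eq_one] at huo
    conv_rhs => rw [← huo]
    simp only [f]
    rw [Fin.prod_univ_eq_prod_range (fun i => u ^ ((-(q : ℤ)) ^ i)) (m + 1)]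
    clear_value u
    induction (m + 1) with
    | zero => simp [negSum]
    | succ l ih => rw [negSum, Finset.sum_range_succ, ← negSum, _root_.zpow_add, Finset.prod_range_succ, ih]
  let a0 : GL (Fin (m + 1)) F := Matrix.GeneralLinearGroup.mkOfDetNeZero A hAdet
  let GL' : GL (Fin (m + 1)) F →* GL (Fin (m + 1)) L := Matrix.GeneralLinearGroup.map φ
  have hchar : (GL' a0 : Matrix (Fin (m + 1)) (Fin (m + 1)) L).charpoly = P := by
    show (A.map φ).charpoly = P
    rw [Matrix.charpoly_map, hAc, hP0]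
  have hfN : ∀ i, f i ^ N = 1 := fun i => by
    simp only [f]
    rw [← zpow_natCast, ← _root_.zpow_mul, mul_comm, _root_.zpow_mul, zpow_natCast,
      show u ^ N = 1 from Units.ext (by rw [hu, Units.val_pow_eq_pow_val, IsUnit.unit_spec, haN, Units.val_one]),
      _root_.one_zpow]
  obtain ⟨Cm, hCm, hCA⟩ := H40.exists_conj_matrix (F := L)
    (A := (GL' a0 : Matrix (Fin (m + 1)) (Fin (m + 1)) L))
    (B := (H42.diagGL f : Matrix (Fin (m + 1)) (Fin (m + 1)) L))
    ⟨j, by rw [← map_natCast φ]; exact (map_ne_zero φ).2 hj, by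
      show (A.map φ) ^ j = 1
      rw [← RingHom.mapMatrix_apply, ← map_pow, hAj, map_one]⟩
    ⟨N, NeZero.ne _, by
      rw [H42.coe_diagGL, Matrix.diagonal_pow]
      ext x y
      by_cases hxy : x = y
      · subst hxy
        rw [Matrix.diagonal_apply_eq, Matrix.one_apply_eq, Pi.pow_apply, ← Units.val_pow_eq_pow_val,
          hfN, Units.val_one]
      · rw [Matrix.diagonal_apply_ne _ hxy, Matrix.one_apply_ne hxy]⟩
    (by rw [hchar, H42.coe_diagGL, Matrix.charpoly_diagonal])
  let Cu : GL (Fin (m + 1)) L := Matrix.GeneralLinearGroup.mkOfDetNeZero Cm hCm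
  have hdiag : GL' a0 = Cu⁻¹ * H42.diagGL f * Cu⁻¹⁻¹ := by
    rw [inv_inv, mul_assoc, eq_inv_mul_iff_mul_eq]
    exact Units.ext hCA
  have hord : orderOf a0 = N := by
    rw [← orderOf_injective GL' (by
      intro x y h
      exact Units.ext (Matrix.map_injective φ.injective (congrArg Units.val h)))]
    apply Nat.dvd_antisymm
    · apply orderOf_dvd_of_pow_eq_one
      rw [hdiag, conj_pow, show (H42.diagGL f) ^ N = 1 from Units.ext (by
        rw [Units.val_pow_eq_pow_val, H42.coe_diagGL, Matrix.diagonal_pow, Units.val_one]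
        ext x y
        by_cases hxy : x = y
        · subst hxy
          rw [Matrix.diagonal_apply_eq, Matrix.one_apply_eq, Pi.pow_apply, ← Units.val_pow_eq_pow_val,
            hfN, Units.val_one]
        · rw [Matrix.diagonal_apply_ne _ hxy, Matrix.one_apply_ne hxy]), mul_one, mul_inv_cancel]
    · rw [ha.eq_orderOf]
      apply orderOf_dvd_of_pow_eq_one
      have h1 := pow_orderOf_eq_one (GL' a0)
      set o := orderOf (GL' a0)
      rw [hdiag, conj_pow, mul_inv_eq_one, mul_eq_left] at h1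
      have h3 : (H42.diagGL f : Matrix (Fin (m + 1)) (Fin (m + 1)) L) ^ o = 1 := by
        rw [← Units.val_pow_eq_pow_val, h1, Units.val_one]
      rw [H42.coe_diagGL, Matrix.diagonal_pow] at h3
      have h2 := congrFun (congrFun h3 0) 0
      rw [Matrix.diagonal_apply_eq, Matrix.one_apply_eq, Pi.pow_apply] at h2
      simpa [f, hu] using h2
  have hsd : IsConj (a0 : Matrix (Fin (m + 1)) (Fin (m + 1)) F)
      (((a0 : Matrix (Fin (m + 1)) (Fin (m + 1)) F).map fun x : F => x ^ q).transpose)⁻¹ := by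
    have hbu : IsUnit (((a0 : Matrix (Fin (m + 1)) (Fin (m + 1)) F).map fun x : F => x ^ q).transpose)⁻¹ := by
      rw [← adj_def hF, Matrix.isUnit_nonsing_inv_iff]
      exact isUnit_adj hF a0.isUnit
    set b := hbu.unit with hb
    have hval : (b : Matrix (Fin (m + 1)) (Fin (m + 1)) F) =
        adj hF ((a0⁻¹ : GL (Fin (m + 1)) F) : Matrix (Fin (m + 1)) (Fin (m + 1)) F) := by
      rw [hb, IsUnit.unit_spec, ← adj_def hF]
      exact Matrix.inv_eq_left_inv (by rw [← adj_mul, Units.mul_inv, adj_one])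
    have hGd : GL' b = dualHom σ (GL' a0) := by
      apply Units.ext
      show (b : Matrix (Fin (m + 1)) (Fin (m + 1)) F).map φ = Matrix.transpose (Matrix.map
        (((GL' a0)⁻¹ : GL (Fin (m + 1)) L) : Matrix (Fin (m + 1)) (Fin (m + 1)) L) σ)
      rw [← map_inv GL', hval]
      ext x y
      show φ (((a0⁻¹ : GL (Fin (m + 1)) F) : Matrix (Fin (m + 1)) (Fin (m + 1)) F) y x ^ q) =
        σ (φ (((a0⁻¹ : GL (Fin (m + 1)) F) : Matrix (Fin (m + 1)) (Fin (m + 1)) F) y x))
      rw [hσ, map_pow]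
    have hbc : (GL' b : Matrix (Fin (m + 1)) (Fin (m + 1)) L).charpoly = P := by
      rw [hGd, hdiag, inv_inv, map_mul, map_mul, map_inv (dualHom σ), dualHom_diag, Units.val_mul, Units.val_mul,
        Matrix.charpoly_mul_comm, ← mul_assoc, Units.mul_inv, one_mul, H42.coe_diagGL,
        Matrix.charpoly_diagonal, ← hPdual]
      rfl
    have hbord : (b : Matrix (Fin (m + 1)) (Fin (m + 1)) F) ^ j = 1 := by
      rw [hval, ← adj_pow, ← Units.val_pow_eq_pow_val, inv_pow,
        show a0 ^ j = 1 from Units.ext (by rw [Units.val_pow_eq_pow_val]; exact hAj), inv_one,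
        Units.val_one, adj_one]
    have hc : (a0 : Matrix (Fin (m + 1)) (Fin (m + 1)) F).charpoly =
        (b : Matrix (Fin (m + 1)) (Fin (m + 1)) F).charpoly :=
      Polynomial.map_injective φ φ.injective (by
        rw [← Matrix.charpoly_map, ← Matrix.charpoly_map]; exact hchar.trans hbc.symm)
    obtain ⟨D, hD, hDg⟩ := H40.exists_conj_matrix ⟨j, hj, hAj⟩ ⟨j, hj, hbord⟩ hc
    exact ⟨Matrix.GeneralLinearGroup.mkOfDetNeZero D hD, hDg⟩
  obtain ⟨g, hg⟩ := (similar_GU_iff hF a0).2 hsd
  obtain ⟨c, hc⟩ := isConj_iff.1 hg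
  have hgd : ((g : GL (Fin (m + 1)) F) : Matrix (Fin (m + 1)) (Fin (m + 1)) F).det = 1 := by
    rw [← hc, Units.val_mul, Units.val_mul, Matrix.det_mul_right_comm, Units.mul_inv, one_mul]
    exact hdetA
  refine ⟨mkSU hF _ ((mem_GU_iff hF _).1 g.2) hgd, ?_⟩
  rw [← hord, ← orderOf_injective (MulAut.conj c).toMonoidHom (MulAut.conj c).injective a0,
    show (MulAut.conj c).toMonoidHom a0 = (g : GL (Fin (m + 1)) F) from hc]
  rw [← orderOf_injective (Matrix.SpecialLinearGroup.toGL.comp (Cfsg.SU (m + 1) F q).subtype)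
    (fun x y h => Subtype.ext (Subtype.ext (congrArg Units.val h)))]
  congr 1
  exact Units.ext rfl

end H51
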