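import Cfsg.Agent.H51.Herm
import Cfsg.Agent.H50.Field

set_option autoImplicit false

namespace H51

open Matrix

variable {K : Type*} [Field K] [Fintype K] {q : ℕ}

/-- The subfield with `q` elements. -/
def fixedSub (hK : Fintype.card K = q ^ 2) : Subfield K := RingHom.eqLocusField (qFrob hK) (RingHom.id K)

lemma mem_fixedSub (hK : Fintype.card K = q ^ 2) {x : K} : x ∈ fixedSub hK ↔ x ^ q = x := Iff.rfl

/-- An embedding of a field with `q` elements as the fixed field of `x ↦ x^q`. -/
lemma exists_embedding {F : Type*} [Field F] [Fintype F] (hK : Fintype.card K = q ^ 2)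
    (hF : Fintype.card F = q) :
    ∃ ι : F →+* K, Function.Injective ι ∧ ∀ x, (∃ a, ι a = x) ↔ x ^ q = x := by
  classical
  haveI : Fintype (fixedSub hK) := Fintype.ofFinite _
  have hc : Fintype.card F = Fintype.card (fixedSub hK) := by
    rw [hF, ← Nat.card_eq_fintype_card]
    exact (H50.card_fixed hK).symm
  let e : F ≃+* fixedSub hK := FiniteField.ringEquivOfCardEq hc
  refine ⟨(fixedSub hK).subtype.comp e.toRingHom, RingHom.injective _, fun x => ⟨?_, fun hx => ?_⟩⟩
  · rintro ⟨a, rfl⟩; exact (e a).2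
  · exact ⟨e.symm ⟨x, hx⟩, by simp⟩

/-- `GU_m(q)` embeds in `Sp_{2m}` over a field with `q` elements. -/
theorem exists_GU_to_symplectic {F : Type*} [Field F] [Fintype F] (hK : Fintype.card K = q ^ 2)
    (hF : Fintype.card F = q) (m : ℕ) :
    ∃ φ : ↥(Cfsg.GU m K q) →* ↥(Matrix.symplecticGroup (Fin m) F), Function.Injective φ := by
  classical
  obtain ⟨ι, hι, hfix⟩ := exists_embedding (F := F) hK hF
  have hιq : ∀ a, ι a ^ q = ι a := fun a => (hfix _).mp ⟨a, rfl⟩
  obtain ⟨θ, ht, hΔ⟩ := exists_theta hK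
  have uniq : ∀ a b a' b' : F, ι a + θ * ι b = ι a' + θ * ι b' → a = a' ∧ b = b' := by
    intro a b a' b' h
    have h2 := congrArg (qFrob hK) h
    simp only [map_add, map_mul, qFrob_apply, hιq] at h2
    have h3 : (θ - θ ^ q) * (ι b - ι b') = 0 := by linear_combination h - h2
    have hb : b = b' := hι (sub_eq_zero.mp ((mul_eq_zero.mp h3).resolve_left hΔ))
    subst hb
    exact ⟨hι (add_right_cancel h), rfl⟩
  have ex : ∀ x : K, ∃ p : F × F, ι p.1 + θ * ι p.2 = x := by
    intro x
    set b : K := (x - x ^ q) / (θ - θ ^ q) with hb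
    have hbq : b ^ q = b := by
      rw [hb, div_pow, sub_pow_q hK, sub_pow_q hK, pow_q_q hK, pow_q_q hK, ← neg_sub x, ← neg_sub θ,
        neg_div_neg_eq]
    have haq : (x - θ * b) ^ q = x - θ * b := by
      rw [sub_pow_q hK, mul_pow, hbq, hb]
      field_simp
      ring
    obtain ⟨b0, hb0⟩ := (hfix _).mpr hbq
    obtain ⟨a0, ha0⟩ := (hfix _).mpr haq
    exact ⟨(a0, b0), by simp [ha0, hb0]⟩
  choose co hco using ex
  -- coordinates of a vector
  let cv : (Fin m → K) → (Fin m ⊕ Fin m → F) := fun u => Sum.elim (fun i => (co (u i)).1) (fun i => (co (u i)).2)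
  let vc : (Fin m ⊕ Fin m → F) → (Fin m → K) := fun w i => ι (w (Sum.inl i)) + θ * ι (w (Sum.inr i))
  have h1 : ∀ u, vc (cv u) = u := fun u => funext fun i => hco (u i)
  have h2 : ∀ w, cv (vc w) = w := by
    intro w
    funext s
    rcases s with i | i
    · exact (uniq _ _ _ _ (hco (vc w i))).1
    · exact (uniq _ _ _ _ (hco (vc w i))).2
  have vcadd : ∀ w w', vc (w + w') = vc w + vc w' := by
    intro w w'; funext i; simp only [vc, Pi.add_apply, map_add]; ring
  have vcsmul : ∀ (a : F) w, vc (a • w) = ι a • vc w := by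
    intro a w; funext i; simp only [vc, Pi.smul_apply, smul_eq_mul, map_mul]; ring
  have inj : Function.Injective vc := Function.LeftInverse.injective h2
  let L : Matrix (Fin m) (Fin m) K → ((Fin m ⊕ Fin m → F) →ₗ[F] (Fin m ⊕ Fin m → F)) := fun M =>
    { toFun := fun w => cv (M *ᵥ vc w)
      map_add' := fun w w' => inj (by simp only [h1, vcadd, Matrix.mulVec_add])
      map_smul' := fun a w => inj (by simp only [h1, vcsmul, Matrix.mulVec_smul, RingHom.id_apply]) }
  let R : Matrix (Fin m) (Fin m) K →* Matrix (Fin m ⊕ Fin m) (Fin m ⊕ Fin m) F :=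
    { toFun := fun M => LinearMap.toMatrix' (L M)
      map_one' := by
        rw [show L 1 = LinearMap.id from LinearMap.ext fun w => by simp [L, h2], LinearMap.toMatrix'_id]
      map_mul' := fun M N => by
        rw [show L (M * N) = (L M).comp (L N) from LinearMap.ext fun w => by
            simp [L, h1, Matrix.mulVec_mulVec], LinearMap.toMatrix'_comp] }
  have hR : ∀ M w, vc (R M *ᵥ w) = M *ᵥ vc w := by
    intro M w
    show vc (LinearMap.toMatrix' (L M) *ᵥ w) = _
    rw [← Matrix.toLin'_apply, Matrix.toLin'_toMatrix']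
    exact h1 _
  -- the alternating form
  have hform : ∀ w w', Cfsg.hermForm m K q (vc w) (vc w') - Cfsg.hermForm m K q (vc w') (vc w) =
      (θ - θ ^ q) * ι (w ⬝ᵥ (Matrix.J (Fin m) F *ᵥ w')) := by
    intro w w'
    have hJ : w ⬝ᵥ (Matrix.J (Fin m) F *ᵥ w') =
        ∑ i, (w (Sum.inr i) * w' (Sum.inl i) - w (Sum.inl i) * w' (Sum.inr i)) := by
      rw [Matrix.J, dotProduct, Fintype.sum_sum_type]
      simp [Matrix.fromBlocks_mulVec, Finset.sum_sub_distrib, Matrix.neg_mulVec]
      ring
    rw [hJ, map_sum, Finset.mul_sum, Cfsg.hermForm, Cfsg.hermForm, ← Finset.sum_sub_distrib]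
    refine Finset.sum_congr rfl fun i _ => ?_
    simp only [vc, add_pow_q hK, mul_pow, hιq, map_sub, map_mul]
    ring
  have hsymp : ∀ g : ↥(Cfsg.GU m K q), R ((g : GL (Fin m) K) : Matrix (Fin m) (Fin m) K) ∈
      Matrix.symplecticGroup (Fin m) F := by
    intro g
    rw [SymplecticGroup.mem_iff']
    set M := ((g : GL (Fin m) K) : Matrix (Fin m) (Fin m) K)
    refine Matrix.ext fun i j => ?_
    have key : ∀ w w', w ⬝ᵥ (((R M)ᵀ * Matrix.J (Fin m) F * R M) *ᵥ w') =
        w ⬝ᵥ (Matrix.J (Fin m) F *ᵥ w') := by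
      intro w w'
      rw [← Matrix.mulVec_mulVec, ← Matrix.mulVec_mulVec, Matrix.dotProduct_mulVec w, Matrix.vecMul_transpose]
      apply hι
      apply mul_left_cancel₀ hΔ
      rw [← hform, ← hform, hR, hR]
      have hg : ∀ u v, Cfsg.hermForm m K q (M *ᵥ u) (M *ᵥ v) = Cfsg.hermForm m K q u v := g.2
      rw [hg, hg]
    have := key (Pi.single i 1) (Pi.single j 1)
    simpa [single_one_dotProduct, Matrix.mulVec_single_one] using this
  refine ⟨(R.comp ((Units.coeHom _).comp (Cfsg.GU m K q).subtype)).codRestrict _ hsymp, ?_⟩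
  intro g g' h
  apply Subtype.ext
  apply Units.ext
  apply Matrix.ext_of_mulVec_single
  intro i
  have h' : R ((g : GL (Fin m) K) : Matrix (Fin m) (Fin m) K) = R ((g' : GL (Fin m) K) : Matrix (Fin m) (Fin m) K) :=
    congrArg Subtype.val h
  rw [← h1 (Pi.single i 1), ← hR, ← hR, h']

end H51
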