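import Cfsg.Agent.H51.GUTorus
import Cfsg.Agent.H41.PSLOrd

/-!
Elements of `PSU_n(q)`: either they commute with a non-trivial orthogonal idempotent (and then their order can be
extended by a prime divisor of `q + 1` prime to `n`), or their order is bounded by the cyclic torus and the
largest unipotent order.
-/

set_option autoImplicit false
set_option linter.style.haveILetI false

namespace H51

open Matrix Polynomial

variable {F : Type*} [Field F] [Fintype F] {q n : ℕ} (hF : Fintype.card F = q ^ 2)

/-- The matrix of an element of `SU`. -/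
abbrev suM (g : ↥(Cfsg.SU n F q)) : Matrix (Fin n) (Fin n) F :=
  ((g : Matrix.SpecialLinearGroup (Fin n) F) : Matrix (Fin n) (Fin n) F)

omit [Fintype F] in
theorem suM_pow (g : ↥(Cfsg.SU n F q)) (k : ℕ) : suM (g ^ k) = suM g ^ k := rfl

include hF in
theorem psu_pow_eq_one_iff (hn : 2 ≤ n) (g : ↥(Cfsg.SU n F q)) (k : ℕ) :
    (QuotientGroup.mk g : Cfsg.PSU n F q) ^ k = 1 ↔ ∃ l : F, suM g ^ k = l • 1 := by
  rw [← QuotientGroup.mk_pow, QuotientGroup.eq_one_iff, H50.mem_center_iff_scalar hF hn]
  rfl

/-- Roots of the characteristic polynomial of an inverse. -/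
theorem roots_charpoly_inv {L : Type*} [Field L] [IsAlgClosed L] {m : ℕ} (B : Matrix (Fin m) (Fin m) L)
    (hB : IsUnit B) : B⁻¹.charpoly.roots = B.charpoly.roots.map (fun y => y⁻¹) := by
  classical
  set M := B.charpoly.roots with hM
  have hP : B.charpoly = (M.map fun y => X - C y).prod :=
    (IsAlgClosed.splits _).eq_prod_roots_of_monic B.charpoly_monic
  have hne : ∀ y ∈ M, y ≠ 0 := by
    intro y hy h0
    rw [hM, Polynomial.mem_roots B.charpoly_monic.ne_zero, h0, IsRoot.def, ← Polynomial.coeff_zero_eq_eval_zero] at hy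
    have := Matrix.det_eq_sign_charpoly_coeff B
    rw [hy, mul_zero] at this
    exact ((Matrix.isUnit_iff_isUnit_det B).1 hB).ne_zero this
  have key : ∀ N : Multiset L, (∀ y ∈ N, y ≠ 0) → ∃ k : L, k ≠ 0 ∧
      (N.map fun y => X - C y).prod.reverse = C k * ((N.map fun y => y⁻¹).map fun y => X - C y).prod := by
    intro N
    induction N using Multiset.induction with
    | empty => intro _; exact ⟨1, one_ne_zero, by simp [Polynomial.reverse]⟩
    | cons a N ih =>
      intro h
      obtain ⟨k, hk, hrev⟩ := ih fun y hy => h y (Multiset.mem_cons_of_mem hy)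
      have ha := h a (Multiset.mem_cons_self a N)
      refine ⟨-a * k, mul_ne_zero (neg_ne_zero.2 ha) hk, ?_⟩
      have hlin : (X - C a : L[X]).reverse = C (-a) * (X - C a⁻¹) := by
        rw [Polynomial.reverse, Polynomial.natDegree_X_sub_C, Polynomial.reflect_sub, Polynomial.reflect_C]
        have hX : (X : L[X]).reflect 1 = 1 := by
          rw [← pow_one (X : L[X]), Polynomial.reflect_monomial]; simp [Polynomial.revAt_le]
        rw [hX, mul_sub, ← C_mul, neg_mul, mul_inv_cancel₀ ha]
        simp [sub_eq_add_neg, add_comm]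
      rw [Multiset.map_cons, Multiset.prod_cons, Polynomial.reverse_mul_of_domain, hlin, hrev]
      simp only [Multiset.map_cons, Multiset.prod_cons, C_mul]
      ring
  obtain ⟨k, hk, hrev⟩ := key M hne
  rw [← hP, Matrix.reverse_charpoly] at hrev
  rw [Matrix.charpoly_inv _ hB, hrev, ← mul_assoc, mul_assoc _ (C k), mul_comm (C k), ← mul_assoc]
  have h0 : ((-1 : L[X]) ^ Fintype.card (Fin m) * C (Ring.inverse B.det) * C k) =
      C ((-1 : L) ^ Fintype.card (Fin m) * Ring.inverse B.det * k) := by simp [C_mul, C_pow]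
  have hne' : ((-1 : L) ^ Fintype.card (Fin m) * Ring.inverse B.det * k) ≠ 0 := by
    refine mul_ne_zero (mul_ne_zero (pow_ne_zero _ (neg_ne_zero.2 one_ne_zero)) ?_) hk
    rw [Ring.inverse_eq_inv]
    exact inv_ne_zero ((Matrix.isUnit_iff_isUnit_det B).1 hB).ne_zero
  rw [show ∀ a b c d : L[X], a * b * d * c = a * b * c * d from fun a b c d => by ring] at *
  rw [h0, Polynomial.roots_C_mul _ hne', Polynomial.roots_multiset_prod_X_sub_C]

theorem negSum_add (q a b : ℕ) : negSum q (a + b) = negSum q a + (-(q : ℤ)) ^ a * negSum q b := by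
  rw [negSum, negSum, negSum, Finset.sum_range_add, Finset.mul_sum]
  simp only [pow_add]

theorem negSum_mul_modEq (q l k : ℕ) :
    ∃ T : ℤ, negSum q (l * k) = negSum q l * T ∧ ((q : ℤ) + 1) ∣ T - k := by
  induction k with
  | zero => exact ⟨0, by simp [negSum], by simp⟩
  | succ k ih =>
    obtain ⟨T, hT, hT'⟩ := ih
    refine ⟨1 + (-(q : ℤ)) ^ l * T, ?_, ?_⟩
    · rw [Nat.mul_succ, add_comm (l * k) l, negSum_add, hT]; ring
    · have h : ((q : ℤ) + 1) ∣ (-(q : ℤ)) ^ l - 1 := by
        have := sub_dvd_pow_sub_pow (-(q : ℤ)) 1 l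
        rw [one_pow] at this
        exact (dvd_neg.2 (dvd_refl _)).trans (by rwa [show -((q : ℤ) + 1) = -(q : ℤ) - 1 by ring])
      have h2 : 1 + (-(q : ℤ)) ^ l * T - ((k + 1 : ℕ) : ℤ) = ((-(q : ℤ)) ^ l - 1) * T + (T - k) := by
        push_cast; ring
      rw [h2]
      exact dvd_add (h.mul_right T) hT'

omit [Fintype F] in
theorem aeval_mulVec_eigen {L : Type*} [Field L] {m : ℕ} {B : Matrix (Fin m) (Fin m) L} {v : Fin m → L}
    {y : L} (h : B *ᵥ v = y • v) (p : L[X]) : aeval B p *ᵥ v = p.eval y • v := by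
  induction p using Polynomial.induction_on' with
  | add p r hp hr => rw [map_add, add_mulVec, hp, hr, eval_add, add_smul]
  | monomial i c =>
    rw [aeval_monomial, eval_monomial, ← Matrix.mulVec_mulVec]
    have hpow : B ^ i *ᵥ v = y ^ i • v := by
      induction i with
      | zero => simp
      | succ i ih => rw [pow_succ, ← mulVec_mulVec, h, mulVec_smul, ih, smul_smul, ← pow_succ']
    rw [hpow, Algebra.algebraMap_eq_smul_one, smul_mulVec, one_mulVec, smul_smul]

include hF in
theorem adj_aeval {m : ℕ} (A : Matrix (Fin m) (Fin m) F) (p : F[X]) :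
    adj hF (aeval A p) = aeval (adj hF A) (p.map (qFrob hF)) := by
  induction p using Polynomial.induction_on' with
  | add p r hp hr => rw [map_add, Polynomial.map_add, map_add, adj_add, hp, hr]
  | monomial i c =>
    rw [aeval_monomial, Polynomial.map_monomial, aeval_monomial, Algebra.algebraMap_eq_smul_one,
      smul_mul_assoc, one_mul, adj_smul, adj_pow, Algebra.algebraMap_eq_smul_one, smul_mul_assoc, one_mul]
    rfl

include hF in
/-- The dichotomy. -/
theorem exists_idem_or_bound (hn : 2 ≤ n) (g : ↥(Cfsg.SU n F q)) {P : ℕ} (hP : n ≤ P)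
    (hPp : ∃ J, P = ringChar F ^ J) :
    (∃ e : Matrix (Fin n) (Fin n) F, e * e = e ∧ adj hF e = e ∧ e ≠ 0 ∧ e ≠ 1 ∧ e * suM g = suM g * e) ∨
      orderOf (QuotientGroup.mk g : Cfsg.PSU n F q) ∣
        P * ((negSum q n).natAbs / Nat.gcd n (q + 1)) := by
  classical
  obtain ⟨p0, hp0, hp0', hpp⟩ := exists_q_pow hF
  haveI := Fact.mk hpp
  obtain ⟨J, rfl⟩ := hPp
  set A : Matrix (Fin n) (Fin n) F := suM g with hAdef
  set L := AlgebraicClosure F
  set φ : F →+* L := algebraMap F L with hφ
  haveI : CharP F (ringChar F) := ringChar.charP F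
  haveI : CharP L (ringChar F) := charP_of_injective_algebraMap φ.injective _
  let σ : L →+* L := iterateFrobenius L (ringChar F) p0
  have hσ : ∀ y, σ y = y ^ q := fun y => by rw [hp0']; rfl
  have hσφ : σ.comp φ = φ.comp (qFrob hF) := RingHom.ext fun a => by
    simp [RingHom.comp_apply, hσ]
  set B := A.map φ with hB
  have hAdet : A.det = 1 := det_coe_SU g
  have hAA : adj hF A * A = 1 := adj_mul_self_SU hF g
  have hBu : IsUnit B := by
    rw [Matrix.isUnit_iff_isUnit_det, hB, ← RingHom.mapMatrix_apply, ← RingHom.map_det, hAdet, map_one]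
    exact isUnit_one
  set χ := A.charpoly.map φ with hχ
  have hBχ : B.charpoly = χ := Matrix.charpoly_map A φ
  set M := χ.roots with hM
  have hχm : χ.Monic := (Matrix.charpoly_monic A).map φ
  have hMcard : Multiset.card M = n := by
    rw [hM, ← (IsAlgClosed.splits χ).natDegree_eq_card_roots, hχ,
      Polynomial.natDegree_map, Matrix.charpoly_natDegree_eq_dim, Fintype.card_fin]
  have hχprod : χ = (M.map fun y => X - C y).prod :=
    (IsAlgClosed.splits χ).eq_prod_roots_of_monic hχm
  let τ : L → L := fun y => (σ y)⁻¹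
  have hτinj : Function.Injective τ := fun x y h => σ.injective (inv_injective h)
  have hMτ : M.map τ = M := by
    have hσroots : ((B.map σ)ᵀ).charpoly.roots = M.map σ := by
      rw [Matrix.charpoly_transpose, Matrix.charpoly_map, hBχ, hM]
      exact (IsAlgClosed.splits χ).roots_map_of_injective σ.injective
    have hinv : (B.map σ)ᵀ = B⁻¹ := by
      refine (Matrix.inv_eq_left_inv ?_).symm
      have h1 : (B.map σ)ᵀ = (adj hF A).map φ := by
        ext i j
        simp [B, hσ, map_pow]
      rw [h1, hB, ← Matrix.map_mul, hAA, Matrix.map_one _ (map_zero φ) (map_one φ)]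
    rw [hinv, roots_charpoly_inv B hBu, hBχ, ← hM] at hσroots
    have h2 := congrArg (Multiset.map fun y : L => y⁻¹) hσroots
    rw [Multiset.map_map, Multiset.map_map] at h2
    have hid : (fun y : L => y⁻¹) ∘ (fun y : L => y⁻¹) = id := funext inv_inv
    rw [hid, Multiset.map_id] at h2
    exact h2.symm
  have heig : ∀ y ∈ M, ∃ v : Fin n → L, v ≠ 0 ∧ B *ᵥ v = y • v := by
    intro y hy
    rw [hM, Polynomial.mem_roots hχm.ne_zero, IsRoot.def, ← hBχ, Matrix.eval_charpoly,
      ← Matrix.exists_mulVec_eq_zero_iff] at hy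
    obtain ⟨v, hv, h⟩ := hy
    rw [Matrix.sub_mulVec, Matrix.scalar_apply, sub_eq_zero, ← Matrix.smul_one_eq_diagonal,
      Matrix.smul_mulVec, Matrix.one_mulVec] at h
    exact ⟨v, hv, h.symm⟩
  obtain ⟨a, ha⟩ : ∃ a, a ∈ M := Multiset.card_pos_iff_exists_mem.1 (by omega)
  set o := orderOf g with ho
  have ho0 : 0 < o := orderOf_pos g
  have hAo : A ^ o = 1 := by rw [hAdef, ← suM_pow, ho, pow_orderOf_eq_one]; rfl
  have hyo : ∀ y ∈ M, y ^ o = 1 := by
    intro y hy
    obtain ⟨v, hv, hBv⟩ := heig y hy
    have h1 := aeval_mulVec_eigen hBv (X ^ o)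
    rw [map_pow, aeval_X, eval_pow, eval_X, hB, ← RingHom.mapMatrix_apply, ← map_pow, hAo, map_one,
      one_mulVec] at h1
    obtain ⟨i, hi⟩ := Function.ne_iff.1 hv
    exact (mul_eq_right₀ hi).1 (show y ^ o * v i = v i by simpa using (congrFun h1 i).symm)
  have ha0 : a ≠ 0 := fun h => by
    have := hyo a ha; rw [h, zero_pow ho0.ne'] at this; exact zero_ne_one this
  set u : Lˣ := Units.mk0 a ha0 with hu
  let f : ℕ → L := fun i => τ^[i] a
  have hfu : ∀ i, f i = ((u ^ ((-(q : ℤ)) ^ i) : Lˣ) : L) := by
    intro i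
    induction i with
    | zero => simp [f, u]
    | succ i ih =>
      show τ^[i + 1] a = _
      rw [Function.iterate_succ_apply', show τ^[i] a = f i from rfl, ih]
      simp only [τ]
      rw [hσ, ← Units.val_pow_eq_pow_val, ← Units.val_inv_eq_inv_val]
      congr 1
      rw [← zpow_natCast, ← _root_.zpow_mul, ← _root_.zpow_neg, pow_succ]
      congr 1
      ring
  have hfM : ∀ i, f i ∈ M := by
    intro i
    induction i with
    | zero => exact ha
    | succ i ih =>
      show τ^[i + 1] a ∈ M
      rw [Function.iterate_succ_apply', ← hMτ]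
      exact Multiset.mem_map_of_mem τ ih
  -- the period
  have hper : ∃ l, 0 < l ∧ f l = a := by
    obtain ⟨i, j, hij, h⟩ : ∃ i j, i < j ∧ f i = f j := by
      haveI : Finite {y // y ∈ M} := Finite.of_fintype _
      obtain ⟨i, j, hne, h⟩ := Finite.exists_ne_map_eq_of_infinite (fun i : ℕ => (⟨f i, hfM i⟩ : {y // y ∈ M}))
      rcases Nat.lt_or_gt_of_ne hne with hlt | hlt
      · exact ⟨i, j, hlt, congrArg Subtype.val h⟩
      · exact ⟨j, i, hlt, (congrArg Subtype.val h).symm⟩
    refine ⟨j - i, by omega, (hτinj.iterate i) ?_⟩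
    show τ^[i] (τ^[j - i] a) = τ^[i] a
    rw [← Function.iterate_add_apply, Nat.add_sub_cancel' hij.le]
    exact h.symm
  set l := Nat.find hper with hl
  obtain ⟨hl0, hla⟩ := Nat.find_spec hper
  have hlmin : ∀ i, 0 < i → i < l → f i ≠ a := fun i hi hil h => Nat.find_min hper hil ⟨hi, h⟩
  let O : L → Prop := fun y => ∃ i, y = f i
  have hOτ : ∀ y, O (τ y) ↔ O y := by
    intro y
    constructor
    · rintro ⟨i, hi⟩
      refine ⟨i + l - 1, hτinj ?_⟩
      rw [hi]
      show f i = τ (τ^[i + l - 1] a)
      rw [← Function.iterate_succ_apply' τ, show (i + l - 1).succ = i + l by omega,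
        Function.iterate_add_apply, show τ^[l] a = a from hla]
    · rintro ⟨i, rfl⟩
      exact ⟨i + 1, (Function.iterate_succ_apply' τ i a).symm⟩
  have hfmod : ∀ i, f i = f (i % l) := by
    intro i
    show τ^[i] a = τ^[i % l] a
    conv_lhs => rw [← Nat.mod_add_div i l, Function.iterate_add_apply]
    congr 1
    rw [Function.iterate_mul]
    exact Function.iterate_fixed hla _
  by_cases hall : ∀ y ∈ M, O y
  · right
    have hinj : Set.InjOn f (Finset.range l : Set ℕ) := by
      intro i hi j hj hij
      simp only [Finset.coe_range, Set.mem_Iio] at hi hj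
      by_contra hne
      rcases Nat.lt_or_gt_of_ne hne with hlt | hlt
      · refine hlmin (j - i) (by omega) (by omega) ((hτinj.iterate i) ?_)
        show τ^[i] (τ^[j - i] a) = τ^[i] a
        rw [← Function.iterate_add_apply, Nat.add_sub_cancel' hlt.le]
        exact hij.symm
      · refine hlmin (i - j) (by omega) (by omega) ((hτinj.iterate j) ?_)
        show τ^[j] (τ^[i - j] a) = τ^[j] a
        rw [← Function.iterate_add_apply, Nat.add_sub_cancel' hlt.le]
        exact hij
    set R := (Finset.range l).val.map f with hR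
    have hRn : R.Nodup := Multiset.Nodup.map_on (fun i hi j hj h => hinj hi hj h) (Finset.range l).nodup
    set k := M.count a with hk
    have hcount : ∀ i, M.count (f i) = k := by
      intro i
      induction i with
      | zero => rfl
      | succ i ih =>
        show M.count (τ^[i + 1] a) = k
        rw [Function.iterate_succ_apply']
        conv_lhs => rw [← hMτ]
        rw [Multiset.count_map_eq_count' _ _ hτinj]
        exact ih
    have hMR : M = k • R := by
      ext y
      rw [Multiset.count_nsmul]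
      by_cases hy : O y
      · obtain ⟨i, rfl⟩ := hy
        rw [hcount, Multiset.count_eq_one_of_mem hRn, mul_one]
        rw [hfmod]
        exact Multiset.mem_map_of_mem f (Finset.mem_range.2 (Nat.mod_lt _ hl0))
      · rw [Multiset.count_eq_zero.2 (fun h => hy (hall y h)), Multiset.count_eq_zero.2, mul_zero]
        intro h
        obtain ⟨i, -, hi⟩ := Multiset.mem_map.1 h
        exact hy ⟨i, hi.symm⟩
    have hkl : l * k = n := by
      rw [← hMcard, hMR, Multiset.card_nsmul, hR, Multiset.card_map]
      simp [mul_comm]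
    have hdet : u ^ (negSum q l * k) = 1 := by
      apply Units.ext
      rw [Units.val_one, _root_.zpow_mul, zpow_natCast, Units.val_pow_eq_pow_val]
      have h1 : B.det = 1 := by
        rw [hB, ← RingHom.mapMatrix_apply, ← RingHom.map_det, hAdet, map_one]
      rw [Matrix.det_eq_prod_roots_charpoly, hBχ, ← hM, hMR, Multiset.prod_nsmul, hR] at h1
      rw [← h1]
      congr 1
      rw [show (Multiset.map f (Finset.range l).val).prod = ∏ i ∈ Finset.range l, f i from rfl]
      simp only [hfu, ← Units.coe_prod]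
      congr 1
      clear_value u
      clear * -
      induction l with
      | zero => simp [negSum]
      | succ m ih => rw [negSum, Finset.sum_range_succ, ← negSum, _root_.zpow_add, ih, Finset.prod_range_succ]
    have hl1 : u ^ (negSum q l * (-(q : ℤ) - 1)) = 1 := by
      rw [negSum_mul, _root_.zpow_sub, zpow_one, mul_inv_eq_one]
      exact Units.ext ((hfu l).symm.trans hla)
    have hou : (orderOf u : ℤ) ∣ negSum q n := by
      obtain ⟨T, hT, hT'⟩ := negSum_mul_modEq q l k
      rw [← hkl, hT]
      have h1 : (orderOf u : ℤ) ∣ negSum q l * (k : ℤ) := orderOf_dvd_iff_zpow_eq_one.2 hdet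
      have h2 : (orderOf u : ℤ) ∣ negSum q l * ((q : ℤ) + 1) := by
        have := orderOf_dvd_iff_zpow_eq_one.2 hl1
        rw [show negSum q l * (-(q : ℤ) - 1) = -(negSum q l * ((q : ℤ) + 1)) by ring, dvd_neg] at this
        exact this
      obtain ⟨c, hc⟩ := hT'
      rw [show negSum q l * T = negSum q l * (k : ℤ) + negSum q l * ((q : ℤ) + 1) * c by
        rw [mul_assoc, ← hc]; ring]
      exact dvd_add h1 (h2.mul_right c)
    set d := Nat.gcd n (q + 1) with hd
    obtain ⟨j0, hj0⟩ : d ∣ (negSum q n).natAbs := by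
      rw [← Int.natCast_dvd]
      have h1 : (d : ℤ) ∣ (q : ℤ) + 1 := by
        exact_mod_cast Int.natCast_dvd_natCast.2 (Nat.gcd_dvd_right n (q + 1))
      have h2 : (d : ℤ) ∣ (n : ℤ) := Int.natCast_dvd_natCast.2 (Nat.gcd_dvd_left _ _)
      simpa using dvd_add (h1.trans (negSum_modEq q n)) h2
    have hd0 : 0 < d := Nat.gcd_pos_of_pos_right _ (Nat.succ_pos q)
    rw [hj0, Nat.mul_div_cancel_left _ hd0]
    apply orderOf_dvd_of_pow_eq_one
    rw [psu_pow_eq_one_iff hF hn]
    set c : L := (u : L) ^ j0 with hc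
    have hallc : ∀ y ∈ M, y ^ j0 = c := by
      intro y hy
      obtain ⟨i, rfl⟩ := hall y hy
      simp only [hfu, hc, ← Units.val_pow_eq_pow_val]
      congr 1
      rw [← zpow_natCast, ← zpow_natCast, ← _root_.zpow_mul, ← mul_inv_eq_one, ← _root_.zpow_sub,
        ← orderOf_dvd_iff_zpow_eq_one]
      refine hou.trans (Int.natAbs_dvd.1 ?_)
      have h1 : ((q : ℤ) + 1) ∣ (-(q : ℤ)) ^ i - 1 := by
        have := sub_dvd_pow_sub_pow (-(q : ℤ)) 1 i
        rw [one_pow] at this
        exact (dvd_neg.2 (dvd_refl _)).trans (by rwa [show -((q : ℤ) + 1) = -(q : ℤ) - 1 by ring])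
      obtain ⟨w, hw⟩ := (show (d : ℤ) ∣ (q : ℤ) + 1 by
        exact_mod_cast Int.natCast_dvd_natCast.2 (Nat.gcd_dvd_right n (q + 1))).trans h1
      refine ⟨w, ?_⟩
      rw [hj0]
      push_cast
      linear_combination (j0 : ℤ) * hw
    have hdvd : χ ∣ (X ^ j0 - C c) ^ n := by
      have : ∀ N : Multiset L, (∀ y ∈ N, y ∈ M) →
          (N.map fun y => X - C y).prod ∣ (X ^ j0 - C c) ^ Multiset.card N := by
        intro N
        induction N using Multiset.induction with
        | empty => intro _; simp
        | cons y N ih =>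
          intro h
          rw [Multiset.map_cons, Multiset.prod_cons, Multiset.card_cons, pow_succ']
          refine mul_dvd_mul ?_ (ih fun z hz => h z (Multiset.mem_cons_of_mem hz))
          rw [dvd_iff_isRoot, IsRoot.def]
          simp [hallc y (h y (Multiset.mem_cons_self y N))]
      rw [hχprod]
      exact hMcard ▸ this M fun y hy => hy
    have hnil : (B ^ j0 - c • (1 : Matrix (Fin n) (Fin n) L)) ^ n = 0 := by
      obtain ⟨w, hw⟩ := hdvd
      have h1 := congrArg (aeval B) hw
      rw [map_mul, ← hBχ, Matrix.aeval_self_charpoly, zero_mul, map_pow, map_sub, map_pow, aeval_X, aeval_C,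
        Algebra.algebraMap_eq_smul_one] at h1
      exact h1
    have hBP : (B ^ j0) ^ ringChar F ^ J = c ^ ringChar F ^ J • (1 : Matrix (Fin n) (Fin n) L) := by
      haveI : Nonempty (Fin n) := ⟨⟨0, by omega⟩⟩
      have h0 := pow_eq_zero_of_le hP hnil
      rw [sub_pow_char_pow_of_commute _ _ ((Commute.one_right _).smul_right c), _root_.smul_pow, one_pow,
        sub_eq_zero] at h0
      exact h0
    rw [show ringChar F ^ J * j0 = j0 * ringChar F ^ J from mul_comm _ _]
    refine ⟨(A ^ (j0 * ringChar F ^ J)) ⟨0, by omega⟩ ⟨0, by omega⟩, ?_⟩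
    show A ^ (j0 * ringChar F ^ J) = _
    ext i j
    apply φ.injective
    have h1 : ∀ i j, φ ((A ^ (j0 * ringChar F ^ J)) i j) =
        (c ^ ringChar F ^ J • (1 : Matrix (Fin n) (Fin n) L)) i j := fun i j => by
      rw [← hBP, ← pow_mul, hB, ← RingHom.mapMatrix_apply, ← map_pow]; rfl
    rw [Matrix.smul_apply, smul_eq_mul, map_mul, h1, h1]
    simp [Matrix.one_apply, apply_ite φ]
  · left
    push Not at hall
    obtain ⟨b, hbM, hbO⟩ := hall
    set M1 := M.filter O with hM1
    set M2 := M.filter fun y => ¬ O y with hM2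
    have hM12 : M1 + M2 = M := Multiset.filter_add_not _ _
    have hfilt : ∀ (p : L → Prop) [DecidablePred p], (∀ y, p (τ y) ↔ p y) → (M.filter p).map τ = M.filter p := by
      intro p _ hp
      conv_rhs => rw [← hMτ, Multiset.filter_map]
      congr 1
      exact Multiset.filter_congr fun y _ => (hp y).symm
    have hrange : ∀ c : L, c ^ Fintype.card F = c → c ∈ φ.range := by
      intro c hc
      have hne : (X ^ Fintype.card F - X : L[X]) ≠ 0 :=
        FiniteField.X_pow_card_sub_X_ne_zero L Fintype.one_lt_card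
      have hsub : Finset.univ.image φ = (X ^ Fintype.card F - X : L[X]).roots.toFinset := by
        refine Finset.eq_of_subset_of_card_le ?_ ?_
        · intro y hy
          obtain ⟨b, -, rfl⟩ := Finset.mem_image.1 hy
          rw [Multiset.mem_toFinset, Polynomial.mem_roots hne]
          simp [← map_pow, FiniteField.pow_card]
        · rw [Finset.card_image_of_injective _ φ.injective, Finset.card_univ]
          refine (Multiset.toFinset_card_le _).trans ((Polynomial.card_roots' _).trans ?_)
          rw [FiniteField.X_pow_card_sub_X_natDegree_eq _ Fintype.one_lt_card]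
      have : c ∈ Finset.univ.image φ := by
        rw [hsub, Multiset.mem_toFinset, Polynomial.mem_roots hne]; simp [hc]
      obtain ⟨b, -, hb⟩ := Finset.mem_image.1 this
      exact ⟨b, hb⟩
    have hlift : ∀ N : Multiset L, N.map τ = N → ∃ Q : F[X], Q.map φ = (N.map fun y => X - C y).prod := by
      intro N hN
      set Pn := (N.map fun y => X - C y).prod with hPn
      have hfix : Pn.map (σ.comp σ) = Pn := by
        rw [hPn, Polynomial.map_multiset_prod, Multiset.map_map]
        have h1 : (N.map fun y => X - C y) = (N.map τ |>.map τ).map fun y => X - C y := by rw [hN, hN]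
        conv_rhs => rw [h1, Multiset.map_map, Multiset.map_map]
        congr 1
        refine Multiset.map_congr rfl fun y _ => ?_
        simp [τ, map_inv₀]; exact (inv_inv _).symm
      have : Pn ∈ Polynomial.lifts φ := by
        rw [Polynomial.lifts_iff_coeff_lifts]
        intro i
        obtain ⟨c, hc⟩ := hrange (Pn.coeff i) (by
          conv_rhs => rw [← hfix, Polynomial.coeff_map]
          show _ = σ (σ (Pn.coeff i))
          rw [hσ, hσ, ← pow_mul, ← pow_two, ← hF])
        exact ⟨c, hc⟩
      exact (Polynomial.mem_lifts Pn).1 this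
    obtain ⟨Q1, hQ1⟩ := hlift M1 (hfilt O hOτ)
    obtain ⟨Q2, hQ2⟩ := hlift M2 (hfilt (fun y => ¬ O y) fun y => not_congr (hOτ y))
    have hQQ : A.charpoly = Q1 * Q2 := by
      apply Polynomial.map_injective φ φ.injective
      rw [Polynomial.map_mul, hQ1, hQ2, ← Multiset.prod_add, ← Multiset.map_add, hM12]
      exact hχprod
    have hcop : IsCoprime Q1 Q2 := by
      rw [← Polynomial.isCoprime_map φ, hQ1, hQ2]
      have h2 : ∀ N : Multiset L, (∀ y ∈ N, ¬ O y) → ∀ x : L, O x →
          IsCoprime (X - C x) (N.map fun y => X - C y).prod := by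
        intro N
        induction N using Multiset.induction with
        | empty => intros; simp [isCoprime_one_right]
        | cons y N ih =>
          intro h x hx
          rw [Multiset.map_cons, Multiset.prod_cons]
          refine IsCoprime.mul_right ?_ (ih (fun z hz => h z (Multiset.mem_cons_of_mem hz)) x hx)
          refine Polynomial.isCoprime_X_sub_C_of_isUnit_sub (IsUnit.mk0 _ (sub_ne_zero.2 ?_))
          rintro rfl
          exact h x (Multiset.mem_cons_self x N) hx
      have h3 : ∀ N : Multiset L, (∀ x ∈ N, O x) →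
          IsCoprime (N.map fun y => X - C y).prod (M2.map fun y => X - C y).prod := by
        intro N
        induction N using Multiset.induction with
        | empty => intros; simp [isCoprime_one_left]
        | cons y N ih =>
          intro h
          rw [Multiset.map_cons, Multiset.prod_cons]
          exact IsCoprime.mul_left (h2 M2 (fun z hz => (Multiset.mem_filter.1 hz).2) y
            (h y (Multiset.mem_cons_self y N))) (ih fun z hz => h z (Multiset.mem_cons_of_mem hz))
      exact h3 M1 fun x hx => (Multiset.mem_filter.1 hx).2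
    obtain ⟨u', v', huv⟩ := hcop
    set ε : F[X] := v' * Q2 with hε
    set E : Matrix (Fin n) (Fin n) F := aeval A ε with hE
    have hev : ∀ y ∈ M, (ε.map φ).eval y = if O y then 1 else 0 := by
      intro y hy
      have h1 := congrArg (fun Q : F[X] => (Q.map φ).eval y) huv
      simp only [Polynomial.map_add, Polynomial.map_mul, Polynomial.map_one, eval_add, eval_mul, eval_one] at h1
      rw [hε, Polynomial.map_mul, eval_mul]
      split_ifs with hO
      · have : (Q1.map φ).eval y = 0 := by
          rw [hQ1, eval_multiset_prod, Multiset.prod_eq_zero_iff, Multiset.map_map]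
          exact Multiset.mem_map.2 ⟨y, Multiset.mem_filter.2 ⟨hy, hO⟩, by simp⟩
        rw [this] at h1; rw [hε, Polynomial.map_mul, eval_mul] at h1; simpa using h1
      · have : (Q2.map φ).eval y = 0 := by
          rw [hQ2, eval_multiset_prod, Multiset.prod_eq_zero_iff, Multiset.map_map]
          exact Multiset.mem_map.2 ⟨y, Multiset.mem_filter.2 ⟨hy, hO⟩, by simp⟩
        rw [this, mul_zero]
    have hEE : E * E = E := by
      rw [← sub_eq_zero, hE, ← map_mul, ← map_sub]
      have : ε * ε - ε = A.charpoly * (-(u' * v')) := by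
        rw [hQQ, hε]
        linear_combination (v' * Q2) * huv
      rw [this, map_mul, Matrix.aeval_self_charpoly, zero_mul]
    have hEm : E.map φ = aeval B (ε.map φ) := by
      rw [hE, hB, ← RingHom.mapMatrix_apply, ← RingHom.mapMatrix_apply]
      rw [Polynomial.aeval_def, Polynomial.aeval_def, Polynomial.hom_eval₂, Polynomial.eval₂_map]
      congr 1
      ext x i j
      simp [Matrix.algebraMap_matrix_apply, apply_ite φ]
    have hE0 : E ≠ 0 := by
      intro h
      obtain ⟨v, hv, hBv⟩ := heig a ha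
      have h1 := aeval_mulVec_eigen hBv (ε.map φ)
      rw [← hEm, h, hev a ha, if_pos (show O a from ⟨0, rfl⟩), Matrix.map_zero _ (map_zero φ), zero_mulVec,
        one_smul] at h1
      exact hv h1.symm
    have hE1 : E ≠ 1 := by
      intro h
      obtain ⟨v, hv, hBv⟩ := heig b hbM
      have h1 := aeval_mulVec_eigen hBv (ε.map φ)
      rw [← hEm, h, hev b hbM, if_neg hbO, Matrix.map_one _ (map_zero φ) (map_one φ), one_mulVec,
        zero_smul] at h1
      exact hv h1
    have hcomm : E * A = A * E := by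
      rw [hE]
      calc aeval A ε * A = aeval A (ε * X) := by rw [map_mul (aeval A) ε X, aeval_X]
        _ = A * aeval A ε := by rw [mul_comm ε X, map_mul (aeval A) X ε, aeval_X]
    refine ⟨E, hEE, ?_, hE0, hE1, hcomm⟩
    set w : F[X] := (ε.map (qFrob hF)).comp (X ^ (o - 1)) with hw
    have hadjA : adj hF A = A ^ (o - 1) := by
      have h1 : A ^ (o - 1) * A = 1 := by rw [← pow_succ, Nat.sub_add_cancel ho0, hAo]
      calc adj hF A = adj hF A * (A * A ^ (o - 1)) := by rw [mul_eq_one_comm.1 h1, mul_one]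
        _ = A ^ (o - 1) := by rw [← mul_assoc, hAA, one_mul]
    have hE' : adj hF E = aeval A w := by
      rw [hE, adj_aeval hF, hadjA, hw, aeval_comp, map_pow, aeval_X]
    have hwev : ∀ y ∈ M, ((ε - w).map φ).eval y = 0 := by
      intro y hy
      rw [Polynomial.map_sub, eval_sub, sub_eq_zero, hev y hy]
      have hy' := hy
      rw [← hMτ] at hy'
      obtain ⟨z, hz, hzy⟩ := Multiset.mem_map.1 hy'
      have hyinv : y ^ (o - 1) = σ z := by
        have h1 : y ^ (o - 1) * y = 1 := by rw [← pow_succ, Nat.sub_add_cancel ho0, hyo y hy]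
        rw [eq_inv_of_mul_eq_one_left h1, ← hzy]
        exact inv_inv _
      rw [hw, Polynomial.map_comp, eval_comp, Polynomial.map_map, ← hσφ, ← Polynomial.map_map,
        Polynomial.map_pow, map_X, eval_pow, eval_X, hyinv, Polynomial.eval_map, Polynomial.eval₂_at_apply,
        hev z hz, apply_ite σ, map_one, map_zero, ← hzy, propext (hOτ z)]
    have hD : (E - adj hF E) ^ n = 0 := by
      have h1 : χ ∣ ((ε - w).map φ) ^ n := by
        have : ∀ N : Multiset L, (∀ y ∈ N, y ∈ M) →
            (N.map fun y => X - C y).prod ∣ ((ε - w).map φ) ^ Multiset.card N := by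
          intro N
          induction N using Multiset.induction with
          | empty => intro _; simp
          | cons y N ih =>
            intro h
            rw [Multiset.map_cons, Multiset.prod_cons, Multiset.card_cons, pow_succ']
            refine mul_dvd_mul ?_ (ih fun z hz => h z (Multiset.mem_cons_of_mem hz))
            rw [dvd_iff_isRoot, IsRoot.def]
            exact hwev y (h y (Multiset.mem_cons_self y N))
        rw [hχprod]
        exact hMcard ▸ this M fun y hy => hy
      rw [hχ, ← Polynomial.map_pow, Polynomial.map_dvd_map' φ] at h1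
      obtain ⟨z, hz⟩ := h1
      rw [hE', hE, ← map_sub, ← map_pow, hz, map_mul, Matrix.aeval_self_charpoly, zero_mul]
    have hcE : E * adj hF E = adj hF E * E := by
      rw [hE', hE, ← map_mul, mul_comm, map_mul]
    have hE'E' : adj hF E * adj hF E = adj hF E := by rw [← adj_mul, hEE]
    have hcube : (E - adj hF E) ^ 3 = E - adj hF E := by
      set f' := adj hF E
      calc (E - f') ^ 3 = (E * E - E * f' - f' * E + f' * f') * (E - f') := by noncomm_ring
        _ = (E - E * f' - E * f' + f') * (E - f') := by rw [hEE, hE'E', hcE]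
        _ = E * E - E * f' - E * (f' * E) + E * (f' * f') - E * (f' * E) + E * (f' * f') + f' * E - f' * f' := by
            noncomm_ring
        _ = E - f' := by rw [hEE, hE'E', ← hcE, ← mul_assoc, hEE]; abel
    have hodd : ∀ i, (E - adj hF E) ^ (2 * i + 1) = E - adj hF E := by
      intro i
      induction i with
      | zero => simp
      | succ i ih =>
        rw [show 2 * (i + 1) + 1 = (2 * i + 1) + 2 by ring, pow_add, ih, ← pow_succ']
        exact hcube
    have h0 := hodd n
    rw [pow_eq_zero_of_le (by omega) hD] at h0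
    exact (sub_eq_zero.1 h0.symm).symm

include hF in
/-- Extending by a prime `r ∣ q + 1`, `r ∤ n`. -/
theorem extend_of_idem (hn : 2 ≤ n) (g : ↥(Cfsg.SU n F q)) {r : ℕ} (hr : r.Prime) (hrq : r ∣ q + 1)
    (hrn : ¬ r ∣ n) {e : Matrix (Fin n) (Fin n) F} (hee : e * e = e) (hea : adj hF e = e) (he0 : e ≠ 0)
    (he1 : e ≠ 1) (hec : e * suM g = suM g * e)
    (hgr : ¬ r ∣ orderOf (QuotientGroup.mk g : Cfsg.PSU n F q)) :
    ∃ x : Cfsg.PSU n F q, orderOf x = r * orderOf (QuotientGroup.mk g : Cfsg.PSU n F q) := by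
  classical
  haveI := Fact.mk hr
  have hrF : r ∣ Fintype.card F - 1 := by
    rw [hF]; exact hrq.trans ⟨q - 1, by rw [← Nat.sq_sub_sq, one_pow]⟩
  obtain ⟨ζ, hζ⟩ := H41.exists_unit_orderOf_prime (F := F) r hrF
  obtain ⟨w, -, hwn, hdet⟩ := H41.det_comb_idem e hee he0 he1
  set c : Fˣ := ζ ^ (n - w) with hc
  set d : Fˣ := (ζ ^ w)⁻¹ with hd
  have hzr : ζ ^ r = 1 := hζ ▸ pow_orderOf_eq_one ζ
  have hcd : c ≠ d := by
    intro h
    rw [hc, hd, ← mul_eq_one_iff_eq_inv, ← pow_add, Nat.sub_add_cancel hwn.le] at h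
    exact hrn (hζ ▸ orderOf_dvd_of_pow_eq_one h)
  have hcr : c ^ r = 1 := by rw [hc, ← pow_mul, mul_comm, pow_mul, hzr, one_pow]
  have hdr : d ^ r = 1 := by rw [hd, inv_pow, ← pow_mul, mul_comm, pow_mul, hzr, one_pow, inv_one]
  have hq1 : ∀ z : Fˣ, z ^ r = 1 → (z : F) ^ q * (z : F) = 1 := by
    intro z hz
    obtain ⟨k, hk⟩ := hrq
    rw [← pow_succ, ← Units.val_pow_eq_pow_val, hk, pow_mul, hz, one_pow, Units.val_one]
  set X' : Matrix (Fin n) (Fin n) F := (c : F) • e + (d : F) • (1 - e) with hX
  have hee' : e * (1 - e) = 0 := by rw [mul_sub, mul_one, hee, sub_self]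
  have hee'' : (1 - e) * e = 0 := by rw [sub_mul, one_mul, hee, sub_self]
  have hff : (1 - e) * (1 - e) = 1 - e := by rw [sub_mul, one_mul, hee', sub_zero]
  have hmul : ∀ a b a' b' : F, (a • e + b • (1 - e)) * (a' • e + b' • (1 - e)) =
      (a * a') • e + (b * b') • (1 - e) := by
    intro a b a' b'
    simp only [add_mul, mul_add, smul_mul_smul_comm, hee, hee', hee'', hff, smul_zero, add_zero, zero_add]
  have hXu : adj hF X' * X' = 1 := by
    rw [hX, adj_add, adj_smul, adj_smul, adj_sub, adj_one, hea, hmul, hq1 c hcr, hq1 d hdr, one_smul, one_smul,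
      add_sub_cancel]
  have hXd : X'.det = 1 := by
    rw [hX, hdet, ← Units.val_pow_eq_pow_val, ← Units.val_pow_eq_pow_val, ← Units.val_mul, hc, hd, inv_pow,
      ← pow_mul, ← pow_mul, mul_comm (n - w) w, mul_inv_cancel, Units.val_one]
  let x : ↥(Cfsg.SU n F q) := mkSU hF X' hXu hXd
  have hxr : x ^ r = 1 := by
    apply Subtype.ext; apply Subtype.ext
    show X' ^ r = 1
    have : ∀ i : ℕ, X' ^ i = ((c : F) ^ i) • e + ((d : F) ^ i) • (1 - e) := by
      intro i
      induction i with
      | zero => simp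
      | succ i ih => rw [pow_succ, ih, hX, hmul, pow_succ, pow_succ]
    rw [this, ← Units.val_pow_eq_pow_val, ← Units.val_pow_eq_pow_val, hcr, hdr, Units.val_one, one_smul,
      one_smul, add_sub_cancel]
  have hxnc : (QuotientGroup.mk x : Cfsg.PSU n F q) ≠ 1 := by
    intro h
    obtain ⟨l, hl⟩ := (psu_pow_eq_one_iff hF hn x 1).1 (by rw [pow_one]; exact h)
    rw [pow_one] at hl
    change X' = l • 1 at hl
    have h1 : (c : F) • e = l • e := by
      have := congrArg (e * ·) hl
      simpa [hX, mul_add, hee, hee'] using this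
    have h2 : (d : F) • (1 - e) = l • (1 - e) := by
      have := congrArg ((1 - e) * ·) hl
      simpa [hX, mul_add, hee'', hff] using this
    exact hcd (Units.ext ((smul_left_injective F he0 h1).trans
      (smul_left_injective F (sub_ne_zero.2 (Ne.symm he1)) h2).symm))
  have hxo : orderOf (QuotientGroup.mk x : Cfsg.PSU n F q) = r :=
    orderOf_eq_prime (by rw [← QuotientGroup.mk_pow, hxr, QuotientGroup.mk_one]) hxnc
  have hcomm : Commute x g := by
    apply Subtype.ext; apply Subtype.ext
    show X' * suM g = suM g * X'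
    rw [hX]
    simp only [add_mul, mul_add, sub_mul, mul_sub, smul_mul_assoc, mul_smul_comm, one_mul, mul_one, hec]
  refine ⟨QuotientGroup.mk x * QuotientGroup.mk g, ?_⟩
  have hcomm' : Commute (QuotientGroup.mk x : Cfsg.PSU n F q) (QuotientGroup.mk g) := hcomm.map (QuotientGroup.mk' _)
  rw [hcomm'.orderOf_mul_eq_mul_orderOf_of_coprime (by rw [hxo]; exact (Nat.Prime.coprime_iff_not_dvd hr).2 hgr),
    hxo]

include hF in
/-- Regular unipotent elements of `SU_k ≤ SU_n`. -/
theorem exists_su_unipotent {k : ℕ} (hk : k ≤ n) (hn : 2 ≤ n) :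
    ∃ g : ↥(Cfsg.SU n F q), (∀ j, (QuotientGroup.mk g : Cfsg.PSU n F q) ^ (ringChar F ^ j) = 1 ↔
        k ≤ ringChar F ^ j) ∧
      (0 < k → k < n → ∃ e : Matrix (Fin n) (Fin n) F, e * e = e ∧ adj hF e = e ∧ e ≠ 0 ∧ e ≠ 1 ∧
        e * suM g = suM g * e) := by
  classical
  obtain ⟨p0, hp0, hp0', hpp⟩ := exists_q_pow hF
  haveI := Fact.mk hpp
  haveI : CharP F (ringChar F) := ringChar.charP F
  set p := ringChar F with hp
  let e0 : ((_i : Fin 1) × Fin k) ≃ Fin k :=
    { toFun := fun x => x.2
      invFun := fun x => ⟨0, x⟩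
      left_inv := fun ⟨i, x⟩ => by fin_cases i; rfl
      right_inv := fun x => rfl }
  obtain ⟨u, hu⟩ := exists_GU_of_type hF (fun _ : Fin 1 => k) e0
  set U : Matrix (Fin k) (Fin k) F := ((u : GL (Fin k) F) : Matrix (Fin k) (Fin k) F) with hU
  have hUj : ∀ l : ℕ, (U - 1) ^ l = 0 ↔ k ≤ l := by
    intro l
    rw [← matrix_rank_eq_zero_iff, rank_of_isConj_jordanType e0 hu]
    simp only [Finset.univ_unique, Finset.sum_singleton]
    omega
  have hUd : U.det = 1 := H50.det_eq_one_of_sub_nilpotent ⟨k, (hUj k).2 le_rfl⟩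
  let e : Fin k ⊕ Fin (n - k) ≃ Fin n := finSumFinEquiv.trans (finCongr (by omega))
  let R := Matrix.reindexAlgEquiv F F e
  set G : Matrix (Fin n) (Fin n) F := R (Matrix.fromBlocks U 0 0 1) with hG
  have hadjB : ∀ (a : Matrix (Fin k) (Fin k) F) (b : Matrix (Fin (n - k)) (Fin (n - k)) F),
      adj hF (Matrix.fromBlocks a 0 0 b) = Matrix.fromBlocks (adj hF a) 0 0 (adj hF b) := by
    intro a b
    rw [adj, Matrix.fromBlocks_map, Matrix.fromBlocks_transpose]
    simp [adj, Matrix.map_zero _ (map_zero (qFrob hF))]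
  have hRadj : ∀ Y, adj hF (R Y) = R (adj hF Y) := fun Y => adj_reindex hF e e Y
  have hGu : adj hF G * G = 1 := by
    rw [hG, hRadj, ← map_mul, hadjB, Matrix.fromBlocks_multiply]
    simp only [mul_zero, zero_mul, add_zero, zero_add, mul_one, adj_one]
    rw [hU, (mem_GU_iff hF _).1 u.2]
    simp [Matrix.fromBlocks_one]
  have hGd : G.det = 1 := by
    rw [hG, Matrix.det_reindexAlgEquiv, Matrix.det_fromBlocks_zero₂₁, hUd, Matrix.det_one, mul_one]
  let g : ↥(Cfsg.SU n F q) := mkSU hF G hGu hGd
  have hGp : ∀ j, G ^ p ^ j = 1 ↔ k ≤ p ^ j := by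
    intro j
    have hsub : G - 1 = R (Matrix.fromBlocks (U - 1) 0 0 0) := by
      rw [hG, ← map_one R, ← map_sub, ← Matrix.fromBlocks_one]
      congr 1
      rw [sub_eq_add_neg, Matrix.fromBlocks_neg, Matrix.fromBlocks_add]
      simp [sub_eq_add_neg]
    rw [← hUj, ← sub_eq_zero]
    haveI : Nonempty (Fin n) := ⟨⟨0, by omega⟩⟩
    have h1 : G ^ p ^ j - 1 = (G - 1) ^ p ^ j := by
      rw [sub_pow_char_pow_of_commute _ _ (Commute.one_right G), one_pow]
    rw [h1, hsub, ← map_pow, map_eq_zero_iff R R.injective]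
    have h2 : ∀ i : ℕ, 0 < i → (Matrix.fromBlocks (U - 1) 0 0 (0 : Matrix (Fin (n - k)) (Fin (n - k)) F)) ^ i =
        Matrix.fromBlocks ((U - 1) ^ i) 0 0 0 := by
      intro i hi
      induction i, hi using Nat.le_induction with
      | base => simp
      | succ i _ ih => rw [pow_succ, ih, Matrix.fromBlocks_multiply, pow_succ]; simp
    rw [h2 _ (pow_pos hpp.pos j)]
    constructor
    · intro h
      ext a b
      have := congrFun (congrFun h (Sum.inl a)) (Sum.inl b)
      simpa using this
    · intro h
      rw [h, Matrix.fromBlocks_zero]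
  refine ⟨g, fun j => ?_, fun hk0 hkn => ⟨R (Matrix.fromBlocks 1 0 0 0), ?_, ?_, ?_, ?_, ?_⟩⟩
  · rw [← hGp]
    constructor
    · intro h
      obtain ⟨l, hl⟩ := (psu_pow_eq_one_iff hF hn g _).1 h
      change G ^ p ^ j = l • 1 at hl
      -- a scalar which is unipotent
      obtain ⟨J, hJ⟩ : ∃ J, k ≤ p ^ J := ⟨k, (Nat.lt_pow_self hpp.one_lt).le⟩
      have h2 := (hGp J).2 hJ
      have h3 : (l ^ p ^ J) • (1 : Matrix (Fin n) (Fin n) F) = 1 := by
        rw [← one_pow (p ^ J) (M := Matrix (Fin n) (Fin n) F), ← _root_.smul_pow, ← hl, ← pow_mul, mul_comm, pow_mul,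
          h2, one_pow, one_pow]
      have h4 : l ^ p ^ J = 1 := by
        have := congrFun (congrFun h3 ⟨0, by omega⟩) ⟨0, by omega⟩
        simpa using this
      have h5 : l = 1 := iterateFrobenius_inj F p J (by
        rw [iterateFrobenius_def, iterateFrobenius_def, one_pow, h4])
      rw [hl, h5, one_smul]
    · intro h
      exact (psu_pow_eq_one_iff hF hn g _).2 ⟨1, by rw [one_smul]; exact h⟩
  · rw [← map_mul, Matrix.fromBlocks_multiply]; simp
  · rw [hRadj, hadjB, adj_one, adj_zero]
  · rw [Ne, map_eq_zero_iff R R.injective]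
    intro h
    have := congrFun (congrFun h (Sum.inl ⟨0, hk0⟩)) (Sum.inl ⟨0, hk0⟩)
    simp at this
  · rw [Ne, map_eq_one_iff R R.injective]
    intro h
    have := congrFun (congrFun h (Sum.inr ⟨0, by omega⟩)) (Sum.inr ⟨0, by omega⟩)
    simp at this
  · show R (Matrix.fromBlocks 1 0 0 0) * G = G * R (Matrix.fromBlocks 1 0 0 0)
    rw [hG, ← map_mul, ← map_mul, Matrix.fromBlocks_multiply, Matrix.fromBlocks_multiply]
    simp

end H51
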