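import Cfsg.Agent.H51.Witt
import Cfsg.Agent.H51.GUtoSp
import Cfsg.Agent.H48.Form
import Cfsg.Agent.H50.Count

set_option autoImplicit false

namespace H51

open Matrix

section Abstract

variable {F K : Type*} [Field F] [Field K] [Fintype K] {q m : ℕ}

/-- The isometries of the Hermitian form correspond to the centraliser of `x`. -/
theorem card_centralizer_eq_card_GU [Fintype F] (hK : Fintype.card K = q ^ 2) (ι : F →+* K) (θ : K)
    (hιq : ∀ a, ι a ^ q = ι a) (hΔ : θ - θ ^ q ≠ 0) (hgen : ∀ z : K, ∃ a b : F, ι a + θ * ι b = z)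
    (x : Matrix.symplecticGroup (Fin m) F)
    (Φ : (Fin m → K) ≃+ (Fin m ⊕ Fin m → F)) (hΦι : ∀ a u, Φ (ι a • u) = a • Φ u)
    (hΦθ : ∀ u, Φ (θ • u) = (x : Matrix (Fin m ⊕ Fin m) (Fin m ⊕ Fin m) F) *ᵥ Φ u)
    (hΦf : ∀ u v, Cfsg.hermForm m K q u v - Cfsg.hermForm m K q v u = (θ - θ ^ q) * ι (H48.sf (Φ u) (Φ v))) :
    Nat.card ↥(Subgroup.centralizer ({x} : Set ↥(Matrix.symplecticGroup (Fin m) F))) =
      Nat.card ↥(Cfsg.GU m K q) := by
  classical
  set X : Matrix (Fin m ⊕ Fin m) (Fin m ⊕ Fin m) F := (x : Matrix (Fin m ⊕ Fin m) (Fin m ⊕ Fin m) F) with hX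
  have hXc : ∀ g : Matrix.symplecticGroup (Fin m) F, g ∈ Subgroup.centralizer ({x} : Set _) →
      ∀ w, X *ᵥ ((g : Matrix (Fin m ⊕ Fin m) (Fin m ⊕ Fin m) F) *ᵥ w) =
        (g : Matrix (Fin m ⊕ Fin m) (Fin m ⊕ Fin m) F) *ᵥ (X *ᵥ w) := by
    intro g hg w
    rw [Matrix.mulVec_mulVec, Matrix.mulVec_mulVec]
    exact congrArg (fun y : Matrix.symplecticGroup (Fin m) F => (y : Matrix (Fin m ⊕ Fin m) (Fin m ⊕ Fin m) F) *ᵥ w)
      (Subgroup.mem_centralizer_iff.mp hg x rfl)
  have hs : ∀ w, Φ.symm (X *ᵥ w) = θ • Φ.symm w := fun w => by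
    apply Φ.injective; rw [hΦθ, Φ.apply_symm_apply, Φ.apply_symm_apply]
  have hs' : ∀ a w, Φ.symm (a • w) = ι a • Φ.symm w := fun a w => by
    apply Φ.injective; rw [hΦι, Φ.apply_symm_apply, Φ.apply_symm_apply]
  -- from the centraliser to matrices over `K`
  have key1 : ∀ g : Matrix.symplecticGroup (Fin m) F, g ∈ Subgroup.centralizer ({x} : Set _) →
      ∃ M : Matrix (Fin m) (Fin m) K, (∀ u, Φ (M *ᵥ u) = (g : Matrix (Fin m ⊕ Fin m) (Fin m ⊕ Fin m) F) *ᵥ Φ u) ∧ adj hK M * M = 1 := by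
    intro g hg
    set G : Matrix (Fin m ⊕ Fin m) (Fin m ⊕ Fin m) F := (g : Matrix (Fin m ⊕ Fin m) (Fin m ⊕ Fin m) F)
    have hXG : ∀ w, G *ᵥ (X *ᵥ w) = X *ᵥ (G *ᵥ w) := fun w => (hXc g hg w).symm
    let L : (Fin m → K) →ₗ[K] (Fin m → K) :=
      { toFun := fun u => Φ.symm (G *ᵥ Φ u)
        map_add' := fun u v => by simp only [map_add, Matrix.mulVec_add]
        map_smul' := fun z u => by
          obtain ⟨a, b, rfl⟩ := hgen z
          simp only [RingHom.id_apply, add_smul, mul_smul, map_add, Matrix.mulVec_add, hΦι, hΦθ,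
            Matrix.mulVec_smul, hs, hs', hXG]
          rw [smul_comm (ι b) θ] }
    have hM : ∀ u, Φ (LinearMap.toMatrix' L *ᵥ u) = G *ᵥ Φ u := by
      intro u
      rw [← Matrix.toLin'_apply, Matrix.toLin'_toMatrix']
      exact Φ.apply_symm_apply _
    refine ⟨LinearMap.toMatrix' L, hM, ?_⟩
    set M := LinearMap.toMatrix' L
    have hB : ∀ u v, Cfsg.hermForm m K q (M *ᵥ u) (M *ᵥ v) - Cfsg.hermForm m K q (M *ᵥ v) (M *ᵥ u) =
        Cfsg.hermForm m K q u v - Cfsg.hermForm m K q v u := by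
      intro u v
      rw [hΦf, hΦf, hM, hM]
      congr 2
      exact (H48.mem_symplectic_iff.mp g.2) _ _
    have hh : ∀ u v, Cfsg.hermForm m K q (M *ᵥ u) (M *ᵥ v) = Cfsg.hermForm m K q u v := by
      intro u v
      have h1 := hB u v
      have h2 := hB u (θ • v)
      rw [Matrix.mulVec_smul] at h2
      have e1 : ∀ u v : Fin m → K, Cfsg.hermForm m K q u (θ • v) = θ ^ q * Cfsg.hermForm m K q u v := by
        intro u v; simp only [Cfsg.hermForm, Pi.smul_apply, smul_eq_mul, mul_pow, Finset.mul_sum]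
        exact Finset.sum_congr rfl fun i _ => by ring
      have e2 : ∀ u v : Fin m → K, Cfsg.hermForm m K q (θ • v) u = θ * Cfsg.hermForm m K q v u := by
        intro u v; simp only [Cfsg.hermForm, Pi.smul_apply, smul_eq_mul, Finset.mul_sum]
        exact Finset.sum_congr rfl fun i _ => by ring
      rw [e1, e2, e1, e2] at h2
      apply mul_left_cancel₀ hΔ
      linear_combination θ * h1 - h2
    exact (mem_GU_iff hK (((Matrix.isUnit_iff_isUnit_det M).mpr (by
      rw [isUnit_iff_ne_zero]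
      intro h0
      obtain ⟨v, hv, hv0⟩ := Matrix.exists_mulVec_eq_zero_iff.mpr h0
      apply hv
      funext i
      have := hh v (Pi.single i 1)
      rw [hv0] at this
      simpa [Cfsg.hermForm, Pi.single_apply, (q_pos hK).ne', zero_pow] using this.symm)).unit)).mp hh
  -- from matrices over `K` to the centraliser
  have key2 : ∀ M : ↥(Cfsg.GU m K q), ∃ g : Matrix.symplecticGroup (Fin m) F,
      g ∈ Subgroup.centralizer ({x} : Set _) ∧
      ∀ u, Φ (((M : GL (Fin m) K) : Matrix (Fin m) (Fin m) K) *ᵥ u) = (g : Matrix (Fin m ⊕ Fin m) (Fin m ⊕ Fin m) F) *ᵥ Φ u := by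
    intro M
    set N := ((M : GL (Fin m) K) : Matrix (Fin m) (Fin m) K)
    let L : (Fin m ⊕ Fin m → F) →ₗ[F] (Fin m ⊕ Fin m → F) :=
      { toFun := fun w => Φ (N *ᵥ Φ.symm w)
        map_add' := fun u v => by simp only [map_add, Matrix.mulVec_add]
        map_smul' := fun a w => by simp only [hs', Matrix.mulVec_smul, hΦι, RingHom.id_apply] }
    have hL : ∀ w, LinearMap.toMatrix' L *ᵥ w = Φ (N *ᵥ Φ.symm w) := by
      intro w; rw [← Matrix.toLin'_apply, Matrix.toLin'_toMatrix']; rfl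
    have hmem : LinearMap.toMatrix' L ∈ Matrix.symplecticGroup (Fin m) F := by
      refine H48.mem_symplectic_iff.mpr fun u v => ?_
      apply ι.injective
      apply mul_left_cancel₀ hΔ
      rw [hL, hL, ← hΦf]
      conv_rhs => rw [← Φ.apply_symm_apply u, ← Φ.apply_symm_apply v, ← hΦf]
      have hM : ∀ a b, Cfsg.hermForm m K q (N *ᵥ a) (N *ᵥ b) = Cfsg.hermForm m K q a b := M.2
      rw [hM, hM]
    refine ⟨⟨_, hmem⟩, ?_, fun u => by show _ = LinearMap.toMatrix' L *ᵥ Φ u; rw [hL, Φ.symm_apply_apply]⟩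
    refine Subgroup.mem_centralizer_iff.mpr fun y hy => ?_
    rw [Set.mem_singleton_iff.mp hy]
    refine H48.sp_ext fun w => ?_
    show (X * LinearMap.toMatrix' L) *ᵥ w = (LinearMap.toMatrix' L * X) *ᵥ w
    rw [← Matrix.mulVec_mulVec, ← Matrix.mulVec_mulVec, hL, hL, hs, Matrix.mulVec_smul, hΦθ]
  choose f hf1 hf2 using key1
  choose g hg1 hg2 using key2
  refine Nat.card_congr
    { toFun := fun c => ⟨mkGL hK (f c.1 c.2) (hf2 c.1 c.2), mkGL_mem hK _ _⟩
      invFun := fun M => ⟨g M, hg1 M⟩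
      left_inv := ?_
      right_inv := ?_ }
  · intro c
    refine Subtype.ext (H48.sp_ext fun w => ?_)
    show ((g _ : Matrix.symplecticGroup (Fin m) F) : Matrix (Fin m ⊕ Fin m) (Fin m ⊕ Fin m) F) *ᵥ w = ((c.1 : Matrix.symplecticGroup (Fin m) F) : Matrix (Fin m ⊕ Fin m) (Fin m ⊕ Fin m) F) *ᵥ w
    rw [← Φ.apply_symm_apply w, ← hg2]
    exact hf1 c.1 c.2 (Φ.symm w)
  · intro M
    refine Subtype.ext (Units.ext (Matrix.ext_of_mulVec_single fun i => ?_))
    apply Φ.injective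
    show Φ (f (g M) (hg1 M) *ᵥ Pi.single i 1) = _
    rw [hf1, ← hg2]

end Abstract

/-- The centraliser of a fixed-point-free element of order three in `Sp_{2m}(q)`, `q ≡ 2 mod 3`. -/
theorem card_centralizer_order_three {F : Type*} [Field F] [Fintype F] {q : ℕ} (hF : Fintype.card F = q)
    (hq : q % 3 = 2) {m : ℕ} (x : Matrix.symplecticGroup (Fin m) F) (hx3 : x ^ 3 = 1)
    (hfpf : IsUnit ((x : Matrix (Fin m ⊕ Fin m) (Fin m ⊕ Fin m) F) - 1)) :
    (Nat.card ↥(Subgroup.centralizer ({x} : Set ↥(Matrix.symplecticGroup (Fin m) F))) : ℤ) =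
      (q : ℤ) ^ (m * (m - 1) / 2) * ∏ i : Fin m, ((q : ℤ) ^ ((i : ℕ) + 1) - (-1) ^ ((i : ℕ) + 1)) := by
  classical
  -- the field with `q²` elements
  obtain ⟨r, hp, hr⟩ := FiniteField.card F (ringChar F)
  set p := ringChar F with hpdef
  haveI := Fact.mk hp
  let K := GaloisField p (2 * r)
  haveI : Fintype K := Fintype.ofFinite K
  have hr0 : (2 * (r : ℕ)) ≠ 0 := by have := r.pos; omega
  have hK : Fintype.card K = q ^ 2 := by
    rw [← hF, hr, ← pow_mul, mul_comm, ← Nat.card_eq_fintype_card]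
    exact GaloisField.card p _ hr0
  obtain ⟨ι, hι, hfix⟩ := exists_embedding (F := F) hK hF
  have hιq : ∀ a, ι a ^ q = ι a := fun a => (hfix _).mp ⟨a, rfl⟩
  obtain ⟨θ, hθ1, hθ3⟩ : ∃ θ : K, θ ≠ 1 ∧ θ ^ 3 = 1 := by
    have h3 : 3 ∣ Nat.card Kˣ := by
      rw [Nat.card_eq_fintype_card, Fintype.card_units, hK]
      obtain ⟨k, hk⟩ : ∃ k, q = 3 * k + 2 := ⟨q / 3, by omega⟩
      refine ⟨3 * k ^ 2 + 4 * k + 1, ?_⟩
      rw [hk, Nat.sub_eq_iff_eq_add (Nat.one_le_pow _ _ (by omega))]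
      ring
    obtain ⟨u, hu⟩ := exists_prime_orderOf_dvd_card' (G := Kˣ) 3 h3
    exact ⟨u, fun h => by rw [Units.val_eq_one.mp h, orderOf_one] at hu; omega,
      by rw [← Units.val_pow_eq_pow_val, ← hu, pow_orderOf_eq_one, Units.val_one]⟩
  have hθ : θ ^ 2 = -1 - θ := by
    have : (θ - 1) * (θ ^ 2 + θ + 1) = 0 := by linear_combination hθ3
    linear_combination (mul_eq_zero.mp this).resolve_left (sub_ne_zero.mpr hθ1)
  have hθq : θ ^ q = θ ^ 2 := by
    conv_lhs => rw [← Nat.div_add_mod q 3, hq, pow_add, pow_mul, hθ3, one_pow, one_mul]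
  have hΔ : θ - θ ^ q ≠ 0 := by
    rw [hθq]
    intro h
    have : θ * (θ - 1) = 0 := by linear_combination -h
    rcases mul_eq_zero.mp this with h0 | h0
    · rw [h0] at hθ3; simp at hθ3
    · exact hθ1 (sub_eq_zero.mp h0)
  have hgen : ∀ z : K, ∃ a b : F, ι a + θ * ι b = z := by
    intro z
    set b : K := (z - z ^ q) / (θ - θ ^ q) with hb
    have hbq : b ^ q = b := by
      rw [hb, div_pow, sub_pow_q hK, sub_pow_q hK, pow_q_q hK, pow_q_q hK, ← neg_sub z, ← neg_sub θ,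
        neg_div_neg_eq]
    have haq : (z - θ * b) ^ q = z - θ * b := by
      have h := div_mul_cancel₀ (z - z ^ q) hΔ
      rw [← hb] at h
      rw [sub_pow_q hK, mul_pow, hbq]
      linear_combination h
    obtain ⟨b0, hb0⟩ := (hfix _).mpr hbq
    obtain ⟨a0, ha0⟩ := (hfix _).mpr haq
    exact ⟨a0, b0, by simp [ha0, hb0]⟩
  have huniq : ∀ a b a' b' : F, ι a + θ * ι b = ι a' + θ * ι b' → a = a' ∧ b = b' := by
    intro a b a' b' h
    have h2 := congrArg (qFrob hK) h
    simp only [map_add, map_mul, qFrob_apply, hιq] at h2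
    have h3 : (θ - θ ^ q) * (ι b - ι b') = 0 := by linear_combination h - h2
    have hb : b = b' := hι (sub_eq_zero.mp ((mul_eq_zero.mp h3).resolve_left hΔ))
    subst hb
    exact ⟨hι (add_right_cancel h), rfl⟩
  choose ca cb hc using hgen
  have hca : ∀ a b, ca (ι a + θ * ι b) = a ∧ cb (ι a + θ * ι b) = b := fun a b => huniq _ _ _ _ (hc _)
  -- the action of `K` on the module
  set X : Matrix (Fin m ⊕ Fin m) (Fin m ⊕ Fin m) F := (x : Matrix (Fin m ⊕ Fin m) (Fin m ⊕ Fin m) F) with hX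
  have hX2 : X * X = -1 - X := by
    have h3 : X ^ 3 = 1 := congrArg Subtype.val hx3
    have : (X - 1) * (X * X - (-1 - X)) = 0 := by
      calc (X - 1) * (X * X - (-1 - X)) = X ^ 3 - 1 := by noncomm_ring
        _ = 0 := by rw [h3, sub_self]
    exact sub_eq_zero.mp ((hfpf.mul_right_eq_zero).mp this)
  let χ : K →+* Matrix (Fin m ⊕ Fin m) (Fin m ⊕ Fin m) F :=
    { toFun := fun z => ca z • (1 : Matrix (Fin m ⊕ Fin m) (Fin m ⊕ Fin m) F) + cb z • X
      map_one' := by
        obtain ⟨h1, h2⟩ := hca 1 0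
        simp only [map_one, map_zero, mul_zero, add_zero] at h1 h2
        simp [h1, h2]
      map_zero' := by
        obtain ⟨h1, h2⟩ := hca 0 0
        simp only [map_zero, mul_zero, add_zero] at h1 h2
        simp [h1, h2]
      map_add' := fun z w => by
        obtain ⟨h1, h2⟩ := hca (ca z + ca w) (cb z + cb w)
        have he : ι (ca z + ca w) + θ * ι (cb z + cb w) = z + w := by
          rw [map_add, map_add]; linear_combination hc z + hc w
        rw [he] at h1 h2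
        rw [h1, h2]; module
      map_mul' := fun z w => by
        obtain ⟨h1, h2⟩ := hca (ca z * ca w - cb z * cb w) (ca z * cb w + cb z * ca w - cb z * cb w)
        have he : ι (ca z * ca w - cb z * cb w) + θ * ι (ca z * cb w + cb z * ca w - cb z * cb w) = z * w := by
          conv_rhs => rw [← hc z, ← hc w]
          simp only [map_sub, map_add, map_mul]
          linear_combination -(ι (cb z) * ι (cb w)) * hθ
        rw [he] at h1 h2
        rw [h1, h2]
        simp only [add_mul, mul_add, smul_mul_assoc, mul_smul_comm, one_mul, mul_one, smul_smul, hX2]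
        module }
  letI mK : Module K (Fin m ⊕ Fin m → F) :=
    Module.compHom _ ((Matrix.toLinAlgEquiv' (R := F) (n := Fin m ⊕ Fin m)).toRingEquiv.toRingHom.comp χ)
  have hsm : ∀ (z : K) (w : Fin m ⊕ Fin m → F), z • w = χ z *ᵥ w := fun z w => rfl
  have hdim : Module.finrank K (Fin m ⊕ Fin m → F) = m := by
    have h := Module.card_eq_pow_finrank (K := K) (V := Fin m ⊕ Fin m → F)
    rw [hK, Fintype.card_fun, Fintype.card_sum, Fintype.card_fin, hF, ← pow_mul] at h
    have := Nat.pow_right_injective (show 2 ≤ q by omega) h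
    omega
  let bV := Module.finBasisOfFinrankEq K (Fin m ⊕ Fin m → F) hdim
  let Φ₀ : (Fin m → K) ≃ₗ[K] (Fin m ⊕ Fin m → F) := bV.equivFun.symm
  have hχι : ∀ a, χ (ι a) = a • 1 := fun a => by
    obtain ⟨h1, h2⟩ := hca a 0
    simp only [map_zero, mul_zero, add_zero] at h1 h2
    show ca (ι a) • _ + cb (ι a) • X = _
    rw [h1, h2]; simp
  have hχθ : χ θ = X := by
    obtain ⟨h1, h2⟩ := hca 0 1
    simp only [map_zero, map_one, mul_one, zero_add] at h1 h2
    show ca θ • _ + cb θ • X = _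
    rw [h1, h2]; simp
  set f : (Fin m ⊕ Fin m → F) → (Fin m ⊕ Fin m → F) → F := fun u v => H48.sf u v with hfdef
  have hfX : ∀ u v, f (X *ᵥ u) (X *ᵥ v) = f u v := fun u v => H48.mem_symplectic_iff.mp x.2 u v
  have hfX2 : ∀ u v, f (X *ᵥ u) v = -f u v - f u (X *ᵥ v) := by
    intro u v
    calc f (X *ᵥ u) v = f (X *ᵥ (X *ᵥ u)) (X *ᵥ v) := (hfX _ _).symm
      _ = f ((-1 - X) *ᵥ u) (X *ᵥ v) := by rw [Matrix.mulVec_mulVec, hX2]
      _ = -f u (X *ᵥ v) - f (X *ᵥ u) (X *ᵥ v) := by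
          simp only [hfdef, Matrix.sub_mulVec, Matrix.neg_mulVec, Matrix.one_mulVec, map_sub, map_neg,
            LinearMap.sub_apply, LinearMap.neg_apply]
      _ = _ := by rw [hfX]; ring
  set S : Matrix (Fin m) (Fin m) K :=
    Matrix.of fun i j => θ * ι (f (bV i) (bV j)) - ι (f (bV i) (X *ᵥ bV j)) with hSdef
  have hfswap : ∀ u v, f v u = -f u v := fun u v => H48.sf_swap u v
  have hSherm : ∀ i j, S j i ^ q = S i j := by
    intro i j
    simp only [hSdef, Matrix.of_apply, sub_pow_q hK, mul_pow, hιq, hθq]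
    rw [hfswap (bV i) (bV j), hfswap (X *ᵥ bV i) (bV j), hfX2]
    simp only [map_neg, map_sub]
    linear_combination (-(ι (f (bV i) (bV j)))) * hθ
  -- the form in the coordinates
  have hform : ∀ u v : Fin m → K,
      (∑ i, ∑ j, u i * S i j * v j ^ q) - (∑ i, ∑ j, v i * S i j * u j ^ q) =
        (θ - θ ^ q) * ι (f (Φ₀ u) (Φ₀ v)) := by
    intro u v
    rw [Finset.sum_comm (f := fun i j => v i * S i j * u j ^ q), ← Finset.sum_sub_distrib]
    have hexp : ∀ u, Φ₀ u = ∑ i, χ (u i) *ᵥ bV i := fun u => by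
      show bV.equivFun.symm u = _
      rw [Module.Basis.equivFun_symm_apply]
      simp only [hsm]
    rw [hexp, hexp]
    simp only [hfdef, map_sum, LinearMap.sum_apply, Finset.mul_sum]
    conv_rhs => rw [Finset.sum_comm]
    refine Finset.sum_congr rfl fun i _ => ?_
    rw [← Finset.sum_sub_distrib]
    refine Finset.sum_congr rfl fun j _ => ?_
    have hu := hc (u i)
    have hv := hc (v j)
    show _ = (θ - θ ^ q) * ι (f (χ (u i) *ᵥ bV i) (χ (v j) *ᵥ bV j))
    have hχap : ∀ z w, χ z *ᵥ w = ca z • w + cb z • (X *ᵥ w) := fun z w => by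
      show (ca z • (1 : Matrix (Fin m ⊕ Fin m) (Fin m ⊕ Fin m) F) + cb z • X) *ᵥ w = _
      rw [Matrix.add_mulVec, Matrix.smul_mulVec, Matrix.smul_mulVec, Matrix.one_mulVec]
    have hbil : f (χ (u i) *ᵥ bV i) (χ (v j) *ᵥ bV j) =
        ca (u i) * ca (v j) * f (bV i) (bV j) + ca (u i) * cb (v j) * f (bV i) (X *ᵥ bV j) +
        cb (u i) * ca (v j) * f (X *ᵥ bV i) (bV j) + cb (u i) * cb (v j) * f (X *ᵥ bV i) (X *ᵥ bV j) := by
      simp only [hfdef, hχap, map_add, map_smul, LinearMap.add_apply, LinearMap.smul_apply, smul_eq_mul]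
      ring
    have hSji : S j i = S i j ^ q := by rw [← hSherm i j, pow_q_q hK]
    rw [hbil, hfX, hfX2, hSji]
    simp only [hSdef, Matrix.of_apply, sub_pow_q hK, mul_pow, hιq, map_add, map_mul, map_sub, map_neg]
    conv_lhs => rw [← hu, ← hv]
    simp only [add_pow_q hK, mul_pow, hιq, hθq]
    linear_combination (ι (f (bV i) (bV j)) * ι (cb (u i)) *
      (-θ * ι (ca (v j)) + (θ - θ ^ 2) * ι (cb (v j)))) * hθ3
  have hSu : IsUnit S := by
    rw [Matrix.isUnit_iff_isUnit_det, isUnit_iff_ne_zero]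
    intro h0
    obtain ⟨v, hv, hv0⟩ := Matrix.exists_mulVec_eq_zero_iff.mpr h0
    have hz : ∀ u, f (Φ₀ u) (Φ₀ (fun i => v i ^ q)) = 0 := by
      intro u
      apply hι
      apply mul_left_cancel₀ hΔ
      rw [← hform, map_zero, mul_zero]
      have h1 : ∀ u : Fin m → K, (∑ i, ∑ j, u i * S i j * (v j ^ q) ^ q) = 0 := by
        intro u
        refine Finset.sum_eq_zero fun i _ => ?_
        have := congrFun hv0 i
        simp only [Matrix.mulVec, dotProduct, Pi.zero_apply] at this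
        simp only [pow_q_q hK, mul_assoc, ← Finset.mul_sum, this, mul_zero]
      have h2 : (∑ i, ∑ j, v i ^ q * S i j * u j ^ q) = 0 := by
        rw [Finset.sum_comm]
        refine Finset.sum_eq_zero fun j _ => ?_
        have := congrArg (· ^ q) (congrFun hv0 j)
        simp only [Matrix.mulVec, dotProduct, Pi.zero_apply, sum_pow_q hK, mul_pow, zero_pow (q_pos hK).ne'] at this
        calc _ = (∑ i, S j i ^ q * v i ^ q) * u j ^ q := by
              rw [Finset.sum_mul]; exact Finset.sum_congr rfl fun i _ => by rw [hSherm]; ring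
          _ = 0 := by rw [this, zero_mul]
      rw [h1, h2, sub_zero]
    have h0' : Φ₀ (fun i => v i ^ q) = 0 := by
      apply H48.eq_zero_of_sf
      intro w
      rw [H48.sf_swap, ← Φ₀.apply_symm_apply w]
      rw [show H48.sf (Φ₀ (Φ₀.symm w)) (Φ₀ fun i => v i ^ q) = 0 from hz _, neg_zero]
    apply hv
    funext i
    have := congrFun (Φ₀.map_eq_zero_iff.mp h0') i
    exact eq_zero_of_pow_eq_zero this
  -- normalise
  obtain ⟨c, hcu, hcs⟩ := exists_adj_mul_self hK (s := Sᵀ) (by ext i j; simp [hSherm])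
    ((Matrix.isUnit_iff_isUnit_det _).mpr (by rw [Matrix.det_transpose]; exact (Matrix.isUnit_iff_isUnit_det _).mp hSu))
  obtain ⟨cu, rfl⟩ := hcu
  set C : Matrix (Fin m) (Fin m) K := (cu : Matrix (Fin m) (Fin m) K)
  set Ci : Matrix (Fin m) (Fin m) K := ((cu⁻¹ : (Matrix (Fin m) (Fin m) K)ˣ) : Matrix (Fin m) (Fin m) K)
  have hCC : C * Ci = 1 := Units.mul_inv cu
  have hCC' : Ci * C = 1 := Units.inv_mul cu
  let Φ : (Fin m → K) ≃+ (Fin m ⊕ Fin m → F) :=
    { toFun := fun u => Φ₀ (Ci *ᵥ u)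
      invFun := fun w => C *ᵥ Φ₀.symm w
      left_inv := fun u => by
        show C *ᵥ Φ₀.symm (Φ₀ (Ci *ᵥ u)) = u
        rw [Φ₀.symm_apply_apply, Matrix.mulVec_mulVec u C Ci, hCC, Matrix.one_mulVec]
      right_inv := fun w => by
        show Φ₀ (Ci *ᵥ (C *ᵥ Φ₀.symm w)) = w
        rw [Matrix.mulVec_mulVec (Φ₀.symm w) Ci C, hCC', Matrix.one_mulVec, Φ₀.apply_symm_apply]
      map_add' := fun u v => by simp [Matrix.mulVec_add] }
  have hgen' : ∀ z : K, ∃ a b : F, ι a + θ * ι b = z := fun z => ⟨_, _, hc z⟩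
  rw [card_centralizer_eq_card_GU hK ι θ hιq hΔ hgen' x Φ ?_ ?_ ?_, H50.card_GU hK]
  · have hR : ∀ m, (∏ i ∈ Finset.range m, (if Even i then (q : ℤ) ^ (i + 1) + 1 else (q : ℤ) ^ (i + 1) - 1)) =
        ∏ i : Fin m, ((q : ℤ) ^ ((i : ℕ) + 1) - (-1) ^ ((i : ℕ) + 1)) := by
      intro m
      rw [← Fin.prod_univ_eq_prod_range]
      refine Finset.prod_congr rfl fun i _ => ?_
      rcases Nat.even_or_odd (i : ℕ) with h | h
      · rw [if_pos h, pow_succ (-1 : ℤ), h.neg_one_pow]; ring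
      · rw [if_neg (Nat.not_even_iff_odd.mpr h), pow_succ (-1 : ℤ), h.neg_one_pow]; ring
    push_cast
    rw [← hR]
    congr 1
    refine Finset.prod_congr rfl fun i _ => ?_
    split_ifs
    · push_cast; ring
    · rw [Nat.cast_sub (Nat.one_le_pow _ _ (by omega))]; push_cast; ring
  · intro a u
    show Φ₀ (Ci *ᵥ (ι a • u)) = a • Φ₀ (Ci *ᵥ u)
    rw [Matrix.mulVec_smul, map_smul, hsm, hχι, Matrix.smul_mulVec, Matrix.one_mulVec]
  · intro u
    show Φ₀ (Ci *ᵥ (θ • u)) = X *ᵥ Φ₀ (Ci *ᵥ u)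
    rw [Matrix.mulVec_smul, map_smul, hsm, hχθ]
  · intro u v
    show _ = (θ - θ ^ q) * ι (f (Φ₀ (Ci *ᵥ u)) (Φ₀ (Ci *ᵥ v)))
    have key : ∀ a b : Fin m → K, ∑ i, ∑ j, a i * S i j * b j ^ q = Cfsg.hermForm m K q (C *ᵥ a) (C *ᵥ b) := by
      intro a b
      rw [hermForm_mulVec hK]
      have : Cᵀ * C.map (qFrob hK) = S := by
        have := congrArg Matrix.transpose hcs
        rwa [Matrix.transpose_mul, adj, Matrix.transpose_transpose, Matrix.transpose_transpose] at this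
      rw [this]
      simp [dotProduct, Matrix.mulVec, Finset.mul_sum, mul_assoc]
    rw [← hform, key, key, Matrix.mulVec_mulVec u C Ci, Matrix.mulVec_mulVec v C Ci, hCC, Matrix.one_mulVec, Matrix.one_mulVec]

end H51
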