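import Cfsg.Agent.H51.Witt
import Cfsg.Prelude.Def_GeometricClasses

set_option autoImplicit false

namespace H51

open Matrix
open scoped Kronecker

variable {F : Type*} [Field F] [Fintype F] {q : ℕ} (hF : Fintype.card F = q ^ 2)

/-- The adjoint of a Kronecker product. -/
lemma adj_kronecker {a b c d : Type*} (A : Matrix a b F) (B : Matrix c d F) :
    adj hF (A ⊗ₖ B) = adj hF A ⊗ₖ adj hF B := by
  ext x y; simp [mul_pow]

include hF in
/-- An orthonormal basis adapted to a tensor decomposition. -/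
theorem exists_tensor_onb {n n₁ n₂ : ℕ} (e : Fin n ≃ Fin n₁ × Fin n₂) (P : GL (Fin n) F)
    {f₁ : (Fin n₁ → F) → (Fin n₁ → F) → F} {f₂ : (Fin n₂ → F) → (Fin n₂ → F) → F}
    (h1 : ∀ v w, f₁ v w = f₁ w v ^ q) (h2 : ∀ v w, f₂ v w = f₂ w v ^ q)
    (hT : Cfsg.Geo.IsTensorFormStructure (fun x : F => x ^ q) (Cfsg.hermForm n F q) f₁ f₂ e P) :
    ∃ Q : Matrix (Fin n) (Fin n₁ × Fin n₂) F, adj hF Q * Q = 1 ∧ Q * adj hF Q = 1 ∧
      ∀ g ∈ Cfsg.Geo.tensorProductSubgroup n₁ n₂ e P, ∃ a b,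
        adj hF Q * (g : Matrix (Fin n) (Fin n) F) * Q = a ⊗ₖ b := by
  classical
  obtain ⟨c, hc, hT⟩ := hT
  set G1 := Cfsg.Geo.gramMatrix f₁ with hG1
  set G2 := Cfsg.Geo.gramMatrix f₂ with hG2
  set P' : Matrix (Fin n) (Fin n₁ × Fin n₂) F := (P : Matrix (Fin n) (Fin n) F).submatrix id e.symm with hP'
  have hP'e : ∀ x, (P : Matrix (Fin n) (Fin n) F) *ᵥ (x ∘ e) = P' *ᵥ x := by
    intro x; funext i
    simp only [Matrix.mulVec, dotProduct, hP', Matrix.submatrix_apply, id, Function.comp]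
    exact Fintype.sum_equiv e _ _ (fun j => by simp)
  have hs : adj hF P' * P' = c • (G1ᵀ ⊗ₖ G2ᵀ) := by
    ext x y
    have := hT (Pi.single y 1) (Pi.single x 1)
    rw [hP'e, hP'e, Matrix.mulVec_single_one, Matrix.mulVec_single_one] at this
    have hR : Cfsg.Geo.formOfGram (fun x : F => x ^ q) (G1 ⊗ₖ G2) (Pi.single y 1) (Pi.single x 1) =
        (G1 ⊗ₖ G2) y x := by
      simp only [Cfsg.Geo.formOfGram]
      rw [Finset.sum_eq_single y, Finset.sum_eq_single x]
      · simp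
      · intro b _ hb; simp [hb, (q_pos hF).ne']
      · simp
      · intro a _ ha; simp [ha]
      · simp
    rw [hR] at this
    rw [Matrix.smul_apply, smul_eq_mul, Matrix.kroneckerMap_apply, Matrix.transpose_apply,
      Matrix.transpose_apply, ← Matrix.kroneckerMap_apply (fun a b : F => a * b), ← this]
    simp [Matrix.mul_apply, Cfsg.hermForm, mul_comm]
  have hP'u : IsUnit (adj hF P' * P') := by
    have : adj hF P' * P' = (adj hF (P : Matrix (Fin n) (Fin n) F) * P).submatrix e.symm e.symm := by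
      ext x y; simp [hP', Matrix.mul_apply]
    rw [this, Matrix.isUnit_submatrix_equiv]
    exact (isUnit_adj hF P.isUnit).mul P.isUnit
  have hHerm : ∀ {m : ℕ} (f : (Fin m → F) → (Fin m → F) → F), (∀ v w, f v w = f w v ^ q) →
      adj hF (Cfsg.Geo.gramMatrix f)ᵀ = (Cfsg.Geo.gramMatrix f)ᵀ := by
    intro m f hf; ext i j
    simp only [adj_apply, Matrix.transpose_apply]
    exact (hf _ _).symm
  have hadj : adj hF (adj hF P' * P') = adj hF P' * P' := by rw [adj_mul, adj_adj]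
  have hne : adj hF P' * P' ≠ 0 ∨ IsEmpty (Fin n₁ × Fin n₂) := by
    rcases isEmpty_or_nonempty (Fin n₁ × Fin n₂) with h | h
    · exact Or.inr h
    · exact Or.inl (hP'u.ne_zero)
  rcases hne with hne | hemp
  swap
  · exact ⟨P', Subsingleton.elim _ _, by
      haveI : IsEmpty (Fin n) := e.isEmpty
      exact Subsingleton.elim _ _, fun g _ => ⟨0, 0, Subsingleton.elim _ _⟩⟩
  have hcq : c ^ q = c := by
    rw [hs, adj_smul, adj_kronecker, hHerm f₁ h1, hHerm f₂ h2] at hadj
    exact smul_left_injective F (fun h => hne (by rw [hs, h, smul_zero])) hadj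
  rw [hs] at hP'u
  have hdet := (Matrix.isUnit_iff_isUnit_det _).mp hP'u
  rw [Matrix.det_smul, Matrix.det_kronecker, IsUnit.mul_iff, IsUnit.mul_iff] at hdet
  have hne1 : Nonempty (Fin n₁) ∧ Nonempty (Fin n₂) := by
    rcases isEmpty_or_nonempty (Fin n₁ × Fin n₂) with h | ⟨⟨i, j⟩⟩
    · exact absurd (Subsingleton.elim _ _) hne
    · exact ⟨⟨i⟩, ⟨j⟩⟩
  haveI := hne1.1; haveI := hne1.2
  have hu1 : IsUnit G1ᵀ := by
    rw [Matrix.isUnit_iff_isUnit_det]
    exact (isUnit_pow_iff Fintype.card_ne_zero).mp hdet.2.1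
  have hu2 : IsUnit G2ᵀ := by
    rw [Matrix.isUnit_iff_isUnit_det]
    exact (isUnit_pow_iff Fintype.card_ne_zero).mp hdet.2.2
  obtain ⟨c1, hc1u, hc1⟩ := exists_adj_mul_self hF (s := c • G1ᵀ)
    (by rw [adj_smul, hcq, hHerm f₁ h1])
    (by rw [Matrix.isUnit_iff_isUnit_det, Matrix.det_smul]; exact (IsUnit.pow _ (IsUnit.mk0 _ hc)).mul ((Matrix.isUnit_iff_isUnit_det _).mp hu1))
  obtain ⟨c2, hc2u, hc2⟩ := exists_adj_mul_self hF (s := G2ᵀ) (hHerm f₂ h2) hu2
  obtain ⟨u1, rfl⟩ := hc1u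
  obtain ⟨u2, rfl⟩ := hc2u
  set C1 : Matrix (Fin n₁) (Fin n₁) F := (u1 : Matrix (Fin n₁) (Fin n₁) F)
  set C2 : Matrix (Fin n₂) (Fin n₂) F := (u2 : Matrix (Fin n₂) (Fin n₂) F)
  set C1i : Matrix (Fin n₁) (Fin n₁) F := ((u1⁻¹ : (Matrix (Fin n₁) (Fin n₁) F)ˣ) : Matrix (Fin n₁) (Fin n₁) F)
  set C2i : Matrix (Fin n₂) (Fin n₂) F := ((u2⁻¹ : (Matrix (Fin n₂) (Fin n₂) F)ˣ) : Matrix (Fin n₂) (Fin n₂) F)
  have e11 : C1 * C1i = 1 := Units.mul_inv u1
  have e22 : C2 * C2i = 1 := Units.mul_inv u2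
  have hs' : adj hF P' * P' = adj hF (C1 ⊗ₖ C2) * (C1 ⊗ₖ C2) := by
    rw [hs, adj_kronecker, ← Matrix.mul_kronecker_mul, hc1, hc2, Matrix.smul_kronecker]
  set Q := P' * (C1i ⊗ₖ C2i) with hQ
  have hQQ : adj hF Q * Q = 1 := by
    rw [hQ, adj_mul, Matrix.mul_assoc, ← Matrix.mul_assoc (adj hF P'), hs', ← Matrix.mul_assoc,
      ← Matrix.mul_assoc, ← adj_mul, Matrix.mul_assoc, ← Matrix.mul_kronecker_mul, e11, e22,
      Matrix.one_kronecker_one, adj_one, Matrix.one_mul]
  refine ⟨Q, hQQ, (mul_eq_one_comm_of_equiv e.symm).mp hQQ, fun g hg => ?_⟩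
  obtain ⟨g1, hg1, rfl⟩ := hg
  obtain ⟨k, hk, rfl⟩ := hg1
  obtain ⟨a, b, hab⟩ := hk
  refine ⟨C1 * (a : Matrix (Fin n₁) (Fin n₁) F) * C1i, C2 * (b : Matrix (Fin n₂) (Fin n₂) F) * C2i, ?_⟩
  set g : GL (Fin n) F := (MulAut.conj P).toMonoidHom ((Cfsg.Geo.glReindex e.symm).toMonoidHom k)
  have hgP : (g : Matrix (Fin n) (Fin n) F) * P' = P' * (k : Matrix (Fin n₁ × Fin n₂) (Fin n₁ × Fin n₂) F) := by
    have hval : (g : Matrix (Fin n) (Fin n) F) * (P : Matrix (Fin n) (Fin n) F) =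
        (P : Matrix (Fin n) (Fin n) F) * (k : Matrix (Fin n₁ × Fin n₂) (Fin n₁ × Fin n₂) F).submatrix e e := by
      show ((P * Cfsg.Geo.glReindex e.symm k * P⁻¹ : GL (Fin n) F) : Matrix (Fin n) (Fin n) F) * _ = _
      rw [← Units.val_mul, inv_mul_cancel_right, Units.val_mul]
      rfl
    calc (g : Matrix (Fin n) (Fin n) F) * P'
        = ((g : Matrix (Fin n) (Fin n) F) * (P : Matrix (Fin n) (Fin n) F)).submatrix id e.symm := by
          ext i j; rfl
      _ = _ := by
          rw [hval]; ext i j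
          simp only [hP', Matrix.mul_apply, Matrix.submatrix_apply, id]
          exact Fintype.sum_equiv e _ _ (fun l => by simp)
  have hPQ : P' = Q * (C1 ⊗ₖ C2) := by
    rw [hQ, Matrix.mul_assoc, ← Matrix.mul_kronecker_mul, mul_eq_one_comm.mp e11, mul_eq_one_comm.mp e22,
      Matrix.one_kronecker_one, Matrix.mul_one]
  calc adj hF Q * (g : Matrix (Fin n) (Fin n) F) * Q
      = adj hF Q * ((g : Matrix (Fin n) (Fin n) F) * P') * (C1i ⊗ₖ C2i) := by
        rw [hQ]; simp only [Matrix.mul_assoc]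
    _ = (adj hF Q * Q) * (C1 ⊗ₖ C2) * (k : Matrix (Fin n₁ × Fin n₂) (Fin n₁ × Fin n₂) F) * (C1i ⊗ₖ C2i) := by
        rw [hgP, hPQ]; simp only [Matrix.mul_assoc]
    _ = _ := by
        rw [hQQ, Matrix.one_mul, hab, ← Matrix.mul_kronecker_mul, ← Matrix.mul_kronecker_mul]

/-- The tensor stabiliser of a `2 × n₂` decomposition of `SU_n(2)` is not maximal. -/
theorem tensor_two_not_maximal {F : Type*} [Field F] [Fintype F] (n : ℕ) (hF : Fintype.card F = 4)
    (hn : 13 ≤ n) (n₂ : ℕ) (e : Fin n ≃ Fin 2 × Fin n₂) (P : GL (Fin n) F)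
    {f₁ : (Fin 2 → F) → (Fin 2 → F) → F} {f₂ : (Fin n₂ → F) → (Fin n₂ → F) → F}
    (h1 : ∀ v w, f₁ v w = f₁ w v ^ 2) (h2 : ∀ v w, f₂ v w = f₂ w v ^ 2)
    (hT : Cfsg.Geo.IsTensorFormStructure (fun x : F => x ^ 2) (Cfsg.hermForm n F 2) f₁ f₂ e P) :
    ∃ K : Subgroup (GL (Fin n) F),
      Cfsg.Geo.tensorProductSubgroup 2 n₂ e P ⊓ (Cfsg.GU n F 2 ⊓ Cfsg.Geo.specialLinear (Fin n) F) < K ∧
        K < (Cfsg.GU n F 2 ⊓ Cfsg.Geo.specialLinear (Fin n) F) := by
  classical
  have hF2 : Fintype.card F = 2 ^ 2 := by rw [hF]; rfl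
  obtain ⟨Q, hQQ, hQQ', htens⟩ := exists_tensor_onb hF2 e P h1 h2 hT
  have hn2 : 2 ≤ n₂ := by
    have := Fintype.card_congr e; simp at this; omega
  set S := Cfsg.GU n F 2 ⊓ Cfsg.Geo.specialLinear (Fin n) F with hS
  let M : GL (Fin n) F → Matrix (Fin 2 × Fin n₂) (Fin 2 × Fin n₂) F :=
    fun g => adj hF2 Q * (g : Matrix (Fin n) (Fin n) F) * Q
  have Mmul : ∀ g h, M (g * h) = M g * M h := by
    intro g h
    calc M (g * h) = adj hF2 Q * ((g : Matrix (Fin n) (Fin n) F) * (Q * adj hF2 Q) * (h : Matrix (Fin n) (Fin n) F)) * Q := by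
          simp only [M, hQQ', Units.val_mul, Matrix.mul_one, Matrix.mul_assoc]
      _ = _ := by simp only [M, Matrix.mul_assoc]
  let pres : Equiv.Perm (Fin 2) → Matrix (Fin 2 × Fin n₂) (Fin 2 × Fin n₂) F → Prop :=
    fun σ X => ∀ x y, X x y ≠ 0 → x.1 = σ y.1
  let K : Subgroup (GL (Fin n) F) :=
    { carrier := {g | g ∈ S ∧ ∃ σ, pres σ (M g)}
      one_mem' := ⟨S.one_mem, 1, fun x y h => by
        simp only [M, Units.val_one, Matrix.mul_one, hQQ] at h
        rcases eq_or_ne x y with rfl | hxy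
        · rfl
        · exact absurd (Matrix.one_apply_ne hxy) h⟩
      mul_mem' := fun {g h} ⟨hg, σ, hσ⟩ ⟨hh, τ, hτ⟩ => ⟨S.mul_mem hg hh, σ * τ, fun x y hxy => by
        rw [Mmul, Matrix.mul_apply] at hxy
        obtain ⟨z, -, hz⟩ := Finset.exists_ne_zero_of_sum_ne_zero hxy
        rw [hσ x z (left_ne_zero_of_mul hz), hτ z y (right_ne_zero_of_mul hz)]
        rfl⟩
      inv_mem' := fun {g} ⟨hg, σ, hσ⟩ => ⟨S.inv_mem hg, σ⁻¹, fun x y hxy => by
        have : M g⁻¹ = adj hF2 (M g) := by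
          simp only [M, coe_inv_GU hF2 hg.1, adj_mul, adj_adj, Matrix.mul_assoc]
        rw [this, adj_apply] at hxy
        have := hσ y x (fun h => hxy (by rw [h]; simp))
        rw [this]; simp⟩ }
  have hKS : K ≤ S := fun g hg => hg.1
  -- lifting of unitary matrices
  have lift : ∀ X : Matrix (Fin 2 × Fin n₂) (Fin 2 × Fin n₂) F, adj hF2 X * X = 1 → X.det = 1 →
      ∃ g ∈ S, M g = X := by
    intro X hX hd
    have h : adj hF2 (Q * X * adj hF2 Q) * (Q * X * adj hF2 Q) = 1 := by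
      calc _ = Q * (adj hF2 X * ((adj hF2 Q * Q) * (X * adj hF2 Q))) := by
            simp only [adj_mul, adj_adj, Matrix.mul_assoc]
        _ = 1 := by rw [hQQ, Matrix.one_mul, ← Matrix.mul_assoc (adj hF2 X), hX, Matrix.one_mul, hQQ']
    refine ⟨mkGL hF2 _ h, ⟨mkGL_mem hF2 _ h, ?_⟩, ?_⟩
    · show Matrix.GeneralLinearGroup.det (mkGL hF2 _ h) = 1
      apply Units.ext
      show (Q * X * adj hF2 Q).det = 1
      have e1 : (Q * X * adj hF2 Q) = (Q.submatrix id e) * (X.submatrix e e) * (adj hF2 Q).submatrix e id := by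
        rw [Matrix.submatrix_mul_equiv, Matrix.submatrix_mul_equiv, Matrix.submatrix_id_id]
      rw [e1, Matrix.det_mul, Matrix.det_mul, Matrix.det_submatrix_equiv_self, hd, mul_one, ← Matrix.det_mul,
        Matrix.submatrix_mul_equiv, hQQ', Matrix.submatrix_id_id, Matrix.det_one]
    · show adj hF2 Q * (Q * X * adj hF2 Q) * Q = X
      calc _ = (adj hF2 Q * Q) * X * (adj hF2 Q * Q) := by simp only [Matrix.mul_assoc]
        _ = X := by rw [hQQ, Matrix.one_mul, Matrix.mul_one]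
  have hone : ∀ x : F, x ^ 2 = x → x = 0 ∨ x = 1 := by
    intro x hx
    have : x * (x - 1) = 0 := by linear_combination hx
    rcases mul_eq_zero.mp this with h | h
    · exact Or.inl h
    · exact Or.inr (sub_eq_zero.mp h)
  have hcube : ∀ x : F, x ≠ 0 → x ^ 3 = 1 := by
    intro x hx
    have := FiniteField.pow_card_sub_one_eq_one x hx
    rwa [hF] at this
  obtain ⟨w, hw⟩ : ∃ w : F, w ≠ 0 ∧ w ≠ 1 := by
    by_contra h; push_neg at h
    have := Finset.card_le_card (s := (Finset.univ : Finset F)) (t := {0, 1}) (fun x _ => by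
      rcases eq_or_ne x 0 with h0 | h0 <;> simp [h0]; exact h x h0)
    rw [Finset.card_univ, hF] at this
    have := Finset.card_insert_le (0 : F) {1}
    simp at *
  have hle : Cfsg.Geo.tensorProductSubgroup 2 n₂ e P ⊓ S ≤ K := by
    rintro g ⟨hg, hgS⟩
    obtain ⟨a, b, hab⟩ := htens g hg
    refine ⟨hgS, ?_⟩
    have hu : adj hF2 (M g) * M g = 1 := by
      have : adj hF2 (M g) = M g⁻¹ := by simp only [M, coe_inv_GU hF2 hgS.1, adj_mul, adj_adj, Matrix.mul_assoc]
      rw [this, ← Mmul, inv_mul_cancel]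
      simp [M, hQQ]
    change adj hF2 (M g) * M g = 1 at hu
    rw [show M g = a ⊗ₖ b from hab, adj_kronecker, ← Matrix.mul_kronecker_mul] at hu
    -- `a* a` is a scalar fixed by squaring
    let j0 : Fin n₂ := ⟨0, by omega⟩
    set A := adj hF2 a * a with hA
    set B := adj hF2 b * b with hB
    have hAB : ∀ i k, A i k * B j0 j0 = if i = k then 1 else 0 := by
      intro i k
      have := congrFun (congrFun hu (i, j0)) (k, j0)
      rw [Matrix.kroneckerMap_apply] at this
      rw [this]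
      by_cases h : i = k
      · subst h; rw [if_pos rfl, Matrix.one_apply_eq]
      · rw [if_neg h, Matrix.one_apply_ne (by simp [h])]
    have hBfix : B j0 j0 ^ 2 = B j0 j0 := by
      have : adj hF2 B = B := by rw [hB, adj_mul, adj_adj]
      exact congrFun (congrFun this j0) j0
    have hB1 : B j0 j0 = 1 := (hone _ hBfix).resolve_left fun h => by simpa [h] using hAB 0 0
    have hcolumn : ∀ k, a 0 k ^ 3 + a 1 k ^ 3 = 1 := by
      intro k
      have := hAB k k
      rw [hB1, mul_one, if_pos rfl] at this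
      rw [← this, hA, Matrix.mul_apply, Fin.sum_univ_two]
      simp [pow_succ]
    have h2F : (1 : F) + 1 = 0 := by
      obtain ⟨k, -, hk, hp⟩ := exists_q_pow hF2
      have h2 : ringChar F = 2 := (Nat.prime_dvd_prime_iff_eq hp Nat.prime_two).mp
        (by rw [hk]; exact dvd_pow_self _ (by rintro rfl; simp at hk))
      haveI : CharP F 2 := h2 ▸ ringChar.charP F
      exact CharTwo.add_self_eq_zero 1
    have hone_col : ∀ k, ∃ i, ∀ l, a l k ≠ 0 → l = i := by
      intro k
      by_cases h0 : a 0 k = 0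
      · exact ⟨1, fun l hl => by fin_cases l <;> simp_all⟩
      · refine ⟨0, fun l hl => ?_⟩
        rcases Fin.exists_fin_two.mp ⟨l, rfl⟩ with rfl | rfl
        · rfl
        · exfalso
          have := hcolumn k
          rw [hcube _ h0, hcube _ hl, h2F] at this
          exact zero_ne_one this
    choose σf hσf using hone_col
    have horth : σf 0 ≠ σf 1 := by
      intro h
      have hnz : ∀ k, a (σf k) k ≠ 0 := by
        intro k hk
        have h3 := hcolumn k
        have : ∀ l, a l k = 0 := fun l => by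
          by_contra hl; exact hl (hσf k l hl ▸ hk)
        simp [this] at h3
      have h01 := hAB 0 1
      rw [hB1, mul_one, if_neg (by decide), hA, Matrix.mul_apply, Finset.sum_eq_single (σf 0)] at h01
      · rw [adj_apply] at h01
        rcases mul_eq_zero.mp h01 with h' | h'
        · exact hnz 0 (eq_zero_of_pow_eq_zero h')
        · exact hnz 1 (h ▸ h')
      · intro l _ hl
        have : a l 0 = 0 := by_contra fun hne => hl (hσf 0 l hne)
        simp [this]
      · simp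
    have hinj : Function.Injective σf := by
      intro x y hxy; fin_cases x <;> fin_cases y <;> simp_all
    refine ⟨Equiv.ofBijective σf ⟨hinj, Finite.injective_iff_surjective.mp hinj⟩, fun x y hxy => ?_⟩
    rw [show M g = a ⊗ₖ b from hab, Matrix.kroneckerMap_apply] at hxy
    exact hσf _ _ (left_ne_zero_of_mul hxy)
  refine ⟨K, lt_of_le_of_ne hle fun heq => ?_, lt_of_le_of_ne hKS fun heq => ?_⟩
  · -- a diagonal element
    let p0 : Fin 2 × Fin n₂ := (0, ⟨0, by omega⟩)
    let p1 : Fin 2 × Fin n₂ := (0, ⟨1, by omega⟩)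
    let d : Fin 2 × Fin n₂ → F := Function.update (Function.update (fun _ => 1) p0 w) p1 (w ^ 2)
    have hp01 : p0 ≠ p1 := by simp [p0, p1]
    have hd3 : ∀ x, d x ^ 2 * d x = 1 := by
      intro x
      rw [← pow_succ]
      apply hcube
      simp only [d, Function.update_apply]
      split_ifs <;> simp [hw.1]
    obtain ⟨g, hgS, hg⟩ := lift (Matrix.diagonal d) (by
        rw [show adj hF2 (Matrix.diagonal d) = Matrix.diagonal (fun x => d x ^ 2) from by
          ext i j; rcases eq_or_ne i j with rfl | h <;> simp [*, Ne.symm],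
          Matrix.diagonal_mul_diagonal, ← Matrix.diagonal_one]
        congr 1; funext x; exact hd3 x)
      (by
        rw [Matrix.det_diagonal]
        simp only [d]
        rw [Finset.prod_update_of_mem (Finset.mem_univ _), Finset.prod_update_of_mem (by simp [hp01]),
          Finset.prod_const_one, mul_one, ← pow_succ, hcube _ hw.1])
    have hgK : g ∈ K := ⟨hgS, 1, fun x y h => by
      rw [hg] at h
      rcases eq_or_ne x y with rfl | hxy
      · rfl
      · exact absurd (Matrix.diagonal_apply_ne _ hxy) h⟩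
    rw [← heq] at hgK
    obtain ⟨a, b, hab⟩ := htens g hgK.1
    have hh : ∀ i j, a i i * b j j = d (i, j) := by
      intro i j
      have := congrFun (congrFun (hab.symm.trans (show adj hF2 Q * (g : Matrix (Fin n) (Fin n) F) * Q = _ from hg)) (i, j)) (i, j)
      simpa using this
    have e0 := hh 0 ⟨0, by omega⟩
    have e1 := hh 0 ⟨1, by omega⟩
    have e2 := hh 1 ⟨0, by omega⟩
    have e3 := hh 1 ⟨1, by omega⟩
    simp [d, p0, p1, Function.update_apply] at e0 e1 e2 e3
    have : w = w ^ 2 := by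
      calc w = a 0 0 * b ⟨0, by omega⟩ ⟨0, by omega⟩ := e0.symm
        _ = a 0 0 * b ⟨1, by omega⟩ ⟨1, by omega⟩ := by
          rw [mul_left_cancel₀ (left_ne_zero_of_mul_eq_one e2) (e2.trans e3.symm)]
        _ = w ^ 2 := e1
    rcases hone w this.symm with h | h
    · exact hw.1 h
    · exact hw.2 h
  · -- a transposition
    let p0 : Fin 2 × Fin n₂ := (0, ⟨0, by omega⟩)
    let p1 : Fin 2 × Fin n₂ := (1, ⟨1, by omega⟩)
    let p2 : Fin 2 × Fin n₂ := (0, ⟨1, by omega⟩)
    let τ := Equiv.swap p0 p1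
    obtain ⟨g, hgS, hg⟩ := lift (τ.permMatrix F) (by
        rw [show adj hF2 (τ.permMatrix F) = (τ.permMatrix F)ᵀ from by
          ext i j; simp only [adj_apply, Matrix.transpose_apply, Equiv.Perm.permMatrix, PEquiv.toMatrix_apply]
          split_ifs <;> simp,
          Equiv.Perm.permMatrix, ← PEquiv.toMatrix_symm, ← Equiv.toPEquiv_symm, ← PEquiv.toMatrix_trans,
          ← Equiv.toPEquiv_trans]
        simp [τ])
      (by
        rw [Matrix.det_permutation, Equiv.Perm.sign_swap (by simp [p0, p1])]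
        obtain ⟨k, -, hk, hp⟩ := exists_q_pow hF2
        have h2 : ringChar F = 2 := (Nat.prime_dvd_prime_iff_eq hp Nat.prime_two).mp
          (by rw [hk]; exact dvd_pow_self _ (by rintro rfl; simp at hk))
        haveI : CharP F 2 := h2 ▸ ringChar.charP F
        simp [CharTwo.neg_eq])
    rw [← heq] at hgS
    obtain ⟨-, σ, hσ⟩ := hgS
    rw [hg] at hσ
    have a1 := hσ p1 p0 (by simp [Equiv.Perm.permMatrix, PEquiv.toMatrix_apply, τ])
    have a2 := hσ p2 p2 (by
      have : τ p2 = p2 := Equiv.swap_apply_of_ne_of_ne (by simp [p2, p0]) (by simp [p2, p1])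
      simp [Equiv.Perm.permMatrix, PEquiv.toMatrix_apply, this])
    simp only [p0, p1, p2] at a1 a2
    exact absurd (a1.trans a2.symm) (by decide)

end H51
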