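import Cfsg.Agent.H51.UnipotentGU
import Cfsg.Agent.H42.JordanCommutant

/-!
Centralisers of unipotent elements of `GU_n`: Lang-free count through the Hermitian norm on the
commutant algebra.
-/

set_option autoImplicit false
set_option linter.style.haveILetI false

namespace H51

namespace UnipCent

open Matrix

variable {F : Type*} [Field F] [Fintype F] {q : ℕ} (hF : Fintype.card F = q ^ 2)

section Norm

variable {ι : Type*} [Fintype ι] [DecidableEq ι]

/-- Invertible matrices commuting with every member of `T`. -/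
abbrev Cunits (T : Set (Matrix ι ι F)) : Type _ :=
  {g : (Matrix ι ι F)ˣ // ∀ x ∈ T, (g : Matrix ι ι F) * x = x * (g : Matrix ι ι F)}

/-- Unitary matrices commuting with every member of `T`. -/
abbrev Cunit (T : Set (Matrix ι ι F)) : Type _ :=
  {A : Matrix ι ι F // adj hF A * A = 1 ∧ ∀ x ∈ T, A * x = x * A}

/-- Invertible Hermitian matrices commuting with every member of `T`. -/
abbrev Cherm (T : Set (Matrix ι ι F)) : Type _ :=
  {A : Matrix ι ι F // IsUnit A ∧ adj hF A = A ∧ ∀ x ∈ T, A * x = x * A}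

include hF in
/-- The norm map of the commutant is surjective on Hermitian units. -/
theorem card_units_eq_mul (T : Set (Matrix ι ι F))
    (hT : ∀ A : Matrix ι ι F, IsUnit A → (∀ x ∈ T, A * x = x * A) → ∀ x ∈ T, adj hF A * x = x * adj hF A) :
    Nat.card (Cunits T) = Nat.card (Cunit hF T) * Nat.card (Cherm hF T) := by
  classical
  have hinvc : ∀ (g : (Matrix ι ι F)ˣ), (∀ x ∈ T, (g : Matrix ι ι F) * x = x * (g : Matrix ι ι F)) →
      ∀ x ∈ T, ((g⁻¹ : (Matrix ι ι F)ˣ) : Matrix ι ι F) * x = x * ((g⁻¹ : (Matrix ι ι F)ˣ) : Matrix ι ι F) :=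
    fun g hg x hx => (Commute.units_inv_left (hg x hx) : _)
  have hsur : ∀ h : Cherm hF T, ∃ c : Cunits T, adj hF (c.1 : Matrix ι ι F) * c.1 = h.1 := by
    rintro ⟨s, hsu, hs, hsT⟩
    obtain ⟨c, hcu, hcs, hcA⟩ := exists_commRing_norm hF hs hsu
    exact ⟨⟨hcu.unit, fun x hx => (hcA x (hsT x hx).symm).symm⟩, hcs⟩
  choose σ hσ using hsur
  have hherm : ∀ g : Cunits T, IsUnit (adj hF (g.1 : Matrix ι ι F) * (g.1 : Matrix ι ι F)) ∧
      adj hF (adj hF (g.1 : Matrix ι ι F) * (g.1 : Matrix ι ι F)) = adj hF (g.1 : Matrix ι ι F) * (g.1 : Matrix ι ι F) ∧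
      ∀ x ∈ T, adj hF (g.1 : Matrix ι ι F) * (g.1 : Matrix ι ι F) * x = x * (adj hF (g.1 : Matrix ι ι F) * (g.1 : Matrix ι ι F)) :=
    fun g => ⟨(isUnit_adj hF g.1.isUnit).mul g.1.isUnit, by rw [adj_mul, adj_adj],
      fun x hx => by rw [mul_assoc, g.2 x hx, ← mul_assoc, hT _ g.1.isUnit g.2 x hx, mul_assoc]⟩
  let N : Cunits T → Cherm hF T := fun g => ⟨_, hherm g⟩
  let f : Cunit hF T × Cherm hF T → Cunits T := fun p =>
    ⟨(IsUnit.of_mul_eq_one_right _ p.1.2.1).unit * (σ p.2).1, fun x hx => by
      rw [Units.val_mul, IsUnit.unit_spec, mul_assoc, (σ p.2).2 x hx, ← mul_assoc, p.1.2.2 x hx,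
        mul_assoc]⟩
  have hfv : ∀ p, ((f p).1 : Matrix ι ι F) = p.1.1 * (σ p.2).1 := fun p => by simp [f]
  have hNf : ∀ p, N (f p) = p.2 := fun p => Subtype.ext (by
    show adj hF ((f p).1 : Matrix ι ι F) * (f p).1 = _
    rw [hfv, adj_mul, mul_assoc, ← mul_assoc (adj hF p.1.1), p.1.2.1, one_mul, hσ])
  have hbij : Function.Bijective f := by
    constructor
    · intro p p' h
      have h2 : p.2 = p'.2 := by rw [← hNf p, h, hNf]
      have hv : ((f p).1 : Matrix ι ι F) = (f p').1 := by rw [h]
      rw [hfv, hfv, h2] at hv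
      refine Prod.ext (Subtype.ext ?_) h2
      exact (σ p'.2).1.isUnit.mul_right_cancel hv
    · intro g
      set s := (σ (N g)).1 with hs
      set si : Matrix ι ι F := ((s⁻¹ : (Matrix ι ι F)ˣ) : Matrix ι ι F) with hsi
      have h1 : adj hF ((g.1 : Matrix ι ι F) * si) * ((g.1 : Matrix ι ι F) * si) = 1 := by
        calc adj hF ((g.1 : Matrix ι ι F) * si) * ((g.1 : Matrix ι ι F) * si)
            = adj hF si * (adj hF (g.1 : Matrix ι ι F) * (g.1 : Matrix ι ι F)) * si := by rw [adj_mul]; noncomm_ring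
          _ = adj hF si * (adj hF (s : Matrix ι ι F) * s) * si := by
              rw [show adj hF (s : Matrix ι ι F) * s = _ from hσ (N g)]
          _ = adj hF ((s : Matrix ι ι F) * si) * ((s : Matrix ι ι F) * si) := by
              rw [adj_mul]; noncomm_ring
          _ = 1 := by rw [hsi, Units.mul_inv, adj_one, one_mul]
      refine ⟨(⟨(g.1 : Matrix ι ι F) * si, h1, fun x hx => ?_⟩, N g), Subtype.ext (Units.ext ?_)⟩
      · rw [mul_assoc, hinvc s (σ (N g)).2 x hx, ← mul_assoc, g.2 x hx, mul_assoc]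
      · rw [hfv]
        show (g.1 : Matrix ι ι F) * si * (s : Matrix ι ι F) = g.1
        rw [mul_assoc, hsi, Units.inv_mul, mul_one]
  rw [← Nat.card_prod, Nat.card_congr (Equiv.ofBijective f hbij)]

end Norm

/-! ### The block-preserving matrices -/

section BP

variable {t : ℕ} (d : Fin t → ℕ)

/-- Indicator projections of the parts of equal size. -/
def projSet : Set (Matrix (Fin t) (Fin t) F) :=
  Set.range fun i : ℕ => Matrix.diagonal fun k => if d k = i then (1 : F) else 0

omit [Fintype F] in
theorem commute_projSet_iff (A : Matrix (Fin t) (Fin t) F) :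
    (∀ x ∈ projSet d, A * x = x * A) ↔ ∀ k l, d k ≠ d l → A k l = 0 := by
  constructor
  · intro h k l hkl
    have := congrFun (congrFun (h _ ⟨d l, rfl⟩) k) l
    simpa [Matrix.mul_diagonal, Matrix.diagonal_mul, hkl] using this
  · rintro h _ ⟨i, rfl⟩
    ext k l
    by_cases hkl : d k = d l
    · simp [Matrix.mul_diagonal, Matrix.diagonal_mul, hkl, mul_comm]
    · simp [Matrix.mul_diagonal, Matrix.diagonal_mul, h k l hkl]

include hF in
theorem adj_projSet (A : Matrix (Fin t) (Fin t) F) (h : ∀ x ∈ projSet d, A * x = x * A) :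
    ∀ x ∈ projSet d, adj hF A * x = x * adj hF A := by
  rw [commute_projSet_iff] at h ⊢
  intro k l hkl
  rw [adj_apply, h l k (Ne.symm hkl), zero_pow (q_pos hF).ne']

include hF in
/-- The unitary block-preserving matrices. -/
theorem card_Cunit_projSet (D : ℕ) (hD : ∀ k, d k ≤ D) :
    Nat.card (Cunit hF (projSet (F := F) d)) =
      ∏ i ∈ Finset.range (D + 1), Nat.card (Cfsg.GU (Finset.univ.filter (fun k : Fin t => d k = i)).card F q) := by
  classical
  let φ : Fin t → Fin (D + 1) := fun k => ⟨d k, Nat.lt_succ_of_le (hD k)⟩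
  let a : Fin (D + 1) → ℕ := fun i => (Finset.univ.filter (fun k : Fin t => d k = (i : ℕ))).card
  have hc : ∀ i : Fin (D + 1), Fintype.card {k // φ k = i} = a i := fun i => by
    rw [Fintype.card_subtype]
    refine congrArg Finset.card ?_
    ext k
    simp [φ, Fin.ext_iff]
  let e : (Σ i : Fin (D + 1), Fin (a i)) ≃ Fin t :=
    (Equiv.sigmaCongrRight fun i => (Fintype.equivFinOfCardEq (hc i)).symm).trans (Equiv.sigmaFiberEquiv φ)
  have he : ∀ x, d (e x) = (x.1 : ℕ) := fun x =>
    congrArg Fin.val ((Fintype.equivFinOfCardEq (hc x.1)).symm x.2).2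
  have hadj : ∀ M : (i : Fin (D + 1)) → Matrix (Fin (a i)) (Fin (a i)) F,
      adj hF (Matrix.blockDiagonal' M) = Matrix.blockDiagonal' fun i => adj hF (M i) := fun M => by
    rw [adj, Matrix.blockDiagonal'_map _ _ (map_zero (qFrob hF)), Matrix.blockDiagonal'_transpose]
    rfl
  let f : ((i : Fin (D + 1)) → Cfsg.GU (a i) F q) → Cunit hF (projSet (F := F) d) := fun g =>
    ⟨Matrix.reindex e e (Matrix.blockDiagonal' fun i => ((g i : GL (Fin (a i)) F) : Matrix _ _ F)), by
      rw [adj_reindex, ← Matrix.coe_reindexAlgEquiv F F, ← map_mul, hadj, ← Matrix.blockDiagonal'_mul]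
      simp only [fun i => (mem_GU_iff hF _).1 (g i).2]
      rw [← map_one (Matrix.reindexAlgEquiv F F e)]
      congr 1
      exact Matrix.blockDiagonal'_one,
    (commute_projSet_iff d _).2 fun k l hkl => by
      rw [Matrix.reindex_apply, Matrix.submatrix_apply]
      refine Matrix.blockDiagonal'_apply_ne _ _ _ fun h => hkl ?_
      rw [← e.apply_symm_apply k, ← e.apply_symm_apply l, he, he]
      exact congrArg Fin.val h⟩
  have hbij : Function.Bijective f := by
    constructor
    · intro g g' h
      have h1 := Matrix.blockDiagonal'_injective ((Matrix.reindex e e).injective (congrArg Subtype.val h))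
      funext i
      exact Subtype.ext (Units.ext (congrFun h1 i))
    · rintro ⟨A, hA, hAT⟩
      rw [commute_projSet_iff] at hAT
      let M : (i : Fin (D + 1)) → Matrix (Fin (a i)) (Fin (a i)) F := fun i =>
        Matrix.of fun x y => A (e ⟨i, x⟩) (e ⟨i, y⟩)
      have hAM : A = Matrix.reindex e e (Matrix.blockDiagonal' M) := by
        ext k l
        rw [Matrix.reindex_apply, Matrix.submatrix_apply]
        obtain ⟨⟨i, x⟩, rfl⟩ := e.surjective k
        obtain ⟨⟨j, y⟩, rfl⟩ := e.surjective l
        rw [Equiv.symm_apply_apply, Equiv.symm_apply_apply]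
        by_cases hij : i = j
        · subst hij; rw [Matrix.blockDiagonal'_apply_eq]; rfl
        · rw [Matrix.blockDiagonal'_apply_ne _ _ _ hij]
          exact hAT _ _ fun h => hij (Fin.ext (by rw [he, he] at h; exact h))
      have hM : ∀ i, adj hF (M i) * M i = 1 := by
        rw [hAM, adj_reindex, ← Matrix.coe_reindexAlgEquiv F F, ← map_mul, hadj, ← Matrix.blockDiagonal'_mul,
          ← map_one (Matrix.reindexAlgEquiv F F e)] at hA
        have h1 := (Matrix.reindexAlgEquiv F F e).injective hA
        intro i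
        exact congrFun (Matrix.blockDiagonal'_injective (h1.trans Matrix.blockDiagonal'_one.symm)) i
      exact ⟨fun i => ⟨mkGL hF (M i) (hM i), mkGL_mem hF (M i) (hM i)⟩, Subtype.ext hAM.symm⟩
  rw [← Nat.card_congr (Equiv.ofBijective f hbij), Nat.card_pi,
    ← Fin.prod_univ_eq_prod_range (fun i => Nat.card (Cfsg.GU (Finset.univ.filter (fun k : Fin t => d k = i)).card F q))]

end BP

/-! ### The Jordan commutant with a twisted adjoint -/

include hF in
/-- A Hermitian Gram matrix preserved by one regular unipotent block. -/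
theorem exists_block_gram (i : ℕ) : ∃ G : Matrix (Fin i) (Fin i) F, IsUnit G ∧ adj hF G = G ∧
    adj hF (Cfsg.jordanBlock i F) * G * Cfsg.jordanBlock i F = G := by
  let e : ((_k : Fin 1) × Fin i) ≃ Fin i :=
    { toFun := fun x => x.2
      invFun := fun x => ⟨0, x⟩
      left_inv := fun ⟨k, x⟩ => by fin_cases k; rfl
      right_inv := fun x => rfl }
  obtain ⟨g, c, hc⟩ := exists_GU_of_type hF (fun _ : Fin 1 => i) e
  set J := Matrix.reindex e e (Cfsg.jordanTypeMatrix (fun _ : Fin 1 => i) F)
  have hJ : J = Cfsg.jordanBlock i F := by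
    ext x y
    simp [J, e, Cfsg.jordanTypeMatrix]
  rw [hJ] at hc
  set R : Matrix (Fin i) (Fin i) F := ((g : GL (Fin i) F) : Matrix (Fin i) (Fin i) F)
  set C : Matrix (Fin i) (Fin i) F := (c : Matrix (Fin i) (Fin i) F)
  have hcJ : C * Cfsg.jordanBlock i F = R * C := hc
  refine ⟨adj hF C * C, (isUnit_adj hF c.isUnit).mul c.isUnit, by rw [adj_mul, adj_adj], ?_⟩
  calc adj hF (Cfsg.jordanBlock i F) * (adj hF C * C) * Cfsg.jordanBlock i F
      = adj hF (C * Cfsg.jordanBlock i F) * (C * Cfsg.jordanBlock i F) := by rw [adj_mul]; noncomm_ring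
    _ = adj hF C * (adj hF R * R) * C := by rw [hcJ, adj_mul]; noncomm_ring
    _ = adj hF C * C := by rw [(mem_GU_iff hF _).1 g.2, mul_one]

open H42

include hF in
/-- The centraliser count in terms of the model element. -/
theorem card_centralizer_GU {n t : ℕ} (d : Fin t → ℕ) (hd : ∀ k, 1 ≤ d k)
    (e : ((k : Fin t) × Fin (d k)) ≃ Fin n) (u : ↥(Cfsg.GU n F q))
    (hu : IsConj (Matrix.reindex e e (Cfsg.jordanTypeMatrix d F))
      ((u : GL (Fin n) F) : Matrix (Fin n) (Fin n) F)) :
    Nat.card ↥(Subgroup.centralizer ({u} : Set ↥(Cfsg.GU n F q))) =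
      q ^ Fintype.card (JKerIdx d) * ∏ i ∈ Finset.range (Finset.univ.sup d + 1),
        Nat.card (Cfsg.GU (Finset.univ.filter (fun k : Fin t => d k = i)).card F q) := by
  classical
  choose Gb hGbu hGbh hGbJ using exists_block_gram hF
  -- the Gram matrix on the Jordan basis
  set G : JMat d F := Matrix.blockDiagonal' fun k => Gb (d k) with hGdef
  have hadjBD : ∀ M : (k : Fin t) → Matrix (Fin (d k)) (Fin (d k)) F,
      adj hF (Matrix.blockDiagonal' M) = Matrix.blockDiagonal' fun k => adj hF (M k) := fun M => by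
    rw [adj, Matrix.blockDiagonal'_map _ _ (map_zero (qFrob hF)), Matrix.blockDiagonal'_transpose]
    rfl
  have hGh : adj hF G = G := by rw [hGdef, hadjBD]; simp only [hGbh]
  have hGu : IsUnit G := by
    refine IsUnit.of_mul_eq_one (Matrix.blockDiagonal' fun k =>
      (((hGbu (d k)).unit⁻¹ : (Matrix (Fin (d k)) (Fin (d k)) F)ˣ) : Matrix _ _ F)) ?_
    rw [hGdef, ← Matrix.blockDiagonal'_mul]
    simp only [fun k => (hGbu (d k)).mul_val_inv]
    exact Matrix.blockDiagonal'_one
  set J : JMat d F := Cfsg.jordanTypeMatrix d F with hJdef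
  have hGJ : adj hF J * G * J = G := by
    rw [hJdef, Cfsg.jordanTypeMatrix, hGdef, hadjBD, ← Matrix.blockDiagonal'_mul, ← Matrix.blockDiagonal'_mul]
    simp only [hGbJ]
  obtain ⟨P, hPu, hPG⟩ := exists_adj_mul_self hF hGh hGu
  set Pi : JMat d F := ((hPu.unit⁻¹ : (JMat d F)ˣ) : JMat d F) with hPidef
  have hP1 : P * Pi = 1 := hPu.mul_val_inv
  have hP2 : Pi * P = 1 := hPu.val_inv_mul
  set u0 : JMat d F := P * J * Pi with hu0def
  have hu0 : adj hF u0 * u0 = 1 := by
    calc adj hF u0 * u0 = adj hF Pi * (adj hF J * (adj hF P * P) * J) * Pi := by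
          rw [hu0def, adj_mul, adj_mul]; noncomm_ring
      _ = adj hF Pi * (adj hF P * P) * Pi := by rw [hPG, hGJ]
      _ = adj hF (P * Pi) * (P * Pi) := by rw [adj_mul]; noncomm_ring
      _ = 1 := by rw [hP1, adj_one, one_mul]
  have hcomm0 : ∀ X : JMat d F, P * X * Pi * u0 = u0 * (P * X * Pi) ↔ X * J = J * X := by
    intro X
    have h1 : P * X * Pi * u0 = P * (X * J) * Pi := by
      rw [hu0def]
      calc P * X * Pi * (P * J * Pi) = P * X * (Pi * P) * J * Pi := by noncomm_ring
        _ = P * (X * J) * Pi := by rw [hP2]; noncomm_ring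
    have h2 : u0 * (P * X * Pi) = P * (J * X) * Pi := by
      rw [hu0def]
      calc P * J * Pi * (P * X * Pi) = P * J * (Pi * P) * X * Pi := by noncomm_ring
        _ = P * (J * X) * Pi := by rw [hP2]; noncomm_ring
    rw [h1, h2]
    refine ⟨fun h => ?_, fun h => by rw [h]⟩
    have := congrArg (fun Y => Pi * Y * P) h
    simpa only [← mul_assoc, hP2, one_mul, mul_assoc _ Pi P, mul_one] using this
  have hu0adj : ∀ A : JMat d F, IsUnit A → (∀ x ∈ ({u0} : Set (JMat d F)), A * x = x * A) →
      ∀ x ∈ ({u0} : Set (JMat d F)), adj hF A * x = x * adj hF A := by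
    intro A _ hA x hx
    rw [Set.mem_singleton_iff] at hx
    rw [hx]
    have h1 : adj hF u0 * adj hF A = adj hF A * adj hF u0 := by
      rw [← adj_mul, ← adj_mul, hA _ rfl]
    have hu0' : u0 * adj hF u0 = 1 := mul_eq_one_comm.1 hu0
    calc adj hF A * u0 = u0 * (adj hF u0 * adj hF A) * u0 := by
          rw [show u0 * (adj hF u0 * adj hF A) * u0 = (u0 * adj hF u0) * adj hF A * u0 by noncomm_ring,
            hu0', one_mul]
      _ = u0 * (adj hF A * (adj hF u0 * u0)) := by rw [h1]; noncomm_ring
      _ = u0 * adj hF A := by rw [hu0, mul_one]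
  -- all invertible matrices commuting with `u0`
  have hcardC : Nat.card (Cunits ({u0} : Set (JMat d F))) =
      Nat.card {B : GL (Fin t) F // ∀ k l, d k ≠ d l → (B : Matrix (Fin t) (Fin t) F) k l = 0} *
        Nat.card (JKerIdx d → F) := by
    rw [← Nat.card_prod, ← Nat.card_congr (jUnitsEquiv hd)]
    refine (Nat.card_congr (Equiv.subtypeEquiv (MulAut.conj hPu.unit).toEquiv fun g => ?_)).symm
    simp only [Set.mem_singleton_iff, forall_eq]
    exact (hcomm0 _).symm
  -- the twisted adjoint on the commutant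
  set Gi : JMat d F := ((hGu.unit⁻¹ : (JMat d F)ˣ) : JMat d F) with hGidef
  have hG1 : G * Gi = 1 := hGu.mul_val_inv
  have hG2 : Gi * G = 1 := hGu.val_inv_mul
  let st : JMat d F → JMat d F := fun X => Gi * adj hF X * G
  have st_def : ∀ X, st X = Gi * adj hF X * G := fun X => rfl
  have st_mul : ∀ X Y, st (X * Y) = st Y * st X := fun X Y => by
    rw [st_def, st_def, st_def, adj_mul]
    calc Gi * (adj hF Y * adj hF X) * G = Gi * adj hF Y * 1 * adj hF X * G := by noncomm_ring
      _ = _ := by rw [← hG1]; noncomm_ring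
  have hGih : adj hF Gi = Gi := by
    have h1 : adj hF Gi * G = 1 := by rw [← hGh, ← adj_mul, hG1, adj_one]
    calc adj hF Gi = adj hF Gi * (G * Gi) := by rw [hG1, mul_one]
      _ = Gi := by rw [← mul_assoc, h1, one_mul]
  have st_st : ∀ X, st (st X) = X := fun X => by
    rw [st_def, st_def, adj_mul, adj_mul, adj_adj, hGih, hGh]
    calc Gi * (G * (X * Gi)) * G = (Gi * G) * X * (Gi * G) := by noncomm_ring
      _ = X := by rw [hG2, one_mul, mul_one]
  have st_one : st 1 = 1 := by rw [st_def, adj_one, mul_one, hG2]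
  have st_add : ∀ X Y, st (X + Y) = st X + st Y := fun X Y => by
    rw [st_def, st_def, st_def, adj_add, mul_add, add_mul]
  have st_smul : ∀ (c : F) X, st (c • X) = c ^ q • st X := fun c X => by
    rw [st_def, st_def, adj_smul, mul_smul_comm, smul_mul_assoc]
  have st_sub : ∀ X Y, st (X - Y) = st X - st Y := fun X Y => by
    rw [st_def, st_def, st_def, adj_sub, mul_sub, sub_mul]
  have st_pow : ∀ X (j : ℕ), st (X ^ j) = st X ^ j := fun X j => by
    induction j with
    | zero => simp [st_one]
    | succ j ih => rw [pow_succ, st_mul, ih, pow_succ']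
  have st_nil : ∀ X, IsNilpotent X → IsNilpotent (st X) := fun X ⟨j, hj⟩ =>
    ⟨j, by rw [← st_pow, hj, st_def, adj_zero, mul_zero, zero_mul]⟩
  have hJu : IsUnit J := by
    have h1 := congrArg Matrix.det hGJ
    rw [Matrix.det_mul, Matrix.det_mul] at h1
    have hGd : IsUnit G.det := (Matrix.isUnit_iff_isUnit_det G).1 hGu
    rw [← h1] at hGd
    exact (Matrix.isUnit_iff_isUnit_det J).2 (isUnit_of_mul_isUnit_right hGd)
  have st_comm : ∀ X ∈ JComm d F, st X ∈ JComm d F := by
    intro X hX
    rw [← commute_jordan_iff] at hX ⊢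
    have h1 : st J * J = 1 := by
      rw [st_def, mul_assoc, mul_assoc, ← mul_assoc (adj hF J), hGJ, hG2]
    have h2 : J * st J = 1 := mul_eq_one_comm.1 h1
    have h3 : st J * st X = st X * st J := by rw [← st_mul, ← st_mul, hX]
    calc st X * Cfsg.jordanTypeMatrix d F = J * (st J * st X) * J := by
          rw [← mul_assoc, h2, one_mul]
      _ = J * (st X * (st J * J)) := by rw [h3]; noncomm_ring
      _ = _ := by rw [h1, mul_one]
  have st_sec : ∀ B : Matrix (Fin t) (Fin t) F, st (jSec d B) = jSec d (adj hF B) := by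
    intro B
    have hadjS : adj hF (jSec d B) = jSec d (adj hF B) := by
      ext ⟨k, r⟩ ⟨l, s⟩
      simp only [adj_apply, jSec, Matrix.of_apply]
      by_cases h : d l = d k ∧ (s : ℕ) = r
      · rw [if_pos h, if_pos ⟨h.1.symm, h.2.symm⟩]
      · rw [if_neg h, if_neg (fun h' => h ⟨h'.1.symm, h'.2.symm⟩), zero_pow (q_pos hF).ne']
    have hGS : ∀ C : Matrix (Fin t) (Fin t) F, jSec d C * G = G * jSec d C := by
      intro C
      have hcongr : ∀ {i j : ℕ} (h : i = j) (x y : Fin i),
          Gb i x y = Gb j (Fin.cast h x) (Fin.cast h y) := by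
        intro i j h x y; subst h; rfl
      ext ⟨k, r⟩ ⟨l, s⟩
      rw [Matrix.mul_apply, Matrix.mul_apply, Fintype.sum_sigma, Fintype.sum_sigma,
        Finset.sum_eq_single l, Finset.sum_eq_single k]
      · simp only [hGdef, Matrix.blockDiagonal'_apply_eq, jSec, Matrix.of_apply]
        by_cases h : d k = d l
        · simp only [h, true_and]
          rw [Finset.sum_eq_single (Fin.cast h r), Finset.sum_eq_single (Fin.cast h.symm s)]
          · simp only [Fin.val_cast, if_true]
            rw [hcongr h r (Fin.cast h.symm s), mul_comm]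
            rfl
          · intro x _ hx
            rw [if_neg (show ¬ ((x : ℕ) = (s : ℕ)) from fun e => hx (Fin.ext e)), mul_zero]
          · simp
          · intro x _ hx
            rw [if_neg fun e => hx (Fin.ext e.symm), zero_mul]
          · simp
        · simp [h]
      · intro m _ hm
        exact Finset.sum_eq_zero fun x _ => by
          rw [hGdef, Matrix.blockDiagonal'_apply_ne _ _ _ (Ne.symm hm), zero_mul]
      · simp
      · intro m _ hm
        exact Finset.sum_eq_zero fun x _ => by
          rw [hGdef, Matrix.blockDiagonal'_apply_ne _ _ _ hm, mul_zero]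
      · simp
    rw [st_def, hadjS, mul_assoc, hGS, ← mul_assoc, hG2, one_mul]
  have st_ker : ∀ X ∈ JComm d F, jLead d hd X = 0 → jLead d hd (st X) = 0 := by
    intro X hX h0
    ext k l
    by_cases hkl : d k = d l
    swap
    · exact jLead_off hd _ _ _ hkl
    let E : Matrix (Fin t) (Fin t) F := Matrix.single l k 1
    have hE : ∀ a b, d a ≠ d b → E a b = 0 := fun a b hab => by
      simp only [E, Matrix.single_apply]
      rw [if_neg]
      rintro ⟨rfl, rfl⟩
      exact hab hkl.symm
    have hE' : ∀ a b, d a ≠ d b → adj hF E a b = 0 := fun a b hab => by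
      rw [adj_apply, hE b a (Ne.symm hab), zero_pow (q_pos hF).ne']
    have hnilker : IsNilpotent (jSec d (adj hF E) * X) := by
      refine isNilpotent_of_jLead_eq_zero hd ((JComm d F).mul_mem (jSec_mem _) hX) ?_
      rw [jLead_mul hd (jSec_mem _) hX, h0, mul_zero]
    obtain ⟨j, hj⟩ := st_nil _ hnilker
    rw [st_mul, st_sec, adj_adj] at hj
    have hmem : st X * jSec d E ∈ JComm d F := (JComm d F).mul_mem (st_comm X hX) (jSec_mem _)
    have hpow : ∀ m, jLead d hd ((st X * jSec d E) ^ m) = jLead d hd (st X * jSec d E) ^ m := fun m => by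
      induction m with
      | zero => rw [pow_zero, pow_zero, jLead_one]
      | succ m ih => rw [pow_succ, pow_succ, jLead_mul hd ((JComm d F).pow_mem hmem m) hmem, ih]
    have h3 : IsNilpotent (jLead d hd (st X) * E) := ⟨j, by
      rw [show jLead d hd (st X) * E = jLead d hd (st X * jSec d E) by
        rw [jLead_mul hd (st_comm X hX) (jSec_mem _), jLead_jSec hd hE], ← hpow, hj]
      ext a b; simp [jLead]⟩
    have h4 := (Matrix.isNilpotent_trace_of_isNilpotent h3).eq_zero
    simp only [E] at h4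
    rw [Matrix.trace_mul_single] at h4
    simpa using h4
  have st_lead : ∀ X ∈ JComm d F, jLead d hd (st X) = adj hF (jLead d hd X) := by
    intro X hX
    have h := st_ker (X - jSec d (jLead d hd X)) ((JComm d F).sub_mem hX (jSec_mem _))
      (by rw [jLead_sub, jLead_jSec hd (jLead_off hd _), sub_self])
    rw [st_sub, jLead_sub, st_sec, sub_eq_zero, jLead_jSec hd] at h
    · exact h
    · intro a b hab
      rw [adj_apply, jLead_off hd X b a (Ne.symm hab), zero_pow (q_pos hF).ne']
  -- Hermitian units commuting with `u0`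
  let N := {M : JMat d F // M ∈ JComm d F ∧ jLead d hd M = 0}
  let NH := {M : N // st M.1 = M.1}
  have hherm : ∀ X : JMat d F, adj hF (P * X * Pi) = P * X * Pi ↔ st X = X := by
    intro X
    have h1 : adj hF P * adj hF (P * X * Pi) * P = adj hF X * G := by
      rw [adj_mul, adj_mul, ← mul_assoc, ← adj_mul, ← hPG]
      calc adj hF (Pi * P) * (adj hF X * adj hF P) * P = adj hF X * (adj hF P * P) := by
            rw [hP2, adj_one]; noncomm_ring
        _ = _ := rfl
    have h2 : adj hF P * (P * X * Pi) * P = G * X := by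
      rw [← hPG]
      calc adj hF P * (P * X * Pi) * P = adj hF P * P * X * (Pi * P) := by noncomm_ring
        _ = _ := by rw [hP2, mul_one]
    constructor
    · intro h
      rw [h, h2] at h1
      rw [st_def, mul_assoc, ← h1, ← mul_assoc, hG2, one_mul]
    · intro h
      have h3 : adj hF X * G = G * X := by
        conv_rhs => rw [← h, st_def, ← mul_assoc, ← mul_assoc, hG1, one_mul]
      rw [h3, ← h2] at h1
      exact hPu.mul_right_cancel ((isUnit_adj hF hPu).mul_left_cancel (by
        rw [← mul_assoc, ← mul_assoc]; exact h1))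
  have hdec : ∀ X ∈ JComm d F, st X = X ↔ adj hF (jLead d hd X) = jLead d hd X ∧
      st (X - jSec d (jLead d hd X)) = X - jSec d (jLead d hd X) := by
    intro X hX
    constructor
    · intro h
      have hl : adj hF (jLead d hd X) = jLead d hd X := by rw [← st_lead X hX, h]
      exact ⟨hl, by rw [st_sub, h, st_sec, hl]⟩
    · rintro ⟨h1, h2⟩
      rw [st_sub, st_sec, h1] at h2
      exact sub_left_injective h2
  have hcardH : Nat.card (Cherm hF ({u0} : Set (JMat d F))) =
      Nat.card (Cherm hF (projSet (F := F) d)) * Nat.card NH := by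
    have hX : ∀ h : Cherm hF ({u0} : Set (JMat d F)), Pi * h.1 * P ∈ JComm d F := by
      intro h
      rw [← commute_jordan_iff, ← hJdef, ← hcomm0]
      rw [show P * (Pi * h.1 * P) * Pi = (P * Pi) * h.1 * (P * Pi) by noncomm_ring, hP1, one_mul,
        mul_one]
      exact h.2.2.2 u0 rfl
    have hXst : ∀ h : Cherm hF ({u0} : Set (JMat d F)), st (Pi * h.1 * P) = Pi * h.1 * P := by
      intro h
      rw [← hherm, show P * (Pi * h.1 * P) * Pi = (P * Pi) * h.1 * (P * Pi) by noncomm_ring, hP1,
        one_mul, mul_one, h.2.2.1]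
    let f : Cherm hF ({u0} : Set (JMat d F)) → Cherm hF (projSet (F := F) d) × NH := fun h =>
      (⟨jLead d hd (Pi * h.1 * P), (isUnit_iff_isUnit_jLead hd (hX h)).1
          (((Units.isUnit _).mul h.2.1).mul hPu),
        ((hdec _ (hX h)).1 (hXst h)).1, (commute_projSet_iff d _).2 (jLead_off hd _)⟩,
      ⟨⟨Pi * h.1 * P - jSec d (jLead d hd (Pi * h.1 * P)), (JComm d F).sub_mem (hX h) (jSec_mem _),
        by rw [jLead_sub, jLead_jSec hd (jLead_off hd _), sub_self]⟩,
        ((hdec _ (hX h)).1 (hXst h)).2⟩)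
    have hbij : Function.Bijective f := by
      constructor
      · intro h h' he
        have h1 : jLead d hd (Pi * h.1 * P) = jLead d hd (Pi * h'.1 * P) :=
          congrArg (fun p => p.1.1) he
        have h2 : Pi * h.1 * P - jSec d (jLead d hd (Pi * h.1 * P)) =
            Pi * h'.1 * P - jSec d (jLead d hd (Pi * h'.1 * P)) :=
          congrArg (fun p : Cherm hF (projSet (F := F) d) × NH => p.2.1.1) he
        rw [h1] at h2
        have h3 := congrArg (fun Y => P * Y * Pi) (sub_left_injective h2)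
        refine Subtype.ext ?_
        simpa only [← mul_assoc, hP1, one_mul, mul_assoc _ P Pi, mul_one] using h3
      · rintro ⟨⟨B, hBu, hBh, hBT⟩, ⟨⟨Z, hZ, hZ0⟩, hZs⟩⟩
        rw [commute_projSet_iff] at hBT
        set X := jSec d B + Z with hXdef
        have hXm : X ∈ JComm d F := (JComm d F).add_mem (jSec_mem _) hZ
        have hXl : jLead d hd X = B := by
          have h1 : jLead d hd (X - jSec d B) = 0 := by rw [hXdef, add_sub_cancel_left, hZ0]
          rwa [jLead_sub, jLead_jSec hd hBT, sub_eq_zero] at h1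
        have hXu : IsUnit X := (isUnit_iff_isUnit_jLead hd hXm).2 (by rw [hXl]; exact hBu)
        have hback : Pi * (P * X * Pi) * P = X := by
          rw [show Pi * (P * X * Pi) * P = (Pi * P) * X * (Pi * P) by noncomm_ring, hP2, one_mul,
            mul_one]
        refine ⟨⟨P * X * Pi, (hPu.mul hXu).mul (Units.isUnit _), (hherm X).2 ((hdec X hXm).2
          ⟨by rw [hXl, hBh], by rw [hXl, hXdef, add_sub_cancel_left]; exact hZs⟩), ?_⟩, ?_⟩
        · rintro x rfl
          exact (hcomm0 X).2 (commute_jordan_iff.2 hXm)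
        · refine Prod.ext (Subtype.ext ?_) (Subtype.ext (Subtype.ext ?_))
          · show jLead d hd (Pi * (P * X * Pi) * P) = B
            rw [hback, hXl]
          · show Pi * (P * X * Pi) * P - jSec d (jLead d hd (Pi * (P * X * Pi) * P)) = Z
            rw [hback, hXl, hXdef, add_sub_cancel_left]
    rw [← Nat.card_prod, Nat.card_congr (Equiv.ofBijective f hbij)]
  -- fixed points of the semilinear involution on the kernel
  have hNH : Nat.card NH = q ^ Fintype.card (JKerIdx d) := by
    obtain ⟨θ, -, hθ⟩ := exists_theta hF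
    have hsm : ∀ (c : F) {Y : JMat d F}, jLead d hd Y = 0 → jLead d hd (c • Y) = 0 := by
      intro c Y hY
      ext k l
      have := congrFun (congrFun hY k) l
      simp only [jLead, Matrix.of_apply, Matrix.zero_apply] at this ⊢
      split_ifs with h
      · rw [if_pos h] at this; simp [this]
      · rfl
    let f : NH × NH → N := fun p => ⟨p.1.1.1 + θ • p.2.1.1,
      (JComm d F).add_mem p.1.1.2.1 ((JComm d F).smul_mem p.2.1.2.1 θ), by
        rw [← sub_neg_eq_add, jLead_sub, p.1.1.2.2, ← neg_smul, hsm _ p.2.1.2.2, sub_zero]⟩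
    have hbij : Function.Bijective f := by
      constructor
      · rintro ⟨a, b⟩ ⟨a', b'⟩ he
        have h1 : a.1.1 + θ • b.1.1 = a'.1.1 + θ • b'.1.1 := congrArg Subtype.val he
        have h2 := congrArg st h1
        rw [st_add, st_add, st_smul, st_smul, a.2, b.2, a'.2, b'.2] at h2
        have h3 : (θ - θ ^ q) • (b.1.1 - b'.1.1) = 0 := by
          linear_combination (norm := module) h1 - h2
        have h4 : b.1.1 = b'.1.1 := sub_eq_zero.1 ((smul_eq_zero.1 h3).resolve_left hθ)
        rw [h4] at h1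
        exact Prod.ext (Subtype.ext (Subtype.ext (add_right_cancel h1))) (Subtype.ext (Subtype.ext h4))
      · rintro ⟨Z, hZ, hZ0⟩
        set b := (θ - θ ^ q)⁻¹ • (Z - st Z) with hb
        have hbm : b ∈ JComm d F :=
          (JComm d F).smul_mem ((JComm d F).sub_mem hZ (st_comm Z hZ)) _
        have hb0 : jLead d hd b = 0 := hsm _ (by rw [jLead_sub, hZ0, st_ker Z hZ hZ0, sub_zero])
        have hbs : st b = b := by
          rw [hb, st_smul, st_sub, st_st, inv_pow, sub_pow_q hF, pow_q_q hF,
            show (θ ^ q - θ) = -(θ - θ ^ q) by ring, inv_neg]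
          module
        have ha : st (Z - θ • b) = Z - θ • b := by
          have h5 : (θ - θ ^ q) • b = Z - st Z := by rw [hb, smul_inv_smul₀ hθ]
          rw [st_sub, st_smul, hbs]
          linear_combination (norm := module) h5
        refine ⟨(⟨⟨Z - θ • b, (JComm d F).sub_mem hZ ((JComm d F).smul_mem hbm θ),
          by rw [jLead_sub, hZ0, hsm _ hb0, sub_zero]⟩, ha⟩, ⟨⟨b, hbm, hb0⟩, hbs⟩), Subtype.ext ?_⟩
        exact sub_add_cancel _ _
    have h1 : Nat.card NH * Nat.card NH = (q ^ 2) ^ Fintype.card (JKerIdx d) := by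
      rw [← Nat.card_prod, Nat.card_congr (Equiv.ofBijective f hbij),
        Nat.card_congr (jKerEquiv hd), Nat.card_fun, Nat.card_eq_fintype_card,
        Nat.card_eq_fintype_card, hF]
    rw [← pow_mul, two_mul, pow_add] at h1
    exact Nat.mul_self_inj.1 h1
  -- assembling
  have hBP : Nat.card {B : GL (Fin t) F // ∀ k l, d k ≠ d l → (B : Matrix (Fin t) (Fin t) F) k l = 0} =
      Nat.card (Cunit hF (projSet (F := F) d)) * Nat.card (Cherm hF (projSet (F := F) d)) := by
    rw [← card_units_eq_mul hF (projSet d) (fun A _ hA => adj_projSet hF d A hA)]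
    exact Nat.card_congr (Equiv.subtypeEquivRight fun B => (commute_projSet_iff d _).symm)
  have hKcard : Nat.card (JKerIdx d → F) = q ^ Fintype.card (JKerIdx d) * q ^ Fintype.card (JKerIdx d) := by
    rw [Nat.card_fun, Nat.card_eq_fintype_card, Nat.card_eq_fintype_card, hF, ← pow_add, ← pow_mul,
      two_mul]
  have hpos : 0 < Nat.card (Cherm hF (projSet (F := F) d)) * q ^ Fintype.card (JKerIdx d) :=
    Nat.mul_pos (@Nat.card_pos _ ⟨⟨1, isUnit_one, adj_one hF, fun x _ => by simp⟩⟩ _)
      (pow_pos (q_pos hF) _)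
  have hmain : Nat.card (Cunit hF ({u0} : Set (JMat d F))) =
      q ^ Fintype.card (JKerIdx d) * Nat.card (Cunit hF (projSet (F := F) d)) := by
    have h1 := card_units_eq_mul hF ({u0} : Set (JMat d F)) hu0adj
    rw [hcardC, hcardH, hNH, hBP, hKcard] at h1
    refine (Nat.eq_of_mul_eq_mul_right hpos ?_).symm
    rw [← h1]; ring
  -- transport to `u`
  set u0' : Matrix (Fin n) (Fin n) F := Matrix.reindex e e u0 with hu0'
  have hu0'U : adj hF u0' * u0' = 1 := by
    rw [hu0', adj_reindex, ← Matrix.coe_reindexAlgEquiv F F, ← map_mul, hu0, map_one]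
  let U0 : ↥(Cfsg.GU n F q) := ⟨mkGL hF u0' hu0'U, mkGL_mem hF u0' hu0'U⟩
  have hconj : IsConj (Matrix.reindex e e (Cfsg.jordanTypeMatrix d F)) u0' := by
    refine ⟨Units.map (Matrix.reindexAlgEquiv F F e).toMonoidHom hPu.unit, ?_⟩
    show Matrix.reindexAlgEquiv F F e P * Matrix.reindexAlgEquiv F F e J =
      Matrix.reindexAlgEquiv F F e u0 * Matrix.reindexAlgEquiv F F e P
    rw [← map_mul, ← map_mul, hu0def, mul_assoc _ Pi, hP2, mul_one]
  have hc : IsConj U0 u := gu_isConj_of_matrix hF (hconj.symm.trans hu)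
  obtain ⟨c, hc⟩ := isConj_iff.1 hc
  have hcent : Nat.card ↥(Subgroup.centralizer ({u} : Set ↥(Cfsg.GU n F q))) =
      Nat.card ↥(Subgroup.centralizer ({U0} : Set ↥(Cfsg.GU n F q))) := by
    refine (Nat.card_congr (Equiv.subtypeEquiv (MulAut.conj c).toEquiv fun g => ?_)).symm
    rw [Subgroup.mem_centralizer_singleton_iff, Subgroup.mem_centralizer_singleton_iff]
    show _ ↔ MulAut.conj c g * u = u * MulAut.conj c g
    rw [← hc]
    constructor <;> intro h
    · simp only [MulAut.conj_apply]
      calc c * g * c⁻¹ * (c * U0 * c⁻¹) = c * (g * U0) * c⁻¹ := by group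
        _ = _ := by rw [h]; group
    · simp only [MulAut.conj_apply] at h
      calc g * U0 = c⁻¹ * (c * g * c⁻¹ * (c * U0 * c⁻¹)) * c := by group
        _ = _ := by rw [h]; group
  have hfin : Nat.card ↥(Subgroup.centralizer ({U0} : Set ↥(Cfsg.GU n F q))) =
      Nat.card (Cunit hF ({u0} : Set (JMat d F))) := by
    let r := Matrix.reindexAlgEquiv F F e
    let f : Cunit hF ({u0} : Set (JMat d F)) → ↥(Subgroup.centralizer ({U0} : Set ↥(Cfsg.GU n F q))) :=
      fun A => ⟨⟨mkGL hF (r A.1) (by
          show adj hF (Matrix.reindex e e A.1) * Matrix.reindex e e A.1 = 1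
          rw [adj_reindex, ← Matrix.coe_reindexAlgEquiv F F, ← map_mul, A.2.1, map_one]),
          mkGL_mem hF _ _⟩, Subgroup.mem_centralizer_singleton_iff.2 (Subtype.ext (Units.ext (by
            show r A.1 * r u0 = r u0 * r A.1
            rw [← map_mul, ← map_mul, A.2.2 u0 rfl])))⟩
    refine (Nat.card_eq_of_bijective f ⟨fun A B h => ?_, fun g => ?_⟩).symm
    · exact Subtype.ext (r.injective (congrArg (fun x : ↥(Subgroup.centralizer ({U0} : Set ↥(Cfsg.GU n F q))) =>
        (((x : ↥(Cfsg.GU n F q)) : GL (Fin n) F) : Matrix (Fin n) (Fin n) F)) h))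
    · set A : JMat d F := r.symm (((g : ↥(Cfsg.GU n F q)) : GL (Fin n) F) : Matrix (Fin n) (Fin n) F) with hA
      have h1 : adj hF A * A = 1 := by
        apply r.injective
        rw [map_mul, map_one, show r (adj hF A) = adj hF (r A) from (adj_reindex hF e e A).symm,
          hA, AlgEquiv.apply_symm_apply]
        exact (mem_GU_iff hF _).1 (g : ↥(Cfsg.GU n F q)).2
      have h2 : A * u0 = u0 * A := by
        apply r.injective
        rw [map_mul r A u0, map_mul r u0 A, hA, AlgEquiv.apply_symm_apply]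
        exact congrArg (fun x : ↥(Cfsg.GU n F q) => ((x : GL (Fin n) F) : Matrix (Fin n) (Fin n) F))
          (Subgroup.mem_centralizer_singleton_iff.1 g.2)
      refine ⟨⟨A, h1, fun x hx => by rw [Set.mem_singleton_iff.1 hx]; exact h2⟩,
        Subtype.ext (Subtype.ext (Units.ext ?_))⟩
      show r A = _
      rw [hA, AlgEquiv.apply_symm_apply]
  rw [hcent, hfin, hmain, card_Cunit_projSet hF d _ fun k => Finset.le_sup (Finset.mem_univ k)]

end UnipCent

end H51
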